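import Cfsg.Agent.FixSixth.Fix
import Mathlib

/-!
# Change of the base field

A representation in matrices keeps the dimensions of the fixed spaces under a field homomorphism, and
two fields over a common field embed in a common algebraically closed field.
-/

set_option autoImplicit false
set_option linter.unusedSectionVars false

namespace CfsgLib.FixSixth

open Module Matrix
open scoped TensorProduct

universe w

/-- The rank is invariant under a homomorphism of fields. -/
theorem rank_map_of_field {m : Type*} [Fintype m] [DecidableEq m] {K L : Type*} [Field K] [Field L]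
    (φ : K →+* L) (M : Matrix m m K) : (M.map φ).rank = M.rank := by
  classical
  obtain ⟨V, U, e, hV, hU, h⟩ := M.exists_rank_normal_form
  have hr : ∀ (F : Type _) [Field F],
      ((fromBlocks (1 : Matrix (Fin M.rank) (Fin M.rank) F) 0 0
        (0 : Matrix (Fin (Fintype.card m - M.rank)) (Fin (Fintype.card m - M.rank)) F)).submatrix e e).rank =
      M.rank := by
    intro F _
    rw [rank_submatrix, ← diagonal_one, ← diagonal_zero, fromBlocks_diagonal, rank_diagonal,
      Fintype.card_subtype]
    simp [Finset.card_filter, Fintype.sum_sum_type]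
  have h1 := congrArg φ.mapMatrix h
  rw [map_mul, map_mul] at h1
  have h2 := congrArg Matrix.rank h1
  rw [rank_mul_eq_left_of_isUnit_det _ _ ((isUnit_iff_isUnit_det _).1 (hU.map φ.mapMatrix)),
    rank_mul_eq_right_of_isUnit_det _ _ ((isUnit_iff_isUnit_det _).1 (hV.map φ.mapMatrix))] at h2
  have h3 : φ.mapMatrix ((fromBlocks (1 : Matrix (Fin M.rank) (Fin M.rank) K) 0 0
      (0 : Matrix (Fin (Fintype.card m - M.rank)) (Fin (Fintype.card m - M.rank)) K)).submatrix e e) =
      (fromBlocks (1 : Matrix (Fin M.rank) (Fin M.rank) L) 0 0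
        (0 : Matrix (Fin (Fintype.card m - M.rank)) (Fin (Fintype.card m - M.rank)) L)).submatrix e e := by
    rw [RingHom.mapMatrix_apply, ← submatrix_map, fromBlocks_map,
      Matrix.map_one _ (map_zero φ) (map_one φ)]
    simp
  rw [h3, hr] at h2
  exact h2

theorem fx_add_rank {F : Type*} [Field F] {n : ℕ} (f : Module.End F (Fin n → F))
    (A : Matrix (Fin n) (Fin n) F) (hA : Matrix.toLinAlgEquiv' A = f) : fx f + (A - 1).rank = n := by
  have h := LinearMap.finrank_range_add_finrank_ker (f - 1)
  rw [finrank_fin_fun] at h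
  have hr : (A - 1).rank = finrank F (LinearMap.range (f - 1)) := by
    rw [← hA, ← map_one (Matrix.toLinAlgEquiv' (R := F) (n := Fin n)), ← map_sub]
    rfl
  rw [fx, hr]
  omega

/-- The representation over a larger field, in a basis. -/
theorem exists_base_change {G : Type*} [Monoid G] {k : Type*} [Field k] {L : Type w} [Field L]
    (φ : k →+* L) {V : Type*} [AddCommGroup V] [Module k V] [FiniteDimensional k V]
    (ρ : Representation k G V) :
    ∃ τ : Representation L G (Fin (finrank k V) → L), ∀ g, fx (τ g) = fx (ρ g) := by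
  classical
  set b := Module.finBasis k V
  let M : G →* Matrix (Fin (finrank k V)) (Fin (finrank k V)) k :=
    (LinearMap.toMatrixAlgEquiv b).toMonoidHom.comp ρ
  refine ⟨(Matrix.toLinAlgEquiv' (R := L)).toMonoidHom.comp
    (φ.mapMatrix.toMonoidHom.comp M), fun g => ?_⟩
  have h1 := fx_add_rank ((Matrix.toLinAlgEquiv' (R := L)) (φ.mapMatrix (M g))) (φ.mapMatrix (M g)) rfl
  have h2 := fx_add_rank (Matrix.toLinAlgEquiv' (M g)) (M g) rfl
  have h3 : fx (ρ g) = fx (Matrix.toLinAlgEquiv' (R := k) (M g)) :=
    fx_conj b.equivFun _ _ fun v => by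
      rw [Matrix.toLinAlgEquiv'_apply]
      exact (LinearMap.toMatrix_mulVec_repr b b (ρ g) v).symm
  have h4 : (φ.mapMatrix (M g) - 1).rank = (M g - 1).rank := by
    rw [← map_one φ.mapMatrix, ← map_sub]
    exact rank_map_of_field φ _
  show fx (Matrix.toLinAlgEquiv' (R := L) (φ.mapMatrix (M g))) = fx (ρ g)
  omega

/-- Two fields over a common field embed in an algebraically closed field. -/
theorem exists_common_field (P : Type*) [Field P] (A : Type w) [Field A] [Algebra P A] (C : Type)
    [Field C] [Algebra P C] :
    ∃ (Ω : Type w) (_ : Field Ω) (_ : IsAlgClosed Ω), Nonempty (A →+* Ω) ∧ Nonempty (C →+* Ω) := by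
  haveI : Nontrivial (A ⊗[P] C) :=
    Algebra.TensorProduct.nontrivial_of_algebraMap_injective_of_isDomain P A C
      (algebraMap P A).injective (algebraMap P C).injective
  obtain ⟨M, hM⟩ := Ideal.exists_maximal (A ⊗[P] C)
  haveI := hM
  letI := Ideal.Quotient.field M
  refine ⟨AlgebraicClosure ((A ⊗[P] C) ⧸ M), inferInstance, inferInstance,
    ⟨((algebraMap _ _).comp (Ideal.Quotient.mk M)).comp Algebra.TensorProduct.includeLeftRingHom⟩,
    ⟨((algebraMap _ _).comp (Ideal.Quotient.mk M)).comp
      (Algebra.TensorProduct.includeRight (R := P) (A := A) (B := C)).toRingHom⟩⟩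

end CfsgLib.FixSixth
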