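import Cfsg.Agent.SL2CharTable.Borel
import Cfsg.Agent.SL2CharTable.DiagAut
import Cfsg.Agent.SL2Trace.Order

/-!
# Elements of `SL₂(p)`

`up c`, `tor a` and `J` with the relations used for its modules; `up 1` and `J` generate and `up 1`
has the whole group as normal closure.
-/

set_option autoImplicit false
set_option linter.unusedSectionVars false

namespace CfsgLib.FixSixth

open Matrix
open scoped MatrixGroups

variable {F : Type*} [Field F]

/-- The upper unitriangular element. -/
def up (c : F) : SL(2, F) := ⟨!![1, c; 0, 1], by simp [Matrix.det_fin_two]⟩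

/-- The diagonal element. -/
def tor (a : Fˣ) : SL(2, F) := ⟨!![(a : F), 0; 0, ↑a⁻¹], by simp [Matrix.det_fin_two]⟩

/-- The Weyl element. -/
def J : SL(2, F) := ⟨!![0, -1; 1, 0], by simp [Matrix.det_fin_two]⟩

/-- An element of order three. -/
def w3 : SL(2, F) := up (-1) * J

theorem coe_up (c : F) : ((up c : SL(2, F)) : Matrix (Fin 2) (Fin 2) F) = !![1, c; 0, 1] := rfl

theorem coe_tor (a : Fˣ) : ((tor a : SL(2, F)) : Matrix (Fin 2) (Fin 2) F) = !![(a : F), 0; 0, ↑a⁻¹] := rfl

theorem coe_J : ((J : SL(2, F)) : Matrix (Fin 2) (Fin 2) F) = !![0, -1; 1, 0] := rfl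

theorem up_add (c d : F) : up (c + d) = up c * up d := by
  apply Subtype.ext
  rw [Matrix.SpecialLinearGroup.coe_mul, coe_up, coe_up, coe_up, Matrix.mul_fin_two]
  ext i j; fin_cases i <;> fin_cases j <;> simp <;> ring

theorem up_zero : up (0 : F) = 1 := by
  apply Subtype.ext
  rw [coe_up, Matrix.SpecialLinearGroup.coe_one, Matrix.one_fin_two]

theorem up_natCast (n : ℕ) : up (n : F) = up 1 ^ n := by
  induction n with
  | zero => rw [Nat.cast_zero, up_zero, pow_zero]
  | succ n ih => rw [Nat.cast_succ, up_add, ih, pow_succ]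

theorem up_inv (c : F) : (up c)⁻¹ = up (-c) := by
  rw [inv_eq_iff_mul_eq_one, ← up_add, add_neg_cancel, up_zero]

theorem tor_mul (a b : Fˣ) : tor (a * b) = tor a * tor b := by
  apply Subtype.ext
  rw [Matrix.SpecialLinearGroup.coe_mul, coe_tor, coe_tor, coe_tor, Matrix.mul_fin_two]
  ext i j; fin_cases i <;> fin_cases j <;> simp [mul_comm]

theorem tor_one : tor (1 : Fˣ) = 1 := by
  apply Subtype.ext
  rw [coe_tor, Matrix.SpecialLinearGroup.coe_one, Matrix.one_fin_two]
  simp

theorem tor_neg_one : tor (-1 : Fˣ) = -1 := by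
  apply Subtype.ext
  rw [coe_tor, Matrix.SpecialLinearGroup.coe_neg, Matrix.SpecialLinearGroup.coe_one, Matrix.one_fin_two]
  ext i j; fin_cases i <;> fin_cases j <;> simp

theorem tor_conj_up (a : Fˣ) (c : F) : tor a * up c = up ((a : F) ^ 2 * c) * tor a := by
  apply Subtype.ext
  simp only [Matrix.SpecialLinearGroup.coe_mul, coe_tor, coe_up, Matrix.mul_fin_two]
  ext i j; fin_cases i <;> fin_cases j <;> simp <;> field_simp

theorem J_sq : (J : SL(2, F)) * J = -1 := by
  apply Subtype.ext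
  rw [Matrix.SpecialLinearGroup.coe_mul, coe_J, Matrix.mul_fin_two,
    Matrix.SpecialLinearGroup.coe_neg, Matrix.SpecialLinearGroup.coe_one, Matrix.one_fin_two]
  ext i j; fin_cases i <;> fin_cases j <;> simp

theorem J_mul_tor (a : Fˣ) : J * tor a = tor a⁻¹ * J := by
  apply Subtype.ext
  simp only [Matrix.SpecialLinearGroup.coe_mul, coe_tor, coe_J, Matrix.mul_fin_two, inv_inv]
  ext i j; fin_cases i <;> fin_cases j <;> simp

/-- The relation moving the Weyl element past an unipotent element. -/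
theorem J_up_J (c : Fˣ) :
    J * up (c : F) * J = up (-((c⁻¹ : Fˣ) : F)) * tor c⁻¹ * J * up (-((c⁻¹ : Fˣ) : F)) := by
  apply Subtype.ext
  simp only [Matrix.SpecialLinearGroup.coe_mul, coe_tor, coe_J, coe_up, Matrix.mul_fin_two, inv_inv]
  ext i j; fin_cases i <;> fin_cases j <;> simp

theorem tr_w3 : Matrix.trace ((w3 : SL(2, F)) : Matrix (Fin 2) (Fin 2) F) = -1 := by
  rw [w3, Matrix.SpecialLinearGroup.coe_mul, coe_up, coe_J, Matrix.mul_fin_two, Matrix.trace_fin_two]
  simp

theorem w3_pow_three : (w3 : SL(2, F)) ^ 3 = 1 := by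
  rw [w3, show (3 : ℕ) = 2 + 1 from rfl, pow_succ, pow_two]
  apply Subtype.ext
  simp only [Matrix.SpecialLinearGroup.coe_mul, coe_J, coe_up, Matrix.mul_fin_two,
    Matrix.SpecialLinearGroup.coe_one, Matrix.one_fin_two]
  ext i j; fin_cases i <;> fin_cases j <;> simp

theorem w3_ne_one : (w3 : SL(2, F)) ≠ 1 := fun h => by
  have h1 := congrArg (fun g : SL(2, F) => g 1 0) h
  simp [w3, coe_up, coe_J] at h1

theorem orderOf_w3 : orderOf (w3 : SL(2, F)) = 3 := orderOf_eq_prime w3_pow_three w3_ne_one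

/-- An element of order three has trace `-1`. -/
theorem trace_of_orderOf_three {g : SL(2, F)} (hg : orderOf g = 3) :
    Matrix.trace (g : Matrix (Fin 2) (Fin 2) F) = -1 := by
  by_contra ht
  set t := Matrix.trace (g : Matrix (Fin 2) (Fin 2) F) with htdef
  set M := (g : Matrix (Fin 2) (Fin 2) F) with hM
  have h1 := SL2Trace.cayley g t rfl
  rw [← hM] at h1
  have h3 : M ^ 3 = 1 := by
    rw [hM, ← Matrix.SpecialLinearGroup.coe_pow, ← hg, pow_orderOf_eq_one]; rfl
  have hsq : M ^ 2 = t • M - 1 := by linear_combination (norm := abel) h1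
  rw [show (3 : ℕ) = 2 + 1 from rfl, pow_succ, hsq, sub_mul, one_mul, smul_mul_assoc, ← pow_two, hsq,
    smul_sub, smul_smul] at h3
  have hne : t + 1 ≠ 0 := fun e => ht (eq_neg_of_add_eq_zero_left e)
  have key : (t + 1) • ((t - 1) • M) = (t + 1) • (1 : Matrix (Fin 2) (Fin 2) F) := by
    have e : (t * t) • M - t • (1 : Matrix (Fin 2) (Fin 2) F) - M = 1 := h3
    rw [smul_smul, show (t + 1) * (t - 1) = t * t - 1 by ring, sub_smul, one_smul, add_smul, one_smul]
    linear_combination (norm := abel) e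
  have hM1 := smul_right_injective _ hne key
  have hd := congrArg Matrix.det hM1
  rw [Matrix.det_smul, Fintype.card_fin, hM, Matrix.SpecialLinearGroup.det_coe, mul_one, Matrix.det_one]
    at hd
  have htr := congrArg Matrix.trace hM1
  rw [Matrix.trace_smul, ← htdef, Matrix.trace_one, Fintype.card_fin, smul_eq_mul] at htr
  push_cast at htr
  have h0 : (t + 1) * (t - 2) = 0 := by linear_combination htr
  have ht2 : t = 2 := sub_eq_zero.1 ((mul_eq_zero.1 h0).resolve_left hne)
  rw [ht2] at hM1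
  norm_num at hM1
  have : g = 1 := Subtype.ext hM1
  rw [this, orderOf_one] at hg
  norm_num at hg

/-- Two elements of order three are conjugate or have the same trace. -/
theorem isConj_of_orderOf_three [Fintype F] [DecidableEq F] (h3 : (3 : F) ≠ 0) {g h : SL(2, F)}
    (hg : orderOf g = 3) (hh : orderOf h = 3) : IsConj g h :=
  SL2Trace.isConj_of_trace_eq g h
    (by rw [trace_of_orderOf_three hg, trace_of_orderOf_three hh])
    (by rw [trace_of_orderOf_three hg]; intro e; exact h3 (by linear_combination -e))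

variable {p : ℕ} [Fact p.Prime]

theorem up_val (c : ZMod p) : up c = up 1 ^ c.val := by
  conv_lhs => rw [← ZMod.natCast_zmod_val c]
  rw [up_natCast]

theorem mem_of_up_J {S : Subgroup SL(2, ZMod p)} (hu : up 1 ∈ S) (hJ : J ∈ S) (g : SL(2, ZMod p)) :
    g ∈ S := by
  have hup : ∀ c : ZMod p, up c ∈ S := fun c => up_val c ▸ pow_mem hu _
  have htor : ∀ b : (ZMod p)ˣ, tor b ∈ S := fun b => by
    have h := J_up_J b⁻¹
    rw [inv_inv] at h
    have e : tor b = (up (-(b : ZMod p)))⁻¹ * (J * up ((b⁻¹ : (ZMod p)ˣ) : ZMod p) * J) *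
        ((up (-(b : ZMod p)))⁻¹ * J⁻¹) := by rw [h]; group
    rw [e]
    exact mul_mem (mul_mem (inv_mem (hup _)) (mul_mem (mul_mem hJ (hup _)) hJ))
      (mul_mem (inv_mem (hup _)) (inv_mem hJ))
  have hd := g.2
  rw [Matrix.det_fin_two] at hd
  by_cases hc : g 1 0 = 0
  · rw [hc, mul_zero, sub_zero] at hd
    let a : (ZMod p)ˣ := ⟨g 0 0, g 1 1, hd, by rw [mul_comm]; exact hd⟩
    have e : g = up (g 0 1 * g 0 0) * tor a := by
      apply Subtype.ext
      rw [Matrix.SpecialLinearGroup.coe_mul, coe_up, coe_tor, Matrix.mul_fin_two]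
      ext i j
      fin_cases i <;> fin_cases j <;> simp [a, hc]
      linear_combination (-(g 0 1)) * hd
    rw [e]
    exact mul_mem (hup _) (htor a)
  · have e : g = up (g 0 0 / g 1 0) * tor (Units.mk0 _ hc)⁻¹ * J * up (g 1 1 / g 1 0) := by
      apply Subtype.ext
      simp only [Matrix.SpecialLinearGroup.coe_mul, coe_up, coe_tor, coe_J, Matrix.mul_fin_two,
        inv_inv, Units.val_inv_eq_inv_val, Units.val_mk0]
      ext i j
      fin_cases i <;> fin_cases j <;> simp <;> field_simp
      linear_combination -hd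
    rw [e]
    exact mul_mem (mul_mem (mul_mem (hup _) (htor _)) hJ) (hup _)

/-- A normal subgroup containing `up 1` is everything. -/
theorem eq_top_of_up_mem {N : Subgroup SL(2, ZMod p)} [hN : N.Normal] (hu : up 1 ∈ N) : N = ⊤ := by
  have hJ : (J : SL(2, ZMod p)) ∈ N := by
    have hc : J * up 1 * J⁻¹ ∈ N := hN.conj_mem _ hu J
    have h := J_up_J (1 : (ZMod p)ˣ)
    rw [inv_one, Units.val_one, tor_one, mul_one] at h
    have e : (J : SL(2, ZMod p))⁻¹ = up 1 * (J * up 1 * J⁻¹) * up 1 := by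
      have hJ1 : up 1 * (J * up 1 * J) * up 1 = (J : SL(2, ZMod p)) := by
        rw [h, show up (-(1 : ZMod p)) = (up 1)⁻¹ from (up_inv _).symm]; group
      have hcomm : (-1 : SL(2, ZMod p)) * up 1 = up 1 * -1 := by
        apply Subtype.ext; simp
      calc (J : SL(2, ZMod p))⁻¹ = J * (J * J)⁻¹ := by group
        _ = up 1 * (J * up 1 * J) * up 1 * (J * J)⁻¹ := by rw [hJ1]
        _ = up 1 * (J * up 1 * J⁻¹) * ((J * J) * up 1 * (J * J)⁻¹) := by group
        _ = _ := by rw [J_sq, hcomm, mul_inv_cancel_right]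
    exact inv_mem_iff.1 (e ▸ mul_mem (mul_mem hu hc) hu)
  exact eq_top_iff.2 fun g _ => mem_of_up_J hu hJ g

end CfsgLib.FixSixth
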