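import Cfsg.Agent.FixSixth.Weights
import Cfsg.Agent.FixSixth.Elements

/-!
# The simple modules of `SL₂(p)` in characteristic `p` are chains

A simple module has a vector `e` with basis `N ^ i e` for `i < m`, of weights `2 i - (m - 1)`, where
`N` is the weight two operator, and is spanned by the translates of the image under `J` of a highest
weight vector.
-/

set_option autoImplicit false
set_option linter.unusedSectionVars false

namespace CfsgLib.FixSixth

open Module Matrix
open scoped MatrixGroups

theorem linearIndependent_chain {k : Type*} [Field k] {V : Type*} [AddCommGroup V] [Module k V]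
    (N : Module.End k V) (e : V) : ∀ {m : ℕ}, (N ^ m) e = 0 → (∀ i < m, (N ^ i) e ≠ 0) →
      LinearIndependent k fun i : Fin m => (N ^ (i : ℕ)) e := by
  classical
  intro m hm hne
  rw [Fintype.linearIndependent_iff]
  intro c hc
  by_contra h
  push Not at h
  obtain ⟨i0, hi0⟩ := h
  obtain ⟨i, hi, hmin⟩ := Finset.exists_min_image (Finset.univ.filter fun j => c j ≠ 0)
    (fun j : Fin m => (j : ℕ)) ⟨i0, Finset.mem_filter.2 ⟨Finset.mem_univ _, hi0⟩⟩
  rw [Finset.mem_filter] at hi
  have him := i.2
  have h1 := congrArg (N ^ (m - 1 - (i : ℕ))) hc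
  rw [map_zero, map_sum, Finset.sum_eq_single i] at h1
  · rw [map_smul, ← Module.End.mul_apply, ← pow_add, smul_eq_zero] at h1
    exact h1.elim hi.2 fun h2 => hne (m - 1) (by omega) (by rwa [show m - 1 - (i : ℕ) + i = m - 1 by omega] at h2)
  · intro j _ hj
    by_cases hcj : c j = 0
    · rw [hcj, zero_smul, map_zero]
    · have hle := hmin j (Finset.mem_filter.2 ⟨Finset.mem_univ _, hcj⟩)
      have hlt : (i : ℕ) < j := lt_of_le_of_ne hle fun e => hj (Fin.ext e.symm)
      rw [map_smul, ← Module.End.mul_apply, ← pow_add,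
        show m - 1 - (i : ℕ) + j = ((j : ℕ) - i - 1) + m by omega, pow_add, Module.End.mul_apply, hm,
        map_zero, smul_zero]
  · exact fun h => absurd (Finset.mem_univ _) h

variable {p : ℕ} [Fact p.Prime] {k : Type*} [Field k] [CharP k p]

/-- The embedding of the prime field. -/
def emb (p : ℕ) [Fact p.Prime] (k : Type*) [Field k] [CharP k p] : ZMod p →+* k :=
  ZMod.castHom dvd_rfl k

/-- The units of the prime field inside `k`. -/
noncomputable def embU (p : ℕ) [Fact p.Prime] (k : Type*) [Field k] [CharP k p] : (ZMod p)ˣ →* kˣ :=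
  Units.map (emb p k).toMonoidHom

/-- The powers of the units of the prime field. -/
noncomputable def ch (p : ℕ) [Fact p.Prime] (k : Type*) [Field k] [CharP k p] (a : (ZMod p)ˣ) (i : ℤ) : k :=
  ((embU p k a ^ i : kˣ) : k)

theorem emb_natCast (n : ℕ) : emb p k (n : ZMod p) = (n : k) := map_natCast _ n

theorem emb_val (c : ZMod p) : ((c.val : ℕ) : k) = emb p k c := by
  rw [← emb_natCast (p := p), ZMod.natCast_zmod_val]

theorem embU_pow (a : (ZMod p)ˣ) : embU p k a ^ (p - 1) = 1 := by
  rw [← map_pow, ZMod.units_pow_card_sub_one_eq_one, map_one]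

theorem ch_add (a : (ZMod p)ˣ) (i j : ℤ) : ch p k a (i + j) = ch p k a i * ch p k a j := by
  simp [ch, _root_.zpow_add]

theorem ch_mul (a b : (ZMod p)ˣ) (i : ℤ) : ch p k (a * b) i = ch p k a i * ch p k b i := by
  simp [ch, mul_zpow]

theorem ch_inv (a : (ZMod p)ˣ) (i : ℤ) : ch p k a⁻¹ i = ch p k a (-i) := by simp [ch, _root_.inv_zpow']

theorem ch_zero (a : (ZMod p)ˣ) : ch p k a 0 = 1 := by simp [ch]

theorem ch_one (i : ℤ) : ch p k 1 i = 1 := by simp [ch]

theorem ch_ne_zero (a : (ZMod p)ˣ) (i : ℤ) : ch p k a i ≠ 0 := Units.ne_zero _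

theorem ch_congr (a : (ZMod p)ˣ) {i j : ℤ} (h : i ≡ j [ZMOD ((p - 1 : ℕ) : ℤ)]) :
    ch p k a i = ch p k a j := by
  rw [ch, ch, zpow_eq_of_modEq (embU_pow a) h]

theorem ch_natCast (a : (ZMod p)ˣ) (i : ℕ) : ch p k a i = emb p k ((a : ZMod p) ^ i) := by
  simp [ch, embU]

variable {V : Type*} [AddCommGroup V] [Module k V] (π : Representation k SL(2, ZMod p) V) (v : V)

/-- The translates of `J v`. -/
noncomputable def ev (c : ZMod p) : V := π (up c) (π J v)

/-- The nilpotent operator. -/
noncomputable def xop : Module.End k V := π (up 1) - 1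

/-- The weighted sums of translates. -/
noncomputable def ff (i : ℤ) : V := ∑ c : (ZMod p)ˣ, ch p k c i • ev π v (c : ZMod p)

/-- The coefficients of the weighted sums. -/
noncomputable def coef (p : ℕ) [Fact p.Prime] (k : Type*) [Field k] [CharP k p] (i : ℤ) (j : ℕ) : k :=
  ∑ c : (ZMod p)ˣ, ch p k c i * ((Nat.choose (c : ZMod p).val j : ℕ) : k)

theorem up_apply_eq (c : ZMod p) : π (up c) = (xop π + 1) ^ c.val := by
  rw [xop, sub_add_cancel, ← map_pow, ← up_val]

theorem ev_eq (c : ZMod p) :
    ev π v c = ∑ j ∈ Finset.range p, ((c.val.choose j : ℕ) : k) • (xop π ^ j) (π J v) := by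
  rw [ev, up_apply_eq, (Commute.one_right (xop π)).add_pow]
  rw [LinearMap.sum_apply]
  refine Finset.sum_subset_zero_on_sdiff (Finset.range_mono (by have := c.val_lt; omega))
    (fun j hj => ?_) (fun j _ => ?_)
  · rw [Finset.mem_sdiff, Finset.mem_range, Finset.mem_range] at hj
    rw [Nat.choose_eq_zero_of_lt (by omega), Nat.cast_zero, zero_smul]
  · rw [one_pow, mul_one, Nat.cast_smul_eq_nsmul, ← nsmul_eq_mul' (xop π ^ j) (c.val.choose j),
      LinearMap.smul_apply]

theorem ff_eq (i : ℤ) :
    ff π v i = ∑ j ∈ Finset.range p, coef p k i j • (xop π ^ j) (π J v) := by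
  simp only [ff, ev_eq, Finset.smul_sum, smul_smul, coef, Finset.sum_smul]
  rw [Finset.sum_comm]

theorem factorial_mul_coef (i j : ℕ) :
    ((j.factorial : ℕ) : k) * coef p k i j = emb p k
      (∑ l ∈ Finset.range (j + 1), (descPochhammer (ZMod p) j).coeff l *
        ∑ c : (ZMod p)ˣ, ((c ^ (i + l) : (ZMod p)ˣ) : ZMod p)) := by
  rw [coef, Finset.mul_sum, ← Nat.cast_id j]
  simp only [Nat.cast_id, Finset.mul_sum, map_sum]
  rw [Finset.sum_comm]
  refine Finset.sum_congr rfl fun c _ => ?_
  rw [← map_sum]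
  have h1 : ∑ l ∈ Finset.range (j + 1), (descPochhammer (ZMod p) j).coeff l *
      ((c ^ (i + l) : (ZMod p)ˣ) : ZMod p) =
      (c : ZMod p) ^ i * (descPochhammer (ZMod p) j).eval (c : ZMod p) := by
    rw [Polynomial.eval_eq_sum_range' (n := j + 1) (by rw [descPochhammer_natDegree]; omega),
      Finset.mul_sum]
    refine Finset.sum_congr rfl fun l _ => ?_
    rw [Units.val_pow_eq_pow_val, pow_add]; ring
  rw [h1, map_mul, ← ch_natCast]
  conv_rhs => rw [← ZMod.natCast_zmod_val (c : ZMod p), descPochhammer_eval_eq_descFactorial,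
    emb_natCast, Nat.descFactorial_eq_factorial_mul_choose, Nat.cast_mul]
  ring

theorem factorial_ne_zero {j : ℕ} (hj : j < p) : ((j.factorial : ℕ) : k) ≠ 0 := by
  rw [Ne, CharP.cast_eq_zero_iff k p, Nat.Prime.dvd_factorial (Fact.out : p.Prime)]
  omega

theorem sum_units_pow (i : ℕ) :
    ∑ c : (ZMod p)ˣ, ((c ^ i : (ZMod p)ˣ) : ZMod p) = if p - 1 ∣ i then -1 else 0 := by
  have h := FiniteField.sum_pow_units (ZMod p) i
  rw [ZMod.card] at h
  simpa [Units.val_pow_eq_pow_val] using h

theorem coef_eq_zero {i j : ℕ} (hi : i + j < p - 1) (h : 1 ≤ i ∨ 1 ≤ j) : coef p k i j = 0 := by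
  refine (mul_eq_zero.1 ((factorial_mul_coef (k := k) (p := p) i j).trans ?_)).resolve_left
    (factorial_ne_zero (by omega))
  rw [Finset.sum_eq_zero, map_zero]
  intro l hl
  rw [Finset.mem_range] at hl
  rw [sum_units_pow]
  by_cases hd : p - 1 ∣ i + l
  · have h0 := Nat.eq_zero_of_dvd_of_lt hd (by omega)
    obtain rfl : l = 0 := by omega
    have hj : j ≠ 0 := by omega
    rw [Polynomial.coeff_zero_eq_eval_zero, descPochhammer_ne_zero_eval_zero _ hj, zero_mul]
  · rw [if_neg hd, mul_zero]

theorem coef_leading {i : ℕ} (hi : 1 ≤ i) (hi' : i ≤ p - 2) : coef p k i (p - 1 - i) ≠ 0 := by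
  intro h0
  have h := factorial_mul_coef (k := k) (p := p) i (p - 1 - i)
  rw [h0, mul_zero, Finset.sum_eq_single (p - 1 - i)] at h
  · rw [sum_units_pow, if_pos (by rw [Nat.add_sub_cancel' (by omega : i ≤ p - 1)])] at h
    have hm := (monic_descPochhammer (ZMod p) (p - 1 - i)).coeff_natDegree
    rw [descPochhammer_natDegree] at hm
    rw [hm, one_mul, map_neg, map_one] at h
    exact one_ne_zero (neg_eq_zero.1 h.symm)
  · intro l hl hne
    rw [Finset.mem_range] at hl
    rw [sum_units_pow, if_neg, mul_zero]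
    intro hd
    have := Nat.le_of_dvd (by omega) hd
    omega
  · intro hl
    exact absurd (Finset.mem_range.2 (by omega)) hl

theorem coef_zero_zero : coef p k 0 0 = -1 := by
  have h := factorial_mul_coef (k := k) (p := p) 0 0
  rw [Nat.factorial_zero, Nat.cast_one, one_mul, Finset.sum_range_one, sum_units_pow, if_pos (show p - 1 ∣ 0 + 0 from dvd_zero _),
    descPochhammer_zero, Polynomial.coeff_one_zero, one_mul, map_neg, map_one, Nat.cast_zero] at h
  exact h

/-- A highest weight vector of weight `kk`. -/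
structure IsHigh (kk : ℤ) : Prop where
  fixed : π (up 1) v = v
  weight : ∀ a, π (tor a) v = ch p k a kk • v

variable {π v} {kk : ℤ}

/-- In characteristic `p` the geometric sum of length `p` is a power. -/
theorem pred_pow_eq_geom (U : Module.End k V) :
    (U - 1) ^ (p - 1) = ∑ l ∈ Finset.range p, U ^ l := by
  have h : (Polynomial.X - 1 : Polynomial k) ^ (p - 1) = ∑ l ∈ Finset.range p, Polynomial.X ^ l := by
    have h0 : (Polynomial.X - 1 : Polynomial k) ≠ 0 := by
      simpa using Polynomial.X_sub_C_ne_zero (1 : k)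
    apply mul_left_cancel₀ h0
    rw [mul_geom_sum, ← pow_succ', Nat.sub_add_cancel (Fact.out : p.Prime).one_le, sub_pow_char, one_pow]
  simpa using congrArg (Polynomial.aeval U) h

theorem IsHigh.up_apply (h : IsHigh π v kk) (c : ZMod p) : π (up c) v = v := by
  rw [up_val]
  induction c.val with
  | zero => simp
  | succ i ih => rw [pow_succ, map_mul, Module.End.mul_apply, h.fixed, ih]

theorem IsHigh.tor_J (h : IsHigh π v kk) (a : (ZMod p)ˣ) :
    π (tor a) (π J v) = ch p k a (-kk) • π J v := by
  have e : tor a * J = J * tor a⁻¹ := by rw [J_mul_tor, inv_inv]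
  rw [← Module.End.mul_apply, ← map_mul, e, map_mul, Module.End.mul_apply, h.weight, map_smul, ch_inv]

theorem IsHigh.J_ev (h : IsHigh π v kk) (c : (ZMod p)ˣ) :
    π J (ev π v (c : ZMod p)) = ch p k c kk • ev π v ((-c⁻¹ : (ZMod p)ˣ) : ZMod p) := by
  rw [ev, ← Module.End.mul_apply (π J), ← map_mul, ← Module.End.mul_apply, ← map_mul, J_up_J, mul_assoc,
    mul_assoc, map_mul, Module.End.mul_apply, map_mul, Module.End.mul_apply, map_mul, Module.End.mul_apply,
    h.up_apply, h.tor_J, map_smul, ch_inv, neg_neg]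
  rfl

theorem IsHigh.J_ev_zero (h : IsHigh π v kk) : π J (ev π v 0) = ch p k (-1) kk • v := by
  rw [ev, up_zero, map_one, Module.End.one_apply, ← Module.End.mul_apply, ← map_mul, J_sq, ← tor_neg_one,
    h.weight]

theorem IsHigh.J_ff (h : IsHigh π v kk) (i : ℤ) :
    π J (ff π v i) = ch p k (-1) (i + kk) • ff π v (-(i + kk)) := by
  simp only [ff, map_sum, map_smul, h.J_ev, Finset.smul_sum, smul_smul, ← ch_add]
  let e : (ZMod p)ˣ ≃ (ZMod p)ˣ := Function.Involutive.toPerm (fun c => -c⁻¹) fun c => by simp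
  refine Fintype.sum_equiv e _ _ fun c => ?_
  show _ = (ch p k (-1) (i + kk) * ch p k (-c⁻¹) (-(i + kk))) • ev π v ((-c⁻¹ : (ZMod p)ˣ) : ZMod p)
  congr 1
  rw [← neg_one_mul c⁻¹, ch_mul, ch_inv, neg_neg, ← mul_assoc, ← ch_add, add_neg_cancel, ch_zero, one_mul]

theorem ff_zero (h : (xop π ^ (p - 1)) (π J v) = 0) : ff π v 0 = -(π J v) := by
  have hp2 := (Fact.out : p.Prime).two_le
  rw [ff_eq, Finset.sum_eq_single 0]
  · rw [coef_zero_zero, neg_one_smul, pow_zero, Module.End.one_apply]
  · intro j hj hne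
    rw [Finset.mem_range] at hj
    rcases Nat.lt_or_ge j (p - 1) with hlt | hge
    · rw [show (0 : ℤ) = ((0 : ℕ) : ℤ) from rfl, coef_eq_zero (by omega) (Or.inr (by omega)), zero_smul]
    · rw [show j = (j - (p - 1)) + (p - 1) by omega, pow_add, Module.End.mul_apply, h, map_zero, smul_zero]
  · intro h0
    exact absurd (Finset.mem_range.2 (by omega)) h0

/-- In a short chain the highest weight vector is a weighted sum of translates. -/
theorem IsHigh.eq_neg_ff (h : IsHigh π v kk) (hx : (xop π ^ (p - 1)) (π J v) = 0) :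
    v = -ff π v (-kk) := by
  have h1 := h.J_ff 0
  rw [zero_add, ff_zero hx, map_neg,
    show π J (π J v) = π J (ev π v 0) by rw [ev, up_zero, map_one, Module.End.one_apply],
    h.J_ev_zero, ← smul_neg] at h1
  exact neg_eq_iff_eq_neg.1 (smul_right_injective V (ch_ne_zero _ _) h1)

variable (π v)

/-- The span of the vector and of the translates of its image. -/
noncomputable def orbitSpan : Submodule k V :=
  Submodule.span k {v} ⊔ Submodule.span k (Set.range (ev π v))

variable {π v}

/-- The span is invariant. -/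
theorem IsHigh.orbitSpan_invariant (h : IsHigh π v kk) :
    ∀ g, ∀ x ∈ orbitSpan π v, π g x ∈ orbitSpan π v := by
  have hv : v ∈ orbitSpan π v := Submodule.mem_sup_left (Submodule.mem_span_singleton_self v)
  have hev : ∀ c, ev π v c ∈ orbitSpan π v := fun c =>
    Submodule.mem_sup_right (Submodule.subset_span ⟨c, rfl⟩)
  let S : Submonoid SL(2, ZMod p) :=
    { carrier := {g | ∀ x ∈ orbitSpan π v, π g x ∈ orbitSpan π v}
      one_mem' := fun x hx => by rw [map_one]; exact hx
      mul_mem' := fun {a b} ha hb x hx => by rw [map_mul, Module.End.mul_apply]; exact ha _ (hb x hx) }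
  have hgen : ∀ g, π g v ∈ orbitSpan π v → (∀ c, π g (ev π v c) ∈ orbitSpan π v) → g ∈ S := by
    intro g h1 h2 x hx
    have : orbitSpan π v ≤ (orbitSpan π v).comap (π g) := sup_le
      ((Submodule.span_singleton_le_iff_mem _ _).2 h1)
      (Submodule.span_le.2 (by rintro _ ⟨c, rfl⟩; exact h2 c))
    exact this hx
  have hu : up 1 ∈ S := hgen _ (by rw [h.fixed]; exact hv) fun c => by
    rw [ev, ← Module.End.mul_apply, ← map_mul, ← up_add]
    exact hev _
  have hJ : J ∈ S := hgen _ (by
      have := hev 0; rwa [ev, up_zero, map_one, Module.End.one_apply] at this) fun c => by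
    by_cases hc : c = 0
    · rw [hc, h.J_ev_zero]; exact Submodule.smul_mem _ _ hv
    · rw [show c = ((Units.mk0 c hc : (ZMod p)ˣ) : ZMod p) from rfl, h.J_ev]
      exact Submodule.smul_mem _ _ (hev _)
  let H : Subgroup SL(2, ZMod p) :=
    { S with
      inv_mem' := fun {g} hg => by
        rw [show g⁻¹ = g ^ (orderOf g - 1) from inv_eq_of_mul_eq_one_right (by
          rw [← pow_succ', Nat.sub_add_cancel (orderOf_pos g), pow_orderOf_eq_one])]
        exact pow_mem (S := S) hg _ }
  exact fun g => mem_of_up_J (S := H) hu hJ g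

theorem xop_pow_p : xop π ^ p = 0 := by
  rcases subsingleton_or_nontrivial V with hV | hV
  · exact LinearMap.ext fun x => Subsingleton.elim _ _
  haveI : CharP (Module.End k V) p := charP_of_injective_algebraMap' k p
  rw [xop, sub_pow_char_of_commute p (Commute.one_right _), one_pow, ← map_pow, ← up_natCast, ZMod.natCast_self,
    up_zero, map_one, sub_self]

theorem span_ev_le : Submodule.span k (Set.range (ev π v)) ≤
    Submodule.span k (Set.range fun j : Fin p => (xop π ^ (j : ℕ)) (π J v)) := by
  rw [Submodule.span_le]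
  rintro _ ⟨c, rfl⟩
  rw [SetLike.mem_coe, ev_eq]
  exact Submodule.sum_mem _ fun j hj =>
    Submodule.smul_mem _ _ (Submodule.subset_span ⟨⟨j, Finset.mem_range.1 hj⟩, rfl⟩)

variable (π v)

/-- The weight two data of the representation. -/
theorem isWeightTwo {γ : (ZMod p)ˣ} :
    IsWeightTwo (embU p k γ) (p - 1) (π (tor γ)) (π (up 1)) := by
  have hp1 : ((p - 1 : ℕ) : k) = -1 := by
    rw [Nat.cast_sub (Fact.out : p.Prime).one_le, CharP.cast_eq_zero, Nat.cast_one, zero_sub]
  refine ⟨embU_pow γ, by rw [hp1]; exact neg_ne_zero.2 one_ne_zero, ?_, ?_,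
    ((γ : ZMod p) ^ 2).val, ?_, ?_⟩
  · have : ∀ n, tor γ ^ n = tor (γ ^ n) := fun n => by
      induction n with
      | zero => rw [pow_zero, pow_zero, tor_one]
      | succ n ih => rw [pow_succ, pow_succ, ih, tor_mul]
    rw [← map_pow, this, ZMod.units_pow_card_sub_one_eq_one, tor_one, map_one]
  · exact ⟨p, xop_pow_p⟩
  · rw [emb_val, map_pow]; rfl
  · rw [← map_pow, ← map_mul, ← map_mul, tor_conj_up, mul_one, ← up_val]

/-- **The chain.** -/
theorem exists_chain [FiniteDimensional k V] [IsAlgClosed k] (hπ : IsSimple π) {γ : (ZMod p)ˣ}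
    (hγ : ∀ a, a ∈ Subgroup.zpowers γ) :
    ∃ (m : ℕ) (v : V), 1 ≤ m ∧ m ≤ p ∧ finrank k V = m ∧ IsHigh π v ((m : ℤ) - 1) ∧
      LinearIndependent k (fun i : Fin m =>
        (wN (embU p k γ) (p - 1) (π (tor γ)) (π (up 1)) ^ (i : ℕ)) (π J v)) ∧
      (wN (embU p k γ) (p - 1) (π (tor γ)) (π (up 1)) ^ m) (π J v) = 0 ∧
      LinearIndependent k (fun i : Fin m => (xop π ^ (i : ℕ)) (π J v)) ∧
      (xop π ^ m) (π J v) = 0 ∧ (m = p → v = -∑ c : ZMod p, ev π v c) := by
  classical
  haveI := hπ.1
  have hp2 := (Fact.out : p.Prime).two_le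
  set f := π (tor γ) with hf
  set x := xop π with hxdef
  -- a fixed eigenvector
  set K := LinearMap.ker x with hK
  have hKne : K ≠ ⊥ := fun hbot => by
    have hinj : Function.Injective x := LinearMap.ker_eq_bot.1 hbot
    have hp' : Function.Injective ⇑(x ^ p) := by rw [Module.End.coe_pow]; exact hinj.iterate p
    obtain ⟨w, hw⟩ := exists_ne (0 : V)
    exact hw (hp' (by rw [xop_pow_p, LinearMap.zero_apply, LinearMap.zero_apply]))
  have hKmem : ∀ w, w ∈ K ↔ π (up 1) w = w := fun w => by
    rw [hK, hxdef, xop, LinearMap.mem_ker, LinearMap.sub_apply, Module.End.one_apply, sub_eq_zero]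
  have hinv : ∀ w ∈ K, f w ∈ K := fun w hw => by
    rw [hKmem] at hw ⊢
    have e : up 1 * tor γ = tor γ * up (((γ⁻¹ : (ZMod p)ˣ) : ZMod p) ^ 2) := by
      rw [tor_conj_up, ← mul_pow, ← Units.val_mul, mul_inv_cancel, Units.val_one, one_pow]
    rw [hf, ← Module.End.mul_apply, ← map_mul, e, map_mul, Module.End.mul_apply, up_val]
    congr 1
    induction ((((γ⁻¹ : (ZMod p)ˣ) : ZMod p) ^ 2).val) with
    | zero => simp
    | succ i ih => rw [pow_succ, map_mul, Module.End.mul_apply, hw, ih]
  haveI := Submodule.nontrivial_iff_ne_bot.2 hKne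
  obtain ⟨lam, hlam⟩ := Module.End.exists_eigenvalue (f.restrict hinv)
  obtain ⟨⟨v, hvK⟩, hev⟩ := hlam.exists_hasEigenvector
  have hv0 : v ≠ 0 := fun e => hev.2 (Subtype.ext e)
  have hfv : f v = lam • v := congrArg Subtype.val hev.apply_eq_smul
  have hfp : f ^ (p - 1) = 1 := (isWeightTwo π (γ := γ)).f_pow
  have hpowv : ∀ i : ℕ, (f ^ i) v = lam ^ i • v := fun i => by
    induction i with
    | zero => simp
    | succ i ih => rw [pow_succ', Module.End.mul_apply, ih, map_smul, hfv, smul_smul, pow_succ]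
  have hlam1 : lam ^ (p - 1) = 1 := smul_left_injective k hv0 (by
    show lam ^ (p - 1) • v = (1 : k) • v
    rw [← hpowv, hfp, one_smul, Module.End.one_apply])
  have hord : orderOf γ = p - 1 := by
    rw [orderOf_eq_card_of_forall_mem_zpowers hγ, Nat.card_eq_fintype_card, ZMod.card_units]
  have hinjU : Function.Injective (embU p k) := Units.map_injective (emb p k).injective
  have hprim : IsPrimitiveRoot ((embU p k γ : kˣ) : k) (p - 1) := by
    rw [IsPrimitiveRoot.coe_units_iff, ← hord, ← orderOf_injective (embU p k) hinjU]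
    exact IsPrimitiveRoot.orderOf _
  haveI : NeZero (p - 1) := ⟨by omega⟩
  obtain ⟨k0, -, hk0⟩ := hprim.eq_pow_of_pow_eq_one hlam1
  have htpow : ∀ n : ℕ, π (tor (γ ^ n)) = f ^ n := fun n => by
    induction n with
    | zero => rw [pow_zero, pow_zero, tor_one, map_one]
    | succ n ih => rw [pow_succ, pow_succ, tor_mul, map_mul, ih]
  have high0 : IsHigh π v (k0 : ℤ) := ⟨(hKmem v).1 hvK, fun a => by
    obtain ⟨n, rfl⟩ := mem_powers_iff_mem_zpowers.2 (hγ a)
    show π (tor (γ ^ n)) v = ch p k (γ ^ n) (k0 : ℤ) • v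
    rw [htpow, hpowv, ← hk0, ch, map_pow]
    simp [← pow_mul, mul_comm]⟩
  -- the chain
  set e0 := π J v with he0
  have he0ne : e0 ≠ 0 := fun h0 => hv0 (by
    have h1 := congrArg (π J⁻¹) h0
    rwa [map_zero, he0, ← Module.End.mul_apply, ← map_mul, inv_mul_cancel, map_one, Module.End.one_apply] at h1)
  have hex : ∃ j, (x ^ j) e0 = 0 := ⟨p, by rw [xop_pow_p, LinearMap.zero_apply]⟩
  set m := Nat.find hex with hm
  have hm0 : (x ^ m) e0 = 0 := Nat.find_spec hex
  have hmne : ∀ i < m, (x ^ i) e0 ≠ 0 := fun i hi => Nat.find_min hex hi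
  have hmp : m ≤ p := Nat.find_le (by rw [xop_pow_p, LinearMap.zero_apply])
  have hm1 : 1 ≤ m := Nat.one_le_iff_ne_zero.2 fun h0 => by
    rw [h0] at hm0
    exact he0ne hm0
  have hLI := linearIndependent_chain x e0 hm0 hmne
  set C := Submodule.span k (Set.range fun i : Fin m => (x ^ (i : ℕ)) e0) with hC
  have hCrk : finrank k C = m := by rw [hC, finrank_span_eq_card hLI, Fintype.card_fin]
  have hCev : Submodule.span k (Set.range (ev π v)) ≤ C := by
    refine span_ev_le.trans (Submodule.span_le.2 ?_)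
    rintro _ ⟨j, rfl⟩
    rcases Nat.lt_or_ge (j : ℕ) m with hj | hj
    · exact Submodule.subset_span ⟨⟨j, hj⟩, rfl⟩
    · show (xop π ^ (j : ℕ)) (π J v) ∈ C
      rw [show ((xop π) ^ (j : ℕ)) (π J v) = (x ^ ((j : ℕ) - m + m)) e0 by
        rw [Nat.sub_add_cancel hj], pow_add, Module.End.mul_apply, hm0, map_zero]
      exact zero_mem _
  have hall : ∀ w, w ∈ Submodule.span k {v} ⊔ C := fun w => by
    have htop : orbitSpan π v = ⊤ := (hπ.2 _ high0.orbitSpan_invariant).resolve_left fun hbot =>
      hv0 ((Submodule.mem_bot k).1 (hbot ▸ Submodule.mem_sup_left (Submodule.mem_span_singleton_self v)))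
    exact sup_le_sup le_rfl hCev (htop ▸ Submodule.mem_top : w ∈ orbitSpan π v)
  have hxv : x v = 0 := LinearMap.mem_ker.1 hvK
  suffices hgoal : v ∈ C ∧ ((k0 : ℤ) ≡ (m : ℤ) - 1 [ZMOD ((p - 1 : ℕ) : ℤ)]) ∧
      (m = p → v = -∑ c : ZMod p, ev π v c) by
    obtain ⟨hvC, hk, hS⟩ := hgoal
    exact
      ⟨m, v, hm1, hmp, by
        rw [← hCrk, show C = ⊤ from eq_top_iff.2 fun w _ =>
          (sup_le ((Submodule.span_singleton_le_iff_mem _ _).2 hvC) le_rfl) (hall w), finrank_top],
        ⟨high0.fixed, fun a => by rw [high0.weight, ch_congr a hk]⟩,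
        linearIndependent_chain _ _ (LinearMap.mem_ker.1 (by
          rw [ker_wN_pow (isWeightTwo π)]; exact LinearMap.mem_ker.2 hm0)) fun i hi h0 => hmne i hi (by
          have h1 : e0 ∈ LinearMap.ker (wN (embU p k γ) (p - 1) (π (tor γ)) (π (up 1)) ^ i) :=
            LinearMap.mem_ker.2 h0
          rw [ker_wN_pow (isWeightTwo π)] at h1
          exact LinearMap.mem_ker.1 h1),
        LinearMap.mem_ker.1 (by rw [ker_wN_pow (isWeightTwo π)]; exact LinearMap.mem_ker.2 hm0),
        hLI, hm0, hS⟩
  have hadd : ∀ (a : ℕ), (x ^ a) e0 ∈ C := fun a => by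
    rcases Nat.lt_or_ge a m with ha | ha
    · exact Submodule.subset_span ⟨⟨a, ha⟩, rfl⟩
    · rw [show a = (a - m) + m by omega, pow_add, Module.End.mul_apply, hm0, map_zero]; exact zero_mem _
  rcases Nat.lt_or_ge m p with hlt | hge
  · -- a short chain
    have hx1 : (x ^ (p - 1)) e0 = 0 := by
      rw [show p - 1 = (p - 1 - m) + m by omega, pow_add, Module.End.mul_apply, hm0, map_zero]
    have hvf := high0.eq_neg_ff hx1
    obtain ⟨i0, hi0lt, hi0⟩ : ∃ i0 : ℕ, i0 < p - 1 ∧ (-(k0 : ℤ)) ≡ (i0 : ℤ) [ZMOD ((p - 1 : ℕ) : ℤ)] := by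
      refine ⟨((-(k0 : ℤ)) % ((p - 1 : ℕ) : ℤ)).toNat, ?_, ?_⟩
      · have := Int.emod_lt_of_pos (-(k0 : ℤ)) (b := ((p - 1 : ℕ) : ℤ)) (by omega)
        omega
      · rw [Int.toNat_of_nonneg (Int.emod_nonneg _ (by omega))]
        exact (Int.mod_modEq _ _).symm
    have hffc : ff π v (-(k0 : ℤ)) = ff π v (i0 : ℤ) := by
      simp only [ff, ch_congr _ hi0]
    have hvi : v = -∑ j ∈ Finset.range p, coef p k i0 j • (x ^ j) e0 := by
      conv_lhs => rw [hvf, hffc, ff_eq]
    have hvC : v ∈ C := by
      rw [hvi]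
      exact neg_mem (Submodule.sum_mem _ fun j _ => Submodule.smul_mem _ _ (hadd j))
    -- the last coefficient
    have hcoef : ∀ j, j + 1 < m → coef p k i0 j = 0 := by
      have hxv' : ∑ j : Fin m, coef p k i0 j • (x ^ ((j : ℕ) + 1)) e0 = 0 := by
        have h1 := congrArg x hvi
        rw [hxv, map_neg, eq_comm, neg_eq_zero, map_sum] at h1
        rw [← h1, Fin.sum_univ_eq_sum_range (fun j => coef p k i0 j • (x ^ (j + 1)) e0)]
        refine Finset.sum_subset_zero_on_sdiff (Finset.range_mono hmp) (fun j hj => ?_) (fun j _ => ?_)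
        · rw [Finset.mem_sdiff, Finset.mem_range, Finset.mem_range] at hj
          rw [map_smul, ← Module.End.mul_apply, ← pow_succ', show j + 1 = (j + 1 - m) + m by omega, pow_add,
            Module.End.mul_apply, hm0, map_zero, smul_zero]
        · rw [map_smul, pow_succ', Module.End.mul_apply]
      intro j hj
      obtain ⟨m', hm'⟩ : ∃ m', m = m' + 1 := ⟨m - 1, by omega⟩
      have hLI' : LinearIndependent k fun i : Fin m' => (x ^ ((i : ℕ) + 1)) e0 :=
        hLI.comp (fun i : Fin m' => ⟨(i : ℕ) + 1, by omega⟩) fun a b hab => Fin.ext (by simpa using hab)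
      have h2 : ∑ i : Fin m', coef p k i0 i • (x ^ ((i : ℕ) + 1)) e0 = 0 := by
        rw [Fin.sum_univ_eq_sum_range (fun i => coef p k i0 i • (x ^ (i + 1)) e0)]
        rw [Fin.sum_univ_eq_sum_range (fun i => coef p k i0 i • (x ^ (i + 1)) e0), hm',
          Finset.sum_range_succ, ← hm', hm0, smul_zero, add_zero] at hxv'
        exact hxv'
      exact Fintype.linearIndependent_iff.1 hLI' _ h2 ⟨j, by omega⟩
    have hlast : ∃ j < m, coef p k i0 j ≠ 0 := by
      by_contra hc
      push Not at hc
      refine hv0 ?_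
      rw [hvi, neg_eq_zero]
      refine Finset.sum_eq_zero fun j _ => ?_
      rcases Nat.lt_or_ge j m with hj | hj
      · rw [hc j hj, zero_smul]
      · rw [show j = (j - m) + m by omega, pow_add, Module.End.mul_apply, hm0, map_zero, smul_zero]
    obtain ⟨j1, hj1, hj1ne⟩ := hlast
    have hj1eq : j1 = m - 1 := by
      by_contra hne
      exact hj1ne (hcoef j1 (by omega))
    have hrel : (k0 : ℤ) ≡ (m : ℤ) - 1 [ZMOD ((p - 1 : ℕ) : ℤ)] := by
      have hk : (k0 : ℤ) ≡ -(i0 : ℤ) [ZMOD ((p - 1 : ℕ) : ℤ)] := by simpa using hi0.neg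
      refine hk.trans ?_
      rcases Nat.eq_zero_or_pos i0 with h0 | hpos
      · have : m = 1 := by
          by_contra hne
          exact absurd (hcoef 0 (by omega)) (by rw [h0, Nat.cast_zero, coef_zero_zero]; exact neg_ne_zero.2 one_ne_zero)
        rw [h0, this]; rfl
      · have hA : p - 1 - i0 = m - 1 := by
          rcases Nat.lt_trichotomy (p - 1 - i0) (m - 1) with h1 | h1 | h1
          · exact absurd (hcoef _ (by omega)) (coef_leading (by omega) (by omega))
          · exact h1
          · exact absurd (coef_eq_zero (by omega) (Or.inl hpos)) (hj1eq ▸ hj1ne)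
        rw [Int.modEq_iff_dvd]
        exact ⟨1, by omega⟩
    exact ⟨hvC, hrel, fun h => absurd h hlt.ne⟩
  · -- a full chain
    have hmeq : m = p := le_antisymm hmp hge
    set S := ∑ c : ZMod p, ev π v c with hSdef
    have hevli : LinearIndependent k (ev π v) := by
      refine linearIndependent_iff_card_le_finrank_span.2 ?_
      refine (show Fintype.card (ZMod p) ≤ finrank k C by rw [ZMod.card, hCrk, hmeq]).trans
        (Submodule.finrank_mono (Submodule.span_le.2 ?_))
      rintro _ ⟨i, rfl⟩
      have h1 : π (up 1) = x + 1 := (sub_add_cancel _ _).symm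
      show (x ^ (i : ℕ)) e0 ∈ Submodule.span k (Set.range (ev π v))
      generalize (i : ℕ) = n
      induction n with
      | zero => exact Submodule.subset_span ⟨0, by simp [ev, up_zero, he0]⟩
      | succ n ih =>
        rw [pow_succ', Module.End.mul_apply, hxdef, xop, LinearMap.sub_apply,
          Module.End.one_apply]
        refine Submodule.sub_mem _ ?_ ih
        have hle : Submodule.span k (Set.range (ev π v)) ≤
            (Submodule.span k (Set.range (ev π v))).comap (π (up 1)) := Submodule.span_le.2 (by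
          rintro _ ⟨c, rfl⟩
          exact Submodule.subset_span ⟨1 + c, by rw [ev, ev, up_add, map_mul, Module.End.mul_apply]⟩)
        exact hle ih
    have hSfix : π (up 1) S = S := by
      rw [hSdef, map_sum]
      exact Fintype.sum_equiv (Equiv.addLeft (1 : ZMod p)) _ _ fun c => by
        rw [Equiv.coe_addLeft, ev, ev, up_add, map_mul, Module.End.mul_apply]
    have hSw : ∀ a, π (tor a) S = ch p k a (-(k0 : ℤ)) • S := fun a => by
      rw [hSdef, map_sum, Finset.smul_sum]
      refine Fintype.sum_equiv (Equiv.mulLeft₀ ((a : ZMod p) ^ 2) (pow_ne_zero 2 a.ne_zero)) _ _ fun c => ?_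
      rw [Equiv.mulLeft₀_apply, ev, ev, ← Module.End.mul_apply, ← map_mul, tor_conj_up, map_mul,
        Module.End.mul_apply, high0.tor_J, map_smul]
    have hS0 : S ≠ 0 := fun h0 => one_ne_zero
      (Fintype.linearIndependent_iff.1 hevli (fun _ => 1) (by simpa [hSdef] using h0) 0)
    by_cases hvC : v ∈ C
    · -- `v` is a multiple of the sum
      obtain ⟨c, hc⟩ := (Submodule.mem_span_range_iff_exists_fun k).1
        (show v ∈ Submodule.span k (Set.range (ev π v)) by
          rwa [Submodule.eq_of_le_of_finrank_eq hCev (by rw [finrank_span_eq_card hevli, ZMod.card, hCrk, hmeq])])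
      have hshift : ∀ a, c (a + 1) = c a := by
        intro a
        have h1 : π (up 1) v = v := high0.fixed
        rw [← hc, map_sum] at h1
        have h2 : ∑ b, c (b - 1) • ev π v b = ∑ b, c b • ev π v b := by
          rw [← h1]
          refine (Fintype.sum_equiv (Equiv.addLeft (1 : ZMod p)) _ _ fun b => ?_).symm
          rw [map_smul, Equiv.coe_addLeft, add_sub_cancel_left, ev, ev, up_add, map_mul,
            Module.End.mul_apply]
        have h4 := Fintype.linearIndependent_iff.1 hevli (fun b => c (b - 1) - c b)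
          (by simp only [sub_smul, Finset.sum_sub_distrib, h2, sub_self]) (a + 1)
        rw [add_sub_cancel_right] at h4
        exact (sub_eq_zero.1 h4).symm
      have hconst : ∀ a, c a = c 0 := fun a => by
        rw [← ZMod.natCast_zmod_val a]
        induction a.val with
        | zero => simp
        | succ n ih => rw [Nat.cast_succ, hshift, ih]
      set lam' := c 0 with hlam'
      have hvS : v = lam' • S := by
        rw [← hc, hSdef, Finset.smul_sum]
        exact Finset.sum_congr rfl fun a _ => by rw [hconst a]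
      -- apply the Weyl element
      have hJS : π J S = ch p k (-1) (k0 : ℤ) • v + ch p k (-1) (k0 : ℤ) • ff π v (-(k0 : ℤ)) := by
        have hsplit : S = ev π v 0 + ff π v 0 := by
          rw [hSdef, ← Finset.add_sum_erase _ _ (Finset.mem_univ (0 : ZMod p)), ff]
          congr 1
          refine (Finset.sum_bij (fun c (_ : c ∈ (Finset.univ : Finset (ZMod p)ˣ)) => (c : ZMod p)) ?_ ?_ ?_ ?_).symm
          · intro c _; exact Finset.mem_erase.2 ⟨c.ne_zero, Finset.mem_univ _⟩
          · intro c _ d _ e; exact Units.ext e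
          · intro b hb; exact ⟨Units.mk0 b (Finset.mem_erase.1 hb).1, Finset.mem_univ _, rfl⟩
          · intro c _; rw [ch_zero, one_smul]
        rw [hsplit, map_add, high0.J_ev_zero, high0.J_ff, zero_add]
      have hJv : π J v = lam' • π J S := by conv_lhs => rw [hvS, map_smul]
      -- coefficients of both sides
      let r : ZMod p → k := fun b => if hb : b = 0 then lam' * ch p k (-1) (k0 : ℤ) * lam' - 1
        else lam' * ch p k (-1) (k0 : ℤ) * lam' +
          lam' * ch p k (-1) (k0 : ℤ) * ch p k (Units.mk0 b hb) (-(k0 : ℤ))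
      have hr : ∑ b, r b • ev π v b = 0 := by
        have e1 : ∑ b : ZMod p, r b • ev π v b =
            (lam' * ch p k (-1) (k0 : ℤ) * lam') • S +
            (lam' * ch p k (-1) (k0 : ℤ)) • ff π v (-(k0 : ℤ)) - ev π v 0 := by
          rw [hSdef, ← Finset.add_sum_erase _ _ (Finset.mem_univ (0 : ZMod p)),
            ← Finset.add_sum_erase _ _ (Finset.mem_univ (0 : ZMod p)), ff]
          have e2 : ∀ F : ZMod p → V, ∑ b ∈ (Finset.univ : Finset (ZMod p)).erase 0, F b =
              ∑ c : (ZMod p)ˣ, F (c : ZMod p) := fun F => by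
            refine (Finset.sum_bij (fun c (_ : c ∈ (Finset.univ : Finset (ZMod p)ˣ)) => (c : ZMod p)) ?_ ?_ ?_ ?_).symm
            · intro c _; exact Finset.mem_erase.2 ⟨c.ne_zero, Finset.mem_univ _⟩
            · intro c _ d _ e; exact Units.ext e
            · intro b hb; exact ⟨Units.mk0 b (Finset.mem_erase.1 hb).1, Finset.mem_univ _, rfl⟩
            · intro c _; rfl
          rw [e2, e2]
          have hru : ∀ c : (ZMod p)ˣ, r (c : ZMod p) = lam' * ch p k (-1) (k0 : ℤ) * lam' +
              lam' * ch p k (-1) (k0 : ℤ) * ch p k c (-(k0 : ℤ)) := fun c => by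
            simp only [r, dif_neg c.ne_zero, Units.mk0_val]
          have hr0 : r 0 = lam' * ch p k (-1) (k0 : ℤ) * lam' - 1 := dif_pos rfl
          simp only [hru, hr0, add_smul, sub_smul, one_smul, Finset.sum_add_distrib, smul_add,
            Finset.smul_sum, smul_smul]
          abel
        rw [e1, sub_eq_zero, show ev π v 0 = π J v by rw [ev, up_zero, map_one, Module.End.one_apply],
          hJv, hJS, smul_add, smul_smul, smul_smul, hvS, smul_smul]
      have hr' := Fintype.linearIndependent_iff.1 hevli r hr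
      have h00 := hr' 0
      simp only [r, dif_pos] at h00
      have hl0 : lam' * ch p k (-1) (k0 : ℤ) ≠ 0 := fun h => by
        rw [h, zero_mul, zero_sub, neg_eq_zero] at h00; exact one_ne_zero h00
      have hch : ∀ c : (ZMod p)ˣ, ch p k c (-(k0 : ℤ)) = -lam' := fun c => by
        have h1 := hr' (c : ZMod p)
        simp only [r, dif_neg c.ne_zero, Units.mk0_val, ← mul_add] at h1
        exact eq_neg_of_add_eq_zero_right ((mul_eq_zero.1 h1).resolve_left hl0)
      have hlam1' : lam' = -1 := by
        have h1 := hch 1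
        rw [ch_one] at h1
        exact neg_eq_iff_eq_neg.1 h1.symm
      have hk : (k0 : ℤ) ≡ (m : ℤ) - 1 [ZMOD ((p - 1 : ℕ) : ℤ)] := by
        have h1 := hch γ
        rw [hlam1', neg_neg, ch, Units.val_eq_one, ← orderOf_dvd_iff_zpow_eq_one,
          orderOf_injective (embU p k) hinjU, hord] at h1
        obtain ⟨d, hd⟩ := h1
        rw [Int.modEq_iff_dvd]
        exact ⟨1 + d, by rw [mul_add, ← hd]; omega⟩
      exact ⟨hvC, hk, fun _ => by rw [hlam1', neg_one_smul] at hvS; exact hvS⟩
    · -- otherwise the orbit of the sum is a proper invariant subspace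
      exfalso
      have highS : IsHigh π S (-(k0 : ℤ)) := ⟨hSfix, hSw⟩
      set R := Submodule.span k {π J S} ⊔ LinearMap.range x with hR
      have hxrk : finrank k (LinearMap.range x) ≤ m - 1 := by
        have hle : LinearMap.range x ≤ Submodule.span k (Set.range fun i : Fin (m - 1) => (x ^ ((i : ℕ) + 1)) e0) := by
          rintro _ ⟨w, rfl⟩
          obtain ⟨a, ha, b, hb, rfl⟩ := Submodule.mem_sup.1 (hall w)
          obtain ⟨a', rfl⟩ := Submodule.mem_span_singleton.1 ha
          rw [map_add, map_smul, hxv, smul_zero, zero_add]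
          have : C ≤ (Submodule.span k (Set.range fun i : Fin (m - 1) => (x ^ ((i : ℕ) + 1)) e0)).comap x :=
            Submodule.span_le.2 (by
              rintro _ ⟨i, rfl⟩
              rw [SetLike.mem_coe, Submodule.mem_comap, ← Module.End.mul_apply, ← pow_succ']
              rcases Nat.lt_or_ge (i : ℕ) (m - 1) with hi | hi
              · exact Submodule.subset_span ⟨⟨i, hi⟩, rfl⟩
              · rw [show (i : ℕ) + 1 = m by have := i.2; omega, hm0]; exact zero_mem _)
          exact this hb
        exact (Submodule.finrank_mono hle).trans ((finrank_range_le_card _).trans (by rw [Fintype.card_fin]))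
      have hsum : ∀ j, ((xop π) ^ j) (π J S) ∈ R := fun j => by
        rcases Nat.eq_zero_or_pos j with rfl | hj
        · exact Submodule.mem_sup_left (Submodule.mem_span_singleton_self _)
        · obtain ⟨j', rfl⟩ : ∃ j', j = j' + 1 := ⟨j - 1, by omega⟩
          rw [pow_succ', Module.End.mul_apply]
          exact Submodule.mem_sup_right ⟨_, rfl⟩
      have hSrange : S ∈ R := Submodule.mem_sup_right (by
        have h0 := hall S
        obtain ⟨a, ha, b, hb, hab⟩ := Submodule.mem_sup.1 h0
        have hS1 : S = (x ^ (p - 1)) e0 := by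
          have e : x ^ (p - 1) = ∑ l ∈ Finset.range p, π (up 1) ^ l := by
            rw [hxdef, xop]
            exact pred_pow_eq_geom (π (up 1))
          rw [e, LinearMap.sum_apply, hSdef]
          refine Finset.sum_bij (fun c _ => (c : ZMod p).val) ?_ ?_ ?_ ?_
          · intro c _; exact Finset.mem_range.2 c.val_lt
          · intro c _ d _ e; exact ZMod.val_injective p e
          · intro l hl; exact ⟨(l : ZMod p), Finset.mem_univ _, ZMod.val_cast_of_lt (Finset.mem_range.1 hl)⟩
          · intro c _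
            show π (up c) (π J v) = (π (up 1) ^ c.val) e0
            rw [up_val, map_pow]
        rw [hS1, show p - 1 = (p - 2) + 1 by omega, pow_succ', Module.End.mul_apply]
        exact ⟨_, rfl⟩)
      have hle : orbitSpan π S ≤ R := sup_le ((Submodule.span_singleton_le_iff_mem _ _).2 hSrange)
        (span_ev_le.trans (Submodule.span_le.2 (by rintro _ ⟨j, rfl⟩; exact hsum _)))
      have htop : orbitSpan π S = ⊤ := (hπ.2 _ highS.orbitSpan_invariant).resolve_left fun hbot =>
        hS0 ((Submodule.mem_bot k).1 (hbot ▸ Submodule.mem_sup_left (Submodule.mem_span_singleton_self S)))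
      have h1 : finrank k V ≤ finrank k R := by
        rw [← finrank_top k V, ← htop]; exact Submodule.finrank_mono hle
      have h2 := Submodule.finrank_add_le_finrank_add_finrank (Submodule.span k {π J S}) (LinearMap.range x)
      have h3 : finrank k (Submodule.span k {π J S}) ≤ 1 := by
        have := finrank_span_le_card ({π J S} : Set V) (R := k); simpa using this
      have h4 : m + 1 ≤ finrank k V := by
        have hlt : C < ⊤ := lt_top_iff_ne_top.2 fun h => hvC (h ▸ Submodule.mem_top)
        have := Submodule.finrank_lt hlt.ne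
        omega
      rw [← hR] at h2
      omega

end CfsgLib.FixSixth
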