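import Cfsg.Agent.FixSixth.SimpleData

/-!
# The numerical inequalities on chains
-/

set_option autoImplicit false
set_option linter.unusedSectionVars false

namespace CfsgLib.FixSixth

theorem cnt_eq_zero {p m a : ℕ} (hp : p % 2 = 1) (h : (a + m - 1) % 2 = 1) : cnt p m a = 0 := by
  rw [cnt, Finset.card_eq_zero, Finset.filter_eq_empty_iff]
  intro i _ he
  have h1 := Nat.mod_mod_of_dvd (2 * i) (show 2 ∣ p - 1 by omega)
  have h2 := Nat.mod_mod_of_dvd (a + m - 1) (show 2 ∣ p - 1 by omega)
  rw [he] at h1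
  omega

theorem cnt_even {p m a h : ℕ} (hp : p = 2 * h + 1) (hm : m ≤ p) (h3 : 3 ≤ h) {r : ℕ}
    (ha : a + m - 1 = 2 * r) (hr : r < 2 * h) :
    ∃ r0, r0 < h ∧ ((r = r0 ∧ r < h) ∨ (r = r0 + h ∧ h ≤ r)) ∧
      cnt p m a = (if r0 < m then 1 else 0) + (if r0 + h < m then 1 else 0) +
        (if r0 + 2 * h < m then 1 else 0) := by
  set r0 := if r < h then r else r - h with hr0
  have hr0lt : r0 < h := by rw [hr0]; split_ifs <;> omega
  refine ⟨r0, hr0lt, by rw [hr0]; split_ifs <;> omega, ?_⟩
  have hmod : r % h = r0 := by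
    rw [hr0]
    split_ifs with hlt
    · exact Nat.mod_eq_of_lt hlt
    · rw [Nat.mod_eq_sub_mod (by omega), Nat.mod_eq_of_lt (by omega)]
  have hset : (Finset.range m).filter (fun i => 2 * i % (p - 1) = (a + m - 1) % (p - 1)) =
      ({r0, r0 + h, r0 + 2 * h} : Finset ℕ).filter fun i => i < m := by
    ext i
    simp only [Finset.mem_filter, Finset.mem_range, Finset.mem_insert, Finset.mem_singleton]
    rw [hp, show 2 * h + 1 - 1 = 2 * h by omega, ha, Nat.mul_mod_mul_left, Nat.mul_mod_mul_left, hmod]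
    constructor
    · rintro ⟨hi, he⟩
      have hd : i / h ≤ 2 := by
        apply Nat.le_of_lt_succ
        rw [Nat.div_lt_iff_lt_mul (by omega)]
        omega
      have he2 : i % h = r0 := by omega
      have hdm := Nat.div_add_mod i h
      refine ⟨?_, hi⟩
      generalize i / h = q at hd hdm
      interval_cases q <;> omega
    · rintro ⟨rfl | rfl | rfl, hi⟩
      · exact ⟨hi, by rw [Nat.mod_eq_of_lt hr0lt]⟩
      · exact ⟨hi, by rw [Nat.add_mod_right, Nat.mod_eq_of_lt hr0lt]⟩
      · exact ⟨hi, by rw [Nat.add_mul_mod_self_right, Nat.mod_eq_of_lt hr0lt]⟩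
  rw [cnt, hset, Finset.card_filter, Finset.sum_insert (by simp; omega), Finset.sum_insert (by simp; omega),
    Finset.sum_singleton, add_assoc]

theorem count_mod_three (r : ℕ) (hr : r < 3) :
    ∀ m : ℕ, ((Finset.range m).filter fun i => i % 3 = r).card = (m + 2 - r) / 3 := by
  intro m
  induction m with
  | zero => simp; omega
  | succ m ih =>
    rw [Finset.range_add_one, Finset.filter_insert]
    split_ifs with h
    · rw [Finset.card_insert_of_notMem (by simp), ih]; omega
    · rw [ih]; omega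

theorem loBound_short {p m : ℕ} (hm : m < p) :
    loBound p m = (m + 2 - 2 * (m - 1) % 3) / 3 := by
  rw [loBound, if_pos hm, count_mod_three _ (Nat.mod_lt _ (by norm_num))]

/-- The inequality for `p ≠ 11`. -/
theorem chain_ineq {p m : ℕ} (hp : p.Prime) (hp7 : 7 ≤ p) (h11 : p ≠ 11) (hm1 : 1 ≤ m) (hm : m ≤ p) :
    m + 2 * cnt p m 3 + cnt p m 6 ≤ 4 * loBound p m + 2 * cnt p m 1 + cnt p m 4 := by
  by_cases h7 : p = 7
  · subst h7
    revert hm1
    revert m
    decide
  have hodd : p % 2 = 1 := Nat.odd_iff.1 (hp.odd_of_ne_two (by omega))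
  obtain ⟨h, hh⟩ : ∃ h, p = 2 * h + 1 := ⟨p / 2, by omega⟩
  have h6 : 6 ≤ h := by
    by_contra hlt
    interval_cases h <;> first | omega | (subst hh; norm_num at hp)
  have hlo : m < p → loBound p m = (m + 2 - 2 * (m - 1) % 3) / 3 := loBound_short
  have hlo3 : ∀ n : ℕ, n ≤ 3 * ((n + 2 - 2 * (n - 1) % 3) / 3) + 2 := fun n => by omega
  rcases Nat.even_or_odd' m with ⟨c, hc | hc⟩
  · obtain ⟨r1, hr1, hc1, e1⟩ := cnt_even (a := 1) (r := c) hh hm (by omega) (by omega) (by omega)
    obtain ⟨r3, hr3, hc3, e3⟩ := cnt_even (a := 3) (r := c + 1) hh hm (by omega) (by omega) (by omega)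
    rw [cnt_eq_zero (a := 4) hodd (by omega), cnt_eq_zero (a := 6) hodd (by omega), e1, e3, hlo (by omega)]
    clear e1 e3 hlo
    have := hlo3 m
    rcases Nat.lt_or_ge c 6 with hs | hs
    · interval_cases c <;> subst hc <;> norm_num <;> split_ifs <;> omega
    · split_ifs <;> omega
  · rw [cnt_eq_zero (a := 1) hodd (by omega), cnt_eq_zero (a := 3) hodd (by omega)]
    by_cases hbig : c + 3 < 2 * h
    · obtain ⟨r4, hr4, hc4, e4⟩ := cnt_even (a := 4) (r := c + 2) hh hm (by omega) (by omega) (by omega)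
      obtain ⟨r6, hr6, hc6, e6⟩ := cnt_even (a := 6) (r := c + 3) hh hm (by omega) (by omega) (by omega)
      rw [e4, e6]
      clear e4 e6
      rcases Nat.lt_or_ge m p with hlt | hge
      · rw [hlo hlt]
        clear hlo
        have := hlo3 m
        rcases Nat.lt_or_ge c 6 with hs | hs
        · interval_cases c <;> subst hc <;> norm_num <;> split_ifs <;> omega
        · split_ifs <;> omega
      · rw [loBound, if_neg (show ¬ m < p by omega)]
        clear hlo hlo3
        obtain rfl : c = h := by omega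
        obtain rfl : r4 = 2 := by omega
        obtain rfl : r6 = 3 := by omega
        rw [if_pos (show 2 < m by omega), if_pos (show 2 + c < m by omega),
          if_neg (show ¬ 2 + 2 * c < m by omega), if_pos (show 3 < m by omega),
          if_pos (show 3 + c < m by omega), if_neg (show ¬ 3 + 2 * c < m by omega)]
        omega
    · exfalso
      omega

/-- The inequalities for `p = 11`. -/
theorem chain_ineq_eleven {m : ℕ} (hm1 : 1 ≤ m) (hm : m ≤ 11) :
    (m + cnt 11 m 5 + cnt 11 m 3 ≤ 5 * loBound 11 m + cnt 11 m 1 + cnt 11 m 9) ∧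
    (m + 2 * (cnt 11 m 3 + cnt 11 m 9) + 2 * cnt 11 m 6 ≤
      4 * loBound 11 m + 4 * cntR 11 m 9 1 + 2 * cntR 11 m 3 7 + 2 * cntR 11 m 6 4 + cntR 11 m 6 1) := by
  revert hm1
  revert m
  decide

end CfsgLib.FixSixth
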