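import Cfsg.Agent.FixSixth.Moved
import Cfsg.Agent.FixSixth.Elements
import Cfsg.Agent.S0205
import Cfsg.Agent.S0253
import Cfsg.Agent.PerfectRankOne.Main
import Cfsg.Agent.Forms4.ExceptionalTools
import Cfsg.Agent.Perm.SLTwoFive
import Cfsg.Agent.Linear.SL2Sylow
import Cfsg.Agent.Components.FStar
import Cfsg.Agent.RankOneSPE.Cyclic

/-!
# A cover of `SL(2,p)` in a group with small fixed spaces

`exists_cover`: if every nontrivial element fixes less than a sixth of the space and the solvable
radical has index more than `120`, then some subgroup maps onto `SL(2,p)`, `p ≥ 7`, with kernel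
of order divisible only by primes which vanish in the field.
-/

set_option autoImplicit false
set_option linter.unusedSectionVars false
set_option linter.style.haveILetI false

namespace CfsgLib.FixSixth

open Module Matrix Subgroup
open scoped MatrixGroups

universe u v w

section Small

variable {H : Type*} [Group H] [Finite H] {k : Type*} [Field k] {V : Type*} [AddCommGroup V]
  [Module k V] [FiniteDimensional k V] (ρ : Representation k H V)
  (hsmall : ∀ h : H, h ≠ 1 → 6 * fx (ρ h) < Module.finrank k V)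

include hsmall

/-- The primes up to five dividing an order are invertible in the field. -/
theorem natCast_ne_zero_of_orderOf {r : ℕ} (hr : r.Prime) (hr6 : r ≤ 5) {x : H}
    (hx : orderOf x = r) : (r : k) ≠ 0 := by
  intro h
  have hx1 : x ≠ 1 := fun e => by
    rw [e, orderOf_one] at hx
    exact hr.one_lt.ne hx
  have hs := hsmall x hx1
  haveI : Nontrivial V := by
    refine Module.nontrivial_of_finrank_pos (R := k) ?_
    omega
  haveI : Fact r.Prime := ⟨hr⟩
  haveI : CharP k r := (CharP.charP_iff_prime_eq_zero hr).2 h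
  haveI : CharP (Module.End k V) r :=
    charP_of_injective_algebraMap (algebraMap k (Module.End k V)).injective r
  have h0 : (ρ x - 1) ^ r = 0 := by
    rw [sub_pow_char_of_commute (p := r) (h := Commute.one_right (ρ x)), one_pow, ← map_pow, ← hx,
      pow_orderOf_eq_one, map_one, sub_self]
  have hle : finrank k V ≤ 5 * fx (ρ x) :=
    (finrank_le_mul_ker h0).trans (Nat.mul_le_mul_right _ hr6)
  omega

/-- No elementary abelian subgroups of rank two for the primes up to five. -/
theorem mem_zpowers_of_small {r : ℕ} (hr : r.Prime) (hr6 : r ≤ 5) {x y : H}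
    (hx : orderOf x = r) (hy : y ^ r = 1) (hc : Commute x y) : y ∈ zpowers x := by
  by_contra hne
  have hx1 : x ≠ 1 := fun e => by
    rw [e, orderOf_one] at hx
    exact hr.one_lt.ne hx
  have hb := finrank_le_fx_add hr (natCast_ne_zero_of_orderOf ρ hsmall hr hr6 hx) (f := ρ x)
    (g := ρ y) (by rw [← map_pow, ← hx, pow_orderOf_eq_one, map_one])
    (by rw [← map_pow, hy, map_one])
    (by show ρ x * ρ y = ρ y * ρ x; rw [← map_mul, ← map_mul, hc.eq])
  have h1 := hsmall x hx1
  have h2 : ∀ i ∈ Finset.range r, 6 * fx (ρ x ^ i * ρ y) ≤ finrank k V - 1 := fun i _ => by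
    have := hsmall (x ^ i * y) fun e => hne (by
      rw [mul_eq_one_iff_eq_inv] at e
      rw [← inv_inv y, ← e]
      exact inv_mem (pow_mem (mem_zpowers x) i))
    rw [map_mul, map_pow] at this
    omega
  have h3 := Finset.sum_le_card_nsmul _ _ _ h2
  rw [Finset.card_range, smul_eq_mul, ← Finset.mul_sum] at h3
  have h4 : r * (finrank k V - 1) ≤ 5 * (finrank k V - 1) := Nat.mul_le_mul_right _ hr6
  omega

variable {G : Type*} [Group G] [Finite G] (f : G →* H) (hf : Function.Injective f)

include hf

/-- The rank is at most one for the primes up to five. -/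
theorem pRankLE_of_small {r : ℕ} (hr : r.Prime) (hr6 : r ≤ 5) : Cfsg.PRankLE r 1 G := by
  intro A hA hexp
  haveI : Fact r.Prime := ⟨hr⟩
  rw [pow_one]
  by_cases h : A = ⊥
  · rw [h, card_bot]; exact hr.one_le
  obtain ⟨x, hxA, hx1⟩ := (A.ne_bot_iff_exists_ne_one).1 h |>.elim fun a ha =>
    (⟨(a : G), a.2, fun e => ha (Subtype.ext e)⟩ : ∃ x ∈ A, x ≠ 1)
  have hox : orderOf x = r := orderOf_eq_prime (hexp x hxA) hx1
  have hle : A ≤ zpowers x := by
    intro y hy
    have hfo : orderOf (f x) = r := by rw [orderOf_injective f hf, hox]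
    have hc : Commute x y := congrArg Subtype.val (hA.is_comm.comm ⟨x, hxA⟩ ⟨y, hy⟩)
    obtain ⟨i, hi⟩ := mem_zpowers_of_small ρ hsmall hr hr6 hfo
      (by rw [← map_pow, hexp y hy, map_one]) (hc.map f)
    exact ⟨i, hf (by rw [map_zpow]; exact hi)⟩
  exact (Subgroup.card_le_of_le hle).trans_eq (by rw [Nat.card_zpowers, hox])

/-- The `r`-subgroups are cyclic for `r` equal to three or five. -/
theorem isCyclic_of_small {r : ℕ} [hr : Fact r.Prime] (hr2 : r ≠ 2) (hr6 : r ≤ 5) (R : Subgroup G)
    (hR : IsPGroup r R) : IsCyclic R := by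
  have hrank : Cfsg.PRankLE r 1 R :=
    pRankLE_of_small ρ hsmall (f.comp R.subtype) (hf.comp R.subtype_injective) hr.out hr6
  rcases TwoGroupsQ.isCyclic_or_quaternion hR (RankOneSPE.hasUniqueOrderP_of_rank hR hrank) with
    h | ⟨h, -⟩
  · exact h
  · exact absurd h hr2

end Small

/-- Cyclicity of the `r`-subgroups passes to images. -/
theorem isCyclic_image {G Q : Type*} [Group G] [Finite G] [Group Q] (f : G →* Q)
    (hf : Function.Surjective f) {r : ℕ} [Fact r.Prime]
    (h : ∀ R : Subgroup G, IsPGroup r R → IsCyclic R) (R : Subgroup Q) (hR : IsPGroup r R) :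
    IsCyclic R := by
  haveI : Finite Q := Finite.of_surjective f hf
  set M := R.comap f with hM
  let g : M →* R := f.subgroupComap R
  have hg : Function.Surjective g := fun ⟨q, hq⟩ => by
    obtain ⟨x, hx⟩ := hf q
    exact ⟨⟨x, show f x ∈ R from hx.symm ▸ hq⟩, Subtype.ext hx⟩
  let S : Sylow r M := default
  let T := S.mapSurjective hg
  have hT : (⊤ : Subgroup R) = (T : Subgroup R) :=
    T.is_maximal' (hR.to_subgroup ⊤ |>.of_equiv (MulEquiv.refl _)) le_top
  have hS : IsCyclic ((S : Subgroup M).map M.subtype) := h _ (S.isPGroup'.map _)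
  haveI : IsCyclic (S : Subgroup M) := isCyclic_of_surjective
    ((S : Subgroup M).equivMapOfInjective M.subtype M.subtype_injective).symm
    (MulEquiv.surjective _)
  refine isCyclic_of_surjective (g.comp (S : Subgroup M).subtype) fun y => ?_
  have hy : y ∈ ((S : Subgroup M).map g) := by
    rw [← Sylow.coe_mapSurjective hg S]
    exact hT ▸ mem_top y
  obtain ⟨x, hx, rfl⟩ := hy
  exact ⟨⟨x, hx⟩, rfl⟩

/-- In a cyclic group two elements of prime order generate the same subgroup. -/
theorem mem_zpowers_of_cyclic {G : Type*} [Group G] [Finite G] [IsCyclic G] {r : ℕ} [Fact r.Prime]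
    {x y : G} (hx : x ^ r = 1) (hx1 : x ≠ 1) (hy : y ^ r = 1) : y ∈ zpowers x := by
  classical
  haveI := Fintype.ofFinite G
  have hr := (Fact.out : r.Prime)
  set S := Finset.univ.filter (fun a : G => a ^ r = 1)
  have hsub : (Finset.univ.filter (fun a : G => a ∈ zpowers x)) ⊆ S := fun a ha => by
    obtain ⟨i, rfl⟩ := mem_zpowers_iff.1 (Finset.mem_filter.1 ha).2
    refine Finset.mem_filter.2 ⟨Finset.mem_univ _, ?_⟩
    rw [← zpow_natCast, ← _root_.zpow_mul, mul_comm, _root_.zpow_mul, zpow_natCast, hx,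
      _root_.one_zpow]
  have hcard : (Finset.univ.filter (fun a : G => a ∈ zpowers x)).card = r := by
    rw [← Fintype.card_subtype, ← Nat.card_eq_fintype_card]
    exact (Nat.card_zpowers x).trans (orderOf_eq_prime hx hx1)
  have heq := Finset.eq_of_subset_of_card_le hsub
    ((IsCyclic.card_pow_eq_one_le hr.pos).trans_eq hcard.symm)
  exact (Finset.mem_filter.1 (heq.symm ▸ Finset.mem_filter.2 ⟨Finset.mem_univ _, hy⟩ :
    y ∈ Finset.univ.filter (fun a : G => a ∈ zpowers x))).2

/-- `A₇` has two independent commuting elements of order three. -/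
theorem false_of_altSeven {Q : Type*} [Group Q] [Finite Q] (f : Q →* alternatingGroup (Fin 7))
    (hf : Function.Surjective f) (h : ∀ R : Subgroup Q, IsPGroup 3 R → IsCyclic R) : False := by
  haveI : Fact (Nat.Prime 3) := ⟨Nat.prime_three⟩
  let a : alternatingGroup (Fin 7) := ⟨Equiv.swap 0 1 * Equiv.swap 1 2, Equiv.Perm.mem_alternatingGroup.2 (by decide +kernel)⟩
  let b : alternatingGroup (Fin 7) := ⟨Equiv.swap 3 4 * Equiv.swap 4 5, Equiv.Perm.mem_alternatingGroup.2 (by decide +kernel)⟩
  have ha : a ^ 3 = 1 := by decide +kernel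
  have hb : b ^ 3 = 1 := by decide +kernel
  have ha1 : a ≠ 1 := by decide +kernel
  have hab : a * b = b * a := by decide +kernel
  have hne : b ∉ zpowers a := by
    rintro ⟨i, hi⟩
    have h3 : ((a : Equiv.Perm (Fin 7)) ^ i) 3 = (3 : Fin 7) :=
      Equiv.Perm.zpow_apply_eq_self_of_apply_eq_self (by decide +kernel) i
    have h4 : (b : Equiv.Perm (Fin 7)) 3 = ((a : Equiv.Perm (Fin 7)) ^ i) 3 := by
      rw [← SubgroupClass.coe_zpow, ← hi]
    rw [h3] at h4
    exact absurd h4 (by decide +kernel)
  set K := closure ({a, b} : Set (alternatingGroup (Fin 7))) with hK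
  have hcomm : IsMulCommutative K := by
    refine isMulCommutative_closure ?_
    rintro x (rfl | rfl) y (rfl | rfl)
    exacts [rfl, hab, hab.symm, rfl]
  have hKexp : ∀ x ∈ K, x ^ 3 = 1 := by
    intro x hx
    induction hx using closure_induction with
    | mem x hx => rcases hx with rfl | rfl <;> assumption
    | one => exact one_pow 3
    | mul x y hx hy hx2 hy2 =>
      have : Commute x y := congrArg Subtype.val (hcomm.is_comm.comm ⟨x, hx⟩ ⟨y, hy⟩)
      rw [this.mul_pow, hx2, hy2, one_mul]
    | inv x _ hx2 => rw [inv_pow, hx2, inv_one]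
  haveI := isCyclic_image f hf h K fun g => ⟨1, by
    rw [pow_one]; exact Subtype.ext (hKexp _ g.2)⟩
  obtain ⟨i, hi⟩ := mem_zpowers_of_cyclic (x := (⟨a, subset_closure (by simp)⟩ : K))
    (y := ⟨b, subset_closure (by simp)⟩) (r := 3) (Subtype.ext ha)
    (fun e => ha1 (congrArg Subtype.val e)) (Subtype.ext hb)
  exact hne ⟨i, congrArg Subtype.val hi⟩

/-- Cyclic `p`-subgroups of `SL(2,q)`, `q` a power of `p`, force `q = p`. -/
theorem card_eq_of_isCyclic {F : Type*} [Field F] [Fintype F] {p : ℕ} [Fact p.Prime] [CharP F p]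
    (h : ∀ R : Subgroup SL(2, F), IsPGroup p R → IsCyclic R) : Fintype.card F = p := by
  let g : Multiplicative F →* SL(2, F) :=
    { toFun := fun c => up c.toAdd
      map_one' := up_zero
      map_mul' := fun a b => up_add a.toAdd b.toAdd }
  have hg : Function.Injective g := fun a b e => by
    have := congrArg (fun M : SL(2, F) => M 0 1) e
    exact Multiplicative.toAdd.injective (by simpa [g, coe_up] using this)
  have hexp : ∀ c : Multiplicative F, c ^ p = 1 := fun c => by
    refine Multiplicative.toAdd.injective ?_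
    rw [toAdd_pow, toAdd_one, nsmul_eq_mul, CharP.cast_eq_zero, zero_mul]
  haveI := h g.range (fun x => ⟨1, by
    obtain ⟨c, hc⟩ := x.2
    rw [pow_one]
    exact Subtype.ext (by rw [Subgroup.coe_pow, ← hc, ← map_pow, hexp, map_one, Subgroup.coe_one])⟩)
  haveI : IsCyclic (Multiplicative F) :=
    isCyclic_of_surjective (MonoidHom.ofInjective hg).symm (MulEquiv.surjective _)
  have hd : Fintype.card F ∣ p := by
    rw [← Nat.card_eq_fintype_card, Nat.card_congr (Multiplicative.ofAdd (α := F)),
      ← IsCyclic.exponent_eq_card]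
    exact Monoid.exponent_dvd_of_forall_pow_eq_one hexp
  rcases (Fact.out : p.Prime).eq_one_or_self_of_dvd _ hd with h1 | h1
  · exact absurd h1 Fintype.one_lt_card.ne'
  · exact h1

/-- A surjection of finite groups restricts to a surjection of a minimal subgroup. -/
theorem exists_min_cover {G T : Type*} [Group G] [Finite G] [Group T] (f : G →* T)
    (hf : Function.Surjective f) :
    ∃ Y : Subgroup G, Function.Surjective (f.comp Y.subtype) ∧
      ∀ Z : Subgroup Y, Function.Surjective ((f.comp Y.subtype).comp Z.subtype) → Z = ⊤ := by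
  obtain ⟨Y, hY⟩ := (Set.toFinite {Y : Subgroup G | Function.Surjective (f.comp Y.subtype)}).exists_minimal
    ⟨⊤, fun t => by obtain ⟨g, rfl⟩ := hf t; exact ⟨⟨g, mem_top g⟩, rfl⟩⟩
  refine ⟨Y, hY.prop, fun Z hZ => ?_⟩
  have hle : Z.map Y.subtype ≤ Y := map_subtype_le Z
  have hmem : Function.Surjective (f.comp (Z.map Y.subtype).subtype) := fun t => by
    obtain ⟨z, hz⟩ := hZ t
    exact ⟨⟨_, mem_map_of_mem _ z.2⟩, hz⟩
  refine map_injective Y.subtype_injective ?_
  rw [← MonoidHom.range_eq_map, range_subtype]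
  exact le_antisymm hle (hY.le_of_le hmem hle)

/-- `w3` lies in no proper normal subgroup. -/
theorem eq_top_of_w3_mem {p : ℕ} [Fact p.Prime] (hp : p ≠ 2) {N : Subgroup SL(2, ZMod p)}
    [N.Normal] (h : w3 ∈ N) : N = ⊤ := by
  refine eq_top_of_up_mem ?_
  rw [← QuotientGroup.eq_one_iff]
  set q := QuotientGroup.mk' N with hq
  show q (up 1) = 1
  have hw : q w3 = 1 := (QuotientGroup.eq_one_iff _).2 h
  rw [w3, map_mul, ← up_inv, map_inv, inv_mul_eq_one] at hw
  have h1 := congrArg q (J_up_J (1 : (ZMod p)ˣ))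
  rw [inv_one, Units.val_one, tor_one, mul_one, ← up_inv, map_mul, map_mul, map_mul, map_mul,
    map_inv, ← hw] at h1
  have h4 : q (up 1) ^ 4 = 1 := by
    have : q (up 1) * q (up 1) * q (up 1) = (q (up 1))⁻¹ := by rw [h1]; group
    rw [show (4 : ℕ) = 2 + 1 + 1 from rfl, pow_succ, pow_succ, pow_two, this, inv_mul_cancel]
  have hpp : q (up 1) ^ p = 1 := by
    rw [← map_pow, ← up_natCast, CharP.cast_eq_zero, up_zero, map_one]
  refine orderOf_eq_one_iff.1 (Nat.eq_one_of_dvd_coprimes ?_ (orderOf_dvd_of_pow_eq_one h4)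
    (orderOf_dvd_of_pow_eq_one hpp))
  have hcop : Nat.Coprime 2 p := (Nat.coprime_primes Nat.prime_two Fact.out).2 (Ne.symm hp)
  exact (show (4 : ℕ) = 2 ^ 2 by norm_num) ▸ hcop.pow_left 2

/-- Odd-prime Sylow subgroups of `SL(2,p)` are cyclic. -/
theorem isCyclic_sl_prime {p : ℕ} [Fact p.Prime] {r : ℕ} [Fact r.Prime] (hr2 : r ≠ 2)
    (R : Subgroup SL(2, ZMod p)) (hR : IsPGroup r R) : IsCyclic R := by
  by_cases hrp : r = p
  · subst hrp
    obtain ⟨n, hn⟩ := IsPGroup.iff_card.1 hR
    have hd : r ^ n ∣ r * (r ^ 2 - 1) := by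
      have := Subgroup.card_subgroup_dvd_card R
      rwa [hn, CfsgLib.Linear.card_SL_two, ZMod.card] at this
    have hcop : Nat.Coprime (r ^ n) (r ^ 2 - 1) := by
      refine Nat.Coprime.pow_left n ?_
      rw [(Fact.out : r.Prime).coprime_iff_not_dvd]
      intro h
      have h2 : r ∣ r ^ 2 := dvd_pow_self r two_ne_zero
      have h1 : r ∣ r ^ 2 - (r ^ 2 - 1) := Nat.dvd_sub h2 h
      have : 1 ≤ r ^ 2 := Nat.one_le_pow _ _ (Fact.out : r.Prime).pos
      rw [show r ^ 2 - (r ^ 2 - 1) = 1 by omega] at h1
      exact (Fact.out : r.Prime).not_dvd_one h1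
    exact isCyclic_of_card_dvd_prime (p := r) (hn ▸ hcop.dvd_of_dvd_mul_right hd)
  · exact CfsgLib.Linear.isCyclic_of_isPGroup p hr2 hrp R hR

/-- A central `r`-subgroup `N` of a perfect group is trivial if a Sylow `r`-subgroup is cyclic
modulo `N`. -/
theorem eq_bot_of_central {X T : Type*} [Group X] [Finite X] [Group T] [Group.IsPerfect X] {r : ℕ}
    [Fact r.Prime] (π : X →* T) (hT : ∀ R : Subgroup T, IsPGroup r R → IsCyclic R) (N : Subgroup X)
    [N.Normal] (hN : IsPGroup r N) (hc : N ≤ center X)
    (hker : ∀ x, π x = 1 → (∃ n, x ^ r ^ n = 1) → x ∈ N) : N = ⊥ := by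
  classical
  let S : Sylow r X := default
  obtain ⟨S', hS'⟩ := hN.exists_le_sylow
  set R : Subgroup X := (S' : Subgroup X) with hR
  haveI : IsCyclic (R.map π) := hT _ (S'.isPGroup'.map π)
  haveI : IsMulCommutative R := by
    refine ⟨⟨commutative_of_cyclic_center_quotient (π.subgroupMap R) fun x hx => ?_⟩⟩
    obtain ⟨n, hn⟩ := S'.isPGroup' x
    have hxN := hker x (congrArg Subtype.val hx) ⟨n, congrArg Subtype.val hn⟩
    exact mem_center_iff.2 fun y => Subtype.ext (mem_center_iff.1 (hc hxN) y)
  letI : CommGroup R := { (inferInstance : Group R) with mul_comm := fun a b => mul_comm' a b }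
  haveI : Group.IsSolvable R := Group.isSolvable_of_comm fun a b => mul_comm a b
  rw [eq_bot_iff]
  intro z hz
  have key : ∀ (k : ℕ) (g₀ : X), g₀⁻¹ * z ^ k * g₀ ∈ R → g₀⁻¹ * z ^ k * g₀ = z ^ k := fun k g₀ _ => by
    rw [mul_assoc, ← mem_center_iff.1 (pow_mem (hc hz) k) g₀, inv_mul_cancel_left]
  have h1 := GW.eq_one_of_perfect (MonoidHom.transfer (MonoidHom.id R)) z
  rw [MonoidHom.transfer_eq_pow (MonoidHom.id R) z key] at h1
  have hz1 : z ^ R.index = 1 := congrArg Subtype.val h1
  obtain ⟨n, hn⟩ := hN ⟨z, hz⟩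
  have hcop : Nat.Coprime (r ^ n) R.index :=
    ((Fact.out : r.Prime).coprime_iff_not_dvd.2 S'.not_dvd_index).pow_left n
  exact mem_bot.2 (orderOf_eq_one_iff.1 (Nat.eq_one_of_dvd_coprimes hcop
    (orderOf_dvd_of_pow_eq_one (congrArg Subtype.val hn)) (orderOf_dvd_of_pow_eq_one hz1)))

/-- A cyclic normal subgroup of a perfect group is central. -/
theorem le_center_of_isCyclic {X : Type*} [Group X] [Group.IsPerfect X] (N : Subgroup X) [N.Normal]
    [IsCyclic N] : N ≤ center X := by
  letI : CommGroup N := IsCyclic.commGroup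
  haveI : Group.IsSolvable (MulAut N) := Group.isSolvable_of_comm fun a b => by
    refine MulEquiv.ext fun x => ?_
    obtain ⟨g, hg⟩ := IsCyclic.exists_generator (α := N)
    obtain ⟨i, hi⟩ := mem_zpowers_iff.1 (hg (a g))
    obtain ⟨j, hj⟩ := mem_zpowers_iff.1 (hg (b g))
    obtain ⟨l, rfl⟩ := mem_zpowers_iff.1 (hg x)
    show a (b (g ^ l)) = b (a (g ^ l))
    simp only [map_zpow, ← hi, ← hj]
    simp only [← _root_.zpow_mul]
    congr 1
    ring
  intro z hz
  refine mem_center_iff.2 fun x => ?_
  have h := congrArg (fun φ : MulAut N => ((φ ⟨z, hz⟩ : N) : X))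
    (GW.eq_one_of_perfect (MulAut.conjNormal (H := N)) x)
  simp only [MulAut.conjNormal_apply, MulAut.one_apply] at h
  exact mul_inv_eq_iff_eq_mul.1 h

section Kernel

variable {H : Type*} [Group H] [Finite H] {k : Type*} [Field k] [IsAlgClosed k] {V : Type*}
  [AddCommGroup V] [Module k V] [FiniteDimensional k V] (ρ : Representation k H V)
  (hsmall : ∀ h : H, h ≠ 1 → 6 * fx (ρ h) < Module.finrank k V)

include hsmall

/-- The kernel of a minimal cover has order prime to the nonmodular primes. -/
theorem kernel_primes {p : ℕ} [Fact p.Prime] (hp7 : 7 ≤ p) (h3 : (3 : k) ≠ 0) {X : Subgroup H}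
    (π : X →* SL(2, ZMod p)) (hπ : Function.Surjective π)
    (hmin : ∀ Z : Subgroup X, Function.Surjective (π.comp Z.subtype) → Z = ⊤)
    (hodd : ∀ x : X, π x = 1 → Odd (orderOf x)) :
    ∀ x : X, π x = 1 → ∀ r : ℕ, r.Prime → r ∣ orderOf x → (r : k) = 0 := by
  classical
  have hmap : ∀ Z : Subgroup X, Z.map π = ⊤ → Z = ⊤ := fun Z hZ => hmin Z fun t => by
    obtain ⟨x, hx, rfl⟩ := (hZ.ge (mem_top t) : t ∈ Z.map π)
    exact ⟨⟨x, hx⟩, rfl⟩
  haveI hperf : Group.IsPerfect X := ⟨hmap _ (by
    rw [commutator_def, map_commutator, ← MonoidHom.range_eq_map,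
      MonoidHom.range_eq_top.2 hπ, ← commutator_def]
    exact CfsgLib.Forms4.commutator_SL_two (by rw [ZMod.card]; omega))⟩
  -- the parts of the kernel
  have hnorm : ∀ (r : ℕ) [Fact r.Prime], ∃ N : Subgroup X, N.Normal ∧ IsPGroup r N ∧
      (∀ x, π x = 1 → (∃ n, x ^ r ^ n = 1) → x ∈ N) ∧ ∀ x ∈ N, π x = 1 := by
    intro r _
    let P : Sylow r π.ker := default
    haveI hN : ((P : Subgroup π.ker).map π.ker.subtype).Normal := by
      rw [← normalizer_eq_top_iff]
      refine hmap _ ?_
      have h := congrArg (Subgroup.map π) (Sylow.normalizer_sup_eq_top (N := π.ker) P)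
      rwa [Subgroup.map_sup, (Subgroup.map_eq_bot_iff _).2 le_rfl, sup_bot_eq, ← MonoidHom.range_eq_map,
        MonoidHom.range_eq_top.2 hπ] at h
    haveI : (P : Subgroup π.ker).Normal := by
      refine ⟨fun n hn g => ?_⟩
      obtain ⟨m, hm, e⟩ := hN.conj_mem _ (mem_map_of_mem π.ker.subtype hn) (g : X)
      have : m = g * n * g⁻¹ := Subtype.ext e
      exact this ▸ hm
    refine ⟨_, hN, P.isPGroup'.map _, fun x hx ⟨n, hn⟩ => ?_, ?_⟩
    · have hp : IsPGroup r (zpowers (⟨x, hx⟩ : π.ker)) := by
        rintro ⟨y, i, rfl⟩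
        refine ⟨n, Subtype.ext (Subtype.ext ?_)⟩
        simp only [SubgroupClass.coe_pow, SubgroupClass.coe_zpow, OneMemClass.coe_one]
        rw [← zpow_natCast, ← _root_.zpow_mul, mul_comm, _root_.zpow_mul, zpow_natCast, hn,
          _root_.one_zpow]
      obtain ⟨S, hS⟩ := hp.exists_le_sylow
      haveI := Sylow.unique_of_normal P (inferInstance)
      rw [Subsingleton.elim S P] at hS
      exact ⟨_, hS (mem_zpowers _), rfl⟩
    · rintro - ⟨y, -, rfl⟩
      exact y.2
  -- the central parts are trivial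
  have htriv : ∀ (r : ℕ) [Fact r.Prime], r ≠ 2 → ∀ N : Subgroup X, N.Normal → IsPGroup r N →
      (∀ x, π x = 1 → (∃ n, x ^ r ^ n = 1) → x ∈ N) → N ≤ center X → N = ⊥ := by
    intro r _ hr2 N hN hNp hker hc
    haveI := hN
    exact eq_bot_of_central π (fun R hR => isCyclic_sl_prime hr2 R hR) N hNp hc hker
  have hsm : ∀ (r : ℕ) [Fact r.Prime], r ≠ 2 → r ≤ 5 → ∀ x : X, π x = 1 →
      ¬ orderOf x = r := by
    intro r hr hr2 hr6 x hx hxr
    obtain ⟨N, hN, hNp, hker, -⟩ := hnorm r
    haveI := hN
    haveI := isCyclic_of_small ρ hsmall X.subtype X.subtype_injective hr2 hr6 N hNp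
    have hbot := htriv r hr2 N hN hNp hker (le_center_of_isCyclic N)
    have hxN := hker x hx ⟨1, by rw [pow_one, ← hxr, pow_orderOf_eq_one]⟩
    rw [hbot, mem_bot] at hxN
    rw [hxN, orderOf_one] at hxr
    exact hr.out.one_lt.ne hxr
  intro x hx r hr hrx
  haveI : Fact r.Prime := ⟨hr⟩
  by_contra hrk
  have hy : π (x ^ (orderOf x / r)) = 1 := by rw [map_pow, hx, one_pow]
  have hyr : orderOf (x ^ (orderOf x / r)) = r :=
    orderOf_pow_orderOf_div (orderOf_pos x).ne' hrx
  have hr2 : r ≠ 2 := by
    intro h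
    have := hodd _ hy
    rw [hyr, h] at this
    exact absurd this (by decide)
  by_cases hr6 : r ≤ 5
  · exact hsm r hr2 hr6 _ hy hyr
  have hr7 : 7 ≤ r := by
    rcases (show r = 6 ∨ 7 ≤ r by omega) with h | h
    · exact absurd hr (h ▸ by norm_num)
    · exact h
  obtain ⟨N, hN, hNp, hker, -⟩ := hnorm r
  haveI := hN
  -- the elements of order three centralise `N`
  have hcent : ∀ g : X, g ^ 3 = 1 → ∀ z ∈ N, Commute g z := by
    intro g hg z hz
    have hgH : (g : H) ^ 3 = 1 := congrArg Subtype.val hg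
    have := moved ρ hsmall hr7 hrk h3 hgH (N.map X.subtype) (hNp.map _) (by
      rintro - ⟨y, hy, rfl⟩
      exact ⟨_, hN.conj_mem y hy g, rfl⟩) _ (mem_map_of_mem _ hz)
    exact Subtype.ext this
  have hcN : Subgroup.centralizer (N : Set X) = ⊤ := by
    haveI : (Subgroup.centralizer (N : Set X)).Normal := normal_centralizer
    refine hmap _ ?_
    haveI : ((Subgroup.centralizer (N : Set X)).map π).Normal := Normal.map inferInstance π hπ
    refine eq_top_of_w3_mem (by omega) ?_
    obtain ⟨g, hg⟩ := hπ w3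
    set m := orderOf (g ^ 3) with hm
    have hg3 : π (g ^ 3) = 1 := by rw [map_pow, hg, w3_pow_three]
    have hm3 : ¬ 3 ∣ m := fun h => by
      haveI : Fact (Nat.Prime 3) := ⟨Nat.prime_three⟩
      exact hsm 3 (by omega) (by omega) _ (by rw [map_pow, hg3, one_pow])
        (orderOf_pow_orderOf_div (orderOf_pos _).ne' h)
    have hgm : g ^ m ∈ Subgroup.centralizer (N : Set X) := by
      rw [mem_centralizer_iff]
      intro z hz
      exact (hcent (g ^ m) (by rw [← pow_mul, mul_comm, pow_mul, hm, pow_orderOf_eq_one]) z hz).eq.symm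
    have hmem : (w3 : SL(2, ZMod p)) ^ m ∈ (Subgroup.centralizer (N : Set X)).map π :=
      ⟨g ^ m, hgm, by rw [map_pow, hg]⟩
    have hcop : Nat.Coprime (orderOf (w3 : SL(2, ZMod p))) m := by
      rw [orderOf_w3, Nat.prime_three.coprime_iff_not_dvd]
      exact hm3
    obtain ⟨n, hn⟩ := exists_pow_eq_self_of_coprime hcop.symm
    exact hn ▸ pow_mem hmem n
  have hcen : N ≤ center X := fun z hz => mem_center_iff.2 fun y => by
    have : y ∈ Subgroup.centralizer (N : Set X) := hcN.symm ▸ mem_top y
    exact (mem_centralizer_iff.1 this z hz).symm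
  have hbot := htriv r hr2 N hN hNp hker hcen
  have hyN := hker _ hy ⟨1, by
    conv_lhs => arg 2; rw [pow_one, ← hyr]
    exact pow_orderOf_eq_one _⟩
  rw [hbot, mem_bot] at hyN
  rw [hyN, orderOf_one] at hyr
  exact hr.one_lt.ne hyr

end Kernel

/-- The stable term of the derived series. -/
theorem exists_residual (H : Type*) [Group H] [Finite H] :
    ∃ N : Subgroup H, N.Normal ∧ commutator N = ⊤ ∧
      ∀ [N.Normal], Group.IsSolvable (H ⧸ N) := by
  classical
  obtain ⟨m, hm⟩ : ∃ m, derivedSeries H (m + 1) = derivedSeries H m := by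
    by_contra h
    push_neg at h
    have hlt : ∀ m, Nat.card (derivedSeries H m) + m ≤ Nat.card H := by
      intro m
      induction m with
      | zero => simpa using card_subgroup_le_card (derivedSeries H 0)
      | succ m ih =>
        have hlt : derivedSeries H (m + 1) < derivedSeries H m :=
          lt_of_le_of_ne (derivedSeries_antitone H (Nat.le_succ m)) (h m)
        have := Set.ncard_lt_ncard (SetLike.coe_ssubset_coe.2 hlt) (Set.toFinite _)
        rw [← Nat.card_coe_set_eq, ← Nat.card_coe_set_eq] at this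
        simp only [SetLike.coe_sort_coe] at this
        omega
    have := hlt (Nat.card H)
    have : 0 < Nat.card (derivedSeries H (Nat.card H)) := Nat.card_pos
    omega
  refine ⟨derivedSeries H m, derivedSeries_normal H m, ?_, fun {hN} => ⟨⟨m, ?_⟩⟩⟩
  · refine map_injective (derivedSeries H m).subtype_injective ?_
    rw [map_subtype_commutator, ← MonoidHom.range_eq_map, range_subtype, ← derivedSeries_succ, hm]
  · rw [← map_derivedSeries_eq (QuotientGroup.mk'_surjective (derivedSeries H m)),
      Subgroup.map_eq_bot_iff, QuotientGroup.ker_mk']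

/-- The radical index is at most `120` when the residual has quotient `A₅`. -/
theorem index_le_of_altFive {H : Type*} [Group H] [Finite H] (N : Subgroup H) [N.Normal]
    (hsol : Group.IsSolvable (H ⧸ N)) (ψ : N →* alternatingGroup (Fin 5))
    (hψ : Function.Surjective ψ) (hker : Group.IsSolvable ψ.ker) :
    (Cfsg.solvableRadical H).index ≤ 120 := by
  classical
  haveI hA5 : IsSimpleGroup (alternatingGroup (Fin 5)) := inferInstance
  have hcen : center (alternatingGroup (Fin 5)) = ⊥ :=
    alternatingGroup.center_eq_bot (by rw [Nat.card_fin]; norm_num)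
  have hns : ¬ Group.IsSolvable (alternatingGroup (Fin 5)) := fun h => by
    have hcm : commutator (alternatingGroup (Fin 5)) = ⊥ := by
      rcases hA5.eq_bot_or_eq_top_of_normal (commutator (alternatingGroup (Fin 5))) inferInstance
        with h1 | h1
      · exact h1
      · haveI := h
        exact absurd h1 (Group.IsSolvable.commutator_lt_top_of_nontrivial _).ne
    have : center (alternatingGroup (Fin 5)) = ⊤ := (commutator_eq_bot_iff_center_eq_top _).1 hcm
    rw [hcen] at this
    exact bot_ne_top this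
  -- a solvable normal subgroup of `N` is in the kernel
  have hle : ∀ K : Subgroup N, K.Normal → Group.IsSolvable K → K ≤ ψ.ker := by
    intro K hK hKs
    rcases hA5.eq_bot_or_eq_top_of_normal (K.map ψ) (Normal.map hK ψ hψ) with h | h
    · exact (Subgroup.map_eq_bot_iff K).1 h
    · refine absurd ?_ hns
      have hKm : Group.IsSolvable (K.map ψ) := Components.isSolvable_map ψ hKs
      rw [h] at hKm
      haveI := hKm
      exact Group.isSolvable_of_surjective
        (f := (Subgroup.topEquiv : (⊤ : Subgroup (alternatingGroup (Fin 5))) ≃* _).toMonoidHom)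
        Subgroup.topEquiv.surjective
  haveI hchar : ψ.ker.Characteristic := by
    refine characteristic_iff_map_le.2 fun φ => hle _ (Normal.map inferInstance _ φ.surjective) ?_
    exact Components.isSolvable_map _ hker
  set R := Cfsg.solvableRadical H with hR
  haveI hRn : R.Normal := Components.solvRadical_normal (G := H)
  have hRs : Group.IsSolvable R := Components.isSolvable_solvRadical
  have hsub : ψ.ker = R.subgroupOf N := by
    refine le_antisymm ?_ (hle _ inferInstance
      (Components.isSolvable_mono (G := N) (H := R.subgroupOf N) (K := R.subgroupOf N) ?_ le_rfl))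
    · have hn : (ψ.ker.map N.subtype).Normal := ConjAct.normal_of_characteristic_of_normal
      have hK : ψ.ker.map N.subtype ≤ R :=
        le_sSup (⟨hn, Components.isSolvable_map _ hker⟩ :
          (ψ.ker.map N.subtype).Normal ∧ Group.IsSolvable (ψ.ker.map N.subtype))
      exact fun z hz => mem_subgroupOf.2 (hK (mem_map_of_mem N.subtype hz))
    · haveI := hRs
      let f : R.subgroupOf N →* R :=
        ((N.subtype).comp (R.subgroupOf N).subtype).codRestrict R fun z => z.2
      exact Group.isSolvable_of_isSolvable_injective (f := f)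
        fun a b e => Subtype.ext (Subtype.ext (congrArg Subtype.val e : _))
  set q := QuotientGroup.mk' R with hq
  set L := N.map q with hL
  haveI : L.Normal := Normal.map inferInstance q (QuotientGroup.mk'_surjective R)
  have hkq : (q.subgroupMap N).ker = ψ.ker := by
    ext z
    rw [hsub, mem_subgroupOf, MonoidHom.mem_ker, ← QuotientGroup.eq_one_iff]
    exact ⟨fun h => congrArg Subtype.val h, fun h => Subtype.ext h⟩
  let e : L ≃* alternatingGroup (Fin 5) :=
    ((QuotientGroup.quotientKerEquivOfSurjective _ (q.subgroupMap_surjective N)).symm.trans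
      (QuotientGroup.quotientMulEquivOfEq hkq)).trans
      (QuotientGroup.quotientKerEquivOfSurjective ψ hψ)
  set C := Subgroup.centralizer (L : Set (H ⧸ R)) with hC
  haveI : C.Normal := normal_centralizer
  have hCL : ∀ y ∈ C, y ∈ L → y = 1 := by
    intro y hy hyL
    have hz : e ⟨y, hyL⟩ ∈ center (alternatingGroup (Fin 5)) := by
      refine mem_center_iff.2 fun a => ?_
      obtain ⟨l, rfl⟩ := e.surjective a
      rw [← map_mul, ← map_mul]
      exact congrArg e (Subtype.ext (mem_centralizer_iff.1 hy l l.2))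
    rw [hcen, mem_bot, MulEquiv.map_eq_one_iff] at hz
    exact congrArg Subtype.val hz
  have hLs : Group.IsSolvable ((H ⧸ R) ⧸ L) := by
    haveI := hsol
    refine Group.isSolvable_of_surjective
      (f := QuotientGroup.map N L q (le_comap_map q N)) ?_
    intro y
    obtain ⟨y, rfl⟩ := QuotientGroup.mk_surjective y
    obtain ⟨y, rfl⟩ := QuotientGroup.mk_surjective y
    exact ⟨QuotientGroup.mk y, rfl⟩
  have hCs : Group.IsSolvable C := by
    haveI := hLs
    refine Group.isSolvable_of_isSolvable_injective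
      (f := (QuotientGroup.mk' L).comp C.subtype) ?_
    rw [injective_iff_map_eq_one]
    intro y hy
    exact Subtype.ext (hCL y y.2 ((QuotientGroup.eq_one_iff (y : H ⧸ R)).1 hy))
  have hCbot : C = ⊥ := by
    have hM : Group.IsSolvable (C.comap q) := by
      haveI := hCs
      haveI := hRs
      refine Group.isSolvable_of_ker_le_range
        (inclusion (show R ≤ C.comap q from fun z hz => by
          rw [mem_comap, show q z = 1 from (QuotientGroup.eq_one_iff z).2 hz]; exact one_mem C))
        (q.subgroupComap C) ?_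
      intro z hz
      exact ⟨⟨z, (QuotientGroup.eq_one_iff _).1 (congrArg Subtype.val hz)⟩, rfl⟩
    have hle' : C.comap q ≤ R := le_sSup (α := Subgroup H) ⟨Normal.comap inferInstance q, hM⟩
    rw [eq_bot_iff]
    intro y hy
    obtain ⟨y, rfl⟩ := QuotientGroup.mk_surjective y
    exact mem_bot.2 ((QuotientGroup.eq_one_iff y).2 (hle' hy))
  have hinj : Function.Injective
      ((MulAut.congr e).toMonoidHom.comp (MulAut.conjNormal (H := L))) := by
    refine (MulAut.congr e).injective.comp ((injective_iff_map_eq_one _).2 fun y hy => ?_)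
    have hyC : y ∈ C := by
      rw [hC, mem_centralizer_iff]
      intro l hl
      have h := congrArg (fun φ : MulAut L => ((φ ⟨l, hl⟩ : L) : H ⧸ R)) hy
      simp only [MulAut.conjNormal_apply, MulAut.one_apply] at h
      exact (mul_inv_eq_iff_eq_mul.1 h).symm
    rwa [hCbot, mem_bot] at hyC
  have := Nat.card_le_card_of_injective _ hinj
  rwa [CfsgLib.Perm.RegularLinear.card_aut_altFive, ← index_eq_card] at this

/-- A cover of `SL(2,p)` with kernel prime to the nonmodular primes. -/
theorem exists_cover {H : Type u} [Group H] [Finite H] (hGW : ∀ m, GW.SimpleHyp.{u} m)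
    (hR : 120 < (Cfsg.solvableRadical H).index) {k : Type w} {V : Type v} [Field k] [IsAlgClosed k]
    [AddCommGroup V] [Module k V] [FiniteDimensional k V] (ρ : Representation k H V)
    (hsmall : ∀ h : H, h ≠ 1 → 6 * fx (ρ h) < Module.finrank k V) :
    ∃ (p : ℕ) (_ : Fact p.Prime) (X : Subgroup H) (π : X →* SL(2, ZMod p)),
      7 ≤ p ∧ Function.Surjective π ∧ (2 : k) ≠ 0 ∧ (3 : k) ≠ 0 ∧
      ∀ x : X, π x = 1 → ∀ r : ℕ, r.Prime → r ∣ orderOf x → (r : k) = 0 := by
  classical
  haveI : Fact (Nat.Prime 2) := ⟨Nat.prime_two⟩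
  obtain ⟨N, hN, hperf, hsolQ⟩ := exists_residual H
  haveI := hN
  have hsol : Group.IsSolvable (H ⧸ N) := hsolQ
  haveI : Group.IsPerfect N := ⟨hperf⟩
  have hNns : ¬ Group.IsSolvable N := fun hs => by
    have hHs : Group.IsSolvable H := by
      haveI := hs
      haveI := hsol
      exact Group.isSolvable_of_ker_le_range N.subtype (QuotientGroup.mk' N)
        (by rw [QuotientGroup.ker_mk', range_subtype])
    have htop : Cfsg.solvableRadical H = ⊤ := top_unique (le_sSup (α := Subgroup H)
      ⟨inferInstance, Group.isSolvable_of_isSolvable_injective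
        (f := (Subgroup.topEquiv : (⊤ : Subgroup H) ≃* H).toMonoidHom)
        Subgroup.topEquiv.injective⟩)
    rw [htop, index_top] at hR
    omega
  have hev : Even (Nat.card N) := by
    by_contra h
    exact hNns (Cfsg.Agent.S0205.result (Nat.not_even_iff_odd.1 h))
  obtain ⟨t, ht⟩ := exists_prime_orderOf_dvd_card' (G := N) 2 (even_iff_two_dvd.1 hev)
  have h2k : (2 : k) ≠ 0 := by
    exact_mod_cast natCast_ne_zero_of_orderOf ρ hsmall Nat.prime_two (by omega) (x := (t : H))
      (by rw [Subgroup.orderOf_coe, ht])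
  have hcyc : ∀ (r : ℕ) [Fact r.Prime], r ≠ 2 → r ≤ 5 →
      ∀ R : Subgroup (N ⧸ Cfsg.oddCore N), IsPGroup r R → IsCyclic R := fun r _ hr2 hr6 =>
    isCyclic_image _ (QuotientGroup.mk'_surjective _)
      fun R hR => isCyclic_of_small ρ hsmall N.subtype N.subtype_injective hr2 hr6 R hR
  rcases CfsgLib.PerfectRankOne.of_simpleHyp hGW
    (pRankLE_of_small ρ hsmall N.subtype N.subtype_injective Nat.prime_two (by omega)) hev with
    ⟨F, iF, iT, hFodd, hF3, ⟨eF⟩⟩ | ⟨-, ⟨eA⟩, -⟩
  swap
  · haveI : Fact (Nat.Prime 3) := ⟨Nat.prime_three⟩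
    exact (false_of_altSeven (eA.toMonoidHom.comp (QuotientGroup.mk' _))
      (eA.surjective.comp (QuotientGroup.mk'_surjective _))
      (hcyc 3 (by omega) (by omega))).elim
  obtain ⟨p, hpF⟩ := CharP.exists F
  haveI := hpF
  haveI hp : Fact p.Prime := ⟨CharP.char_is_prime F p⟩
  obtain ⟨e, -, hpe⟩ := FiniteField.card F p
  have hp2 : p ≠ 2 := by
    rintro rfl
    rw [hpe] at hFodd
    exact (Nat.not_even_iff_odd.2 hFodd) ((Nat.even_pow).2 ⟨even_two, e.ne_zero⟩)
  let φ : N →* SL(2, F) := eF.toMonoidHom.comp (QuotientGroup.mk' (Cfsg.oddCore N))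
  have hφ : Function.Surjective φ := eF.surjective.comp (QuotientGroup.mk'_surjective _)
  have hφk : φ.ker = Cfsg.oddCore N := by
    ext z
    simp [φ, MonoidHom.mem_ker]
  have hcard : p ≤ 5 → Fintype.card F = p := fun hp5 =>
    card_eq_of_isCyclic (isCyclic_image eF.toMonoidHom eF.surjective (hcyc p hp2 hp5))
  have hp7 : 7 ≤ p := by
    by_contra hp7
    have h6 : p ≠ 6 := fun h => by
      have := hp.out
      rw [h] at this
      exact absurd this (by norm_num)
    have hFp := hcard (by omega)
    have h4 : p ≠ 4 := fun h => by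
      have := hp.out
      rw [h] at this
      exact absurd this (by norm_num)
    have hF5 : Fintype.card F = 5 := by omega
    obtain ⟨e5⟩ := Cfsg.Agent.S0253.result (F := F) hF5
    let ψ : N →* alternatingGroup (Fin 5) :=
      e5.toMonoidHom.comp ((QuotientGroup.mk' (center SL(2, F))).comp φ)
    have hψ : Function.Surjective ψ :=
      e5.surjective.comp ((QuotientGroup.mk'_surjective _).comp hφ)
    have hψk : Group.IsSolvable ψ.ker := by
      have hmem : ∀ z : ψ.ker, φ z ∈ center SL(2, F) := fun z => by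
        have hz := z.2
        rw [MonoidHom.mem_ker] at hz
        have h1 : QuotientGroup.mk' (center SL(2, F)) (φ z) = 1 :=
          e5.injective (hz.trans (map_one e5).symm)
        exact (QuotientGroup.eq_one_iff _).1 h1
      haveI : Group.IsSolvable (center SL(2, F)) :=
        Group.isSolvable_of_comm fun a b => mul_comm' a b
      haveI : Group.IsSolvable (Cfsg.oddCore N) :=
        Cfsg.Agent.S0205.result CfsgLib.Inv54.odd_card_oddCore
      refine Group.isSolvable_of_ker_le_range
        (inclusion (show Cfsg.oddCore N ≤ ψ.ker from fun z hz => by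
          rw [← hφk, MonoidHom.mem_ker] at hz
          rw [MonoidHom.mem_ker]
          simp [ψ, hz]))
        ((φ.comp ψ.ker.subtype).codRestrict _ hmem) ?_
      intro z hz
      refine ⟨⟨z, hφk ▸ (congrArg Subtype.val hz : _)⟩, rfl⟩
    have := index_le_of_altFive N hsol ψ hψ hψk
    omega
  -- the cover
  let ι : SL(2, ZMod p) →* SL(2, F) :=
    Matrix.SpecialLinearGroup.map (ZMod.castHom (dvd_refl p) F)
  have hι : Function.Injective ι := fun a b h => by
    refine Subtype.ext (Matrix.ext fun i j => ?_)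
    exact (ZMod.castHom (dvd_refl p) F).injective (congrArg (fun M : SL(2, F) => M i j) h)
  let M : Subgroup N := ι.range.comap φ
  let π₀ : M →* SL(2, ZMod p) := (MonoidHom.ofInjective hι).symm.toMonoidHom.comp
    (φ.subgroupComap ι.range)
  have hπ₀ : Function.Surjective π₀ := by
    refine (MonoidHom.ofInjective hι).symm.surjective.comp ?_
    rintro ⟨y, hy⟩
    obtain ⟨z, hz⟩ := hφ y
    exact ⟨⟨z, show φ z ∈ ι.range from hz.symm ▸ hy⟩, Subtype.ext hz⟩
  obtain ⟨Y, hY, hYmin⟩ := exists_min_cover π₀ hπ₀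
  let j : Y →* H := N.subtype.comp (M.subtype.comp Y.subtype)
  have hj : Function.Injective j :=
    N.subtype_injective.comp (M.subtype_injective.comp Y.subtype_injective)
  let eY : Y ≃* j.range := MonoidHom.ofInjective hj
  let π : j.range →* SL(2, ZMod p) := (π₀.comp Y.subtype).comp eY.symm.toMonoidHom
  have hπ : Function.Surjective π := hY.comp eY.symm.surjective
  have h3k : (3 : k) ≠ 0 := by
    obtain ⟨g, hg⟩ := hπ w3
    have hd : 3 ∣ orderOf g := by
      rw [← orderOf_w3 (F := ZMod p), ← hg]
      exact orderOf_map_dvd π g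
    exact_mod_cast natCast_ne_zero_of_orderOf ρ hsmall Nat.prime_three (by omega)
      (x := ((g ^ (orderOf g / 3) : j.range) : H))
      (by rw [Subgroup.orderOf_coe, orderOf_pow_orderOf_div (orderOf_pos g).ne' hd])
  refine ⟨p, hp, j.range, π, hp7, hπ, h2k, h3k, kernel_primes ρ hsmall hp7 h3k π hπ ?_ ?_⟩
  · intro Z hZ
    have h := hYmin (Z.comap eY.toMonoidHom) fun t => by
      obtain ⟨⟨z, hz⟩, ht⟩ := hZ t
      refine ⟨⟨eY.symm z, by simpa using hz⟩, ?_⟩
      exact ht
    refine comap_injective eY.surjective ?_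
    exact h.trans (comap_top _).symm
  · intro x hx
    have h1 : φ ((eY.symm x : M) : N) = 1 := by
      have h2 : (φ.subgroupComap ι.range) (eY.symm x : M) = 1 :=
        (MonoidHom.ofInjective hι).symm.injective (hx.trans (map_one _).symm)
      exact congrArg Subtype.val h2
    rw [← MonoidHom.mem_ker, hφk] at h1
    have hd := Subgroup.orderOf_dvd_natCard _ h1
    rw [Subgroup.orderOf_coe, Subgroup.orderOf_coe, MulEquiv.orderOf_eq] at hd
    exact Odd.of_dvd_nat CfsgLib.Inv54.odd_card_oddCore hd

end CfsgLib.FixSixth
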