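import Cfsg.Agent.SL2CharTable.Final
import Cfsg.Agent.SL2CharTable.DiagAut
import Cfsg.Agent.SL2CharTable.DefiningBlocks

/-!
# The faithful characters of `SL₂(p)` at an element of order three

For a prime `p ≥ 7` an irreducible character with `χ (-1) = -χ 1` has degree at most `(p + 1) / 2`,
or degree at most `p + 1` and is fixed by the diagonal automorphisms; in both cases
`χ 1 + 5 re (χ w) ≥ 0` for `w` of order three.
-/

set_option autoImplicit false
set_option linter.unusedSectionVars false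

namespace CfsgLib.FixSixth

open Matrix CfsgLib.SL2Borel CfsgLib.SL2Tori CfsgLib.SL2CharTable
open scoped MatrixGroups

variable {p : ℕ} [Fact p.Prime]

theorem add_inv_cases {c : ℂ} (h : c ^ 3 = 1) : c + c⁻¹ = 2 ∨ c + c⁻¹ = -1 := by
  have h0 : c ≠ 0 := fun e => by rw [e] at h; norm_num at h
  have : (c - 1) * (c ^ 2 + c + 1) = 0 := by linear_combination h
  rcases mul_eq_zero.1 this with e | e
  · left
    rw [sub_eq_zero.1 e]
    norm_num
  · right
    field_simp
    linear_combination e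

/-- The principal series and the discrete series are fixed by the diagonal automorphisms. -/
theorem D_diagAut {F : Type*} [Field F] [Fintype F] [DecidableEq F] (Tr : NSTorus F) (h2 : (2 : F) ≠ 0)
    (η : Tr.T →* ℂˣ) (u : Fˣ) (g : SL(2, F)) : D Tr h2 η (diagAut u g) = D Tr h2 η g := by
  have hcl : Cfsg.IsClassFunction SL(2, F) (D Tr h2 η) :=
    CfsgLib.Characters.isClassFunction_of_isGen (isGen_D Tr h2 η)
  by_cases h : ∃ m : F, m ^ 2 + tr g * m + 1 = 0
  · obtain ⟨m, hm⟩ := h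
    obtain ⟨a, x, hc⟩ := exists_mk g hm
    have key : D Tr h2 η (diagAut u (mk a x)) = D Tr h2 η (mk a x) := by
      rw [diagAut_mk]
      by_cases ha : a ^ 2 = 1
      · have he : a = 1 ∨ a = -1 := by_contra fun h => sq_ne_one_iff.2 h ha
        by_cases hx : x = 0
        · subst hx; rw [mul_zero]
        · rw [D_unipotent Tr h2 η he hx, D_unipotent Tr h2 η he (mul_ne_zero u.ne_zero hx)]
      · rw [D_regular Tr h2 η ha, D_regular Tr h2 η ha]
    obtain ⟨c, rfl⟩ := isConj_iff.1 hc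
    rw [hcl (mk a x) c, map_mul, map_mul, map_inv, hcl _ (diagAut u c), key]
  · simp only [not_exists] at h
    exact classFun_congr hcl (SL2Trace.isConj_of_trace_eq g (diagAut u g) (tr_diagAut u g).symm
      (sq_ne_four_of_no_root h))

/-- The facts used about the faithful irreducible characters. -/
theorem char_facts (h7 : 7 ≤ p) {χ : SL(2, ZMod p) → ℂ} (hχ : Cfsg.IsIrrCharacter SL(2, ZMod p) χ)
    (hneg : χ (-1) = -χ 1) {w : SL(2, ZMod p)} (hw : orderOf w = 3) :
    ∃ D : ℕ, χ 1 = D ∧ (2 * D ≤ p + 1 ∨ (D ≤ p + 1 ∧ ∀ u g, χ (diagAut u g) = χ g)) ∧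
      0 ≤ (D : ℝ) + 5 * (χ w).re := by
  have hodd : Odd (Fintype.card (ZMod p)) := by
    rw [ZMod.card]; exact (Fact.out : p.Prime).odd_of_ne_two (by omega)
  obtain ⟨Tr, h2, ⟨H⟩⟩ := exists_table (F := ZMod p) hodd
  have hcard : Fintype.card (ZMod p) = p := ZMod.card p
  have hw1 : w ≠ 1 := fun e => by rw [e, orderOf_one] at hw; norm_num at hw
  have hw3 : w ^ 3 = 1 := hw ▸ pow_orderOf_eq_one w
  have hcl := CfsgLib.Characters.isClassFunction_of_isIrr hχ
  have h3p : ((3 : ℕ) : ZMod p) ≠ 0 := fun e => by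
    rw [ZMod.natCast_eq_zero_iff] at e
    have := Nat.le_of_dvd (by norm_num) e
    omega
  -- the two kinds of elements of order three
  have hcases : (∃ (a : (ZMod p)ˣ) (x : ZMod p), a ^ 2 ≠ 1 ∧ a ^ 3 = 1 ∧
      IsConj (SL2Borel.mk a x) w) ∨
      (11 ≤ p ∧ ∃ t : Tr.T, (t : SL(2, ZMod p)) ≠ 1 ∧ (t : SL(2, ZMod p)) ≠ -1 ∧ t ^ 3 = 1 ∧
        (∀ m : ZMod p, m ^ 2 + tr (t : SL(2, ZMod p)) * m + 1 ≠ 0) ∧
        IsConj (t : SL(2, ZMod p)) w) := by
    rcases element_cases Tr h2 w with ⟨a, x, hc⟩ | ⟨t, h1, h1', hc⟩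
    · refine Or.inl ⟨a, x, ?_⟩
      obtain ⟨c, hcw⟩ := isConj_iff.1 hc
      have hm3 : SL2Borel.mk a x ^ 3 = 1 := by
        have h3 : c * SL2Borel.mk a x ^ 3 * c⁻¹ = 1 := by rw [← conj_pow, hcw, hw3]
        calc SL2Borel.mk a x ^ 3 = c⁻¹ * (c * SL2Borel.mk a x ^ 3 * c⁻¹) * c := by group
          _ = 1 := by rw [h3, mul_one, inv_mul_cancel]
      rw [show (3 : ℕ) = 2 + 1 from rfl, pow_succ, pow_two, SL2CharTable.mk_mul, SL2CharTable.mk_mul,
        ← SL2CharTable.mk_one_zero] at hm3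
      have ha : a ^ 3 = 1 := by
        rw [show (3 : ℕ) = 2 + 1 from rfl, pow_succ, pow_two]
        exact Units.ext (congrArg (fun g : SL(2, ZMod p) => g 0 0) hm3)
      refine ⟨fun ha2 => ?_, ha, hc⟩
      obtain rfl : a = 1 := by rwa [pow_succ, ha2, one_mul] at ha
      have hx := congrArg (fun g : SL(2, ZMod p) => g 0 1) hm3
      simp [SL2Borel.mk] at hx
      have h3x : ((3 : ℕ) : ZMod p) * x = 0 := by push_cast; linear_combination hx
      obtain rfl : x = 0 := (mul_eq_zero.1 h3x).resolve_left h3p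
      rw [SL2CharTable.mk_one_zero, mul_one, mul_inv_cancel] at hcw
      exact hw1 hcw.symm
    · obtain ⟨c, hcw⟩ := isConj_iff.1 hc
      have ht3 : t ^ 3 = 1 := Subtype.ext (by
        have h3 : c * (t : SL(2, ZMod p)) ^ 3 * c⁻¹ = 1 := by rw [← conj_pow, hcw, hw3]
        calc ((t ^ 3 : Tr.T) : SL(2, ZMod p)) = c⁻¹ * (c * (t : SL(2, ZMod p)) ^ 3 * c⁻¹) * c := by
              rw [SubmonoidClass.coe_pow]; group
          _ = 1 := by rw [h3, mul_one, inv_mul_cancel])
      refine Or.inr ⟨?_, t, h1, h1', ht3, (Tr.regular t.2 h1 h1').2.2, hc⟩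
      have ho : orderOf t = 3 := orderOf_eq_prime ht3 fun e => h1 (by rw [e]; rfl)
      have h3 : 3 ∣ p + 1 := by
        have := ho ▸ orderOf_dvd_natCard t
        rwa [Tr.card_T, hcard] at this
      have hp := (Fact.out : p.Prime)
      by_contra h
      interval_cases p <;> first | omega | (exact absurd hp (by norm_num))
  have hval : ∀ v, IsConj v w → χ w = χ v := fun v hv => classFun_congr hcl hv
  have hp1 : (1 : ℕ) ≤ p := by omega
  rcases H.cases hχ with ⟨e, -⟩ | ⟨e, -⟩ | ⟨β, -, e, d⟩ | ⟨η, -, e, d⟩ | ⟨e, d⟩ | ⟨e, d⟩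
  · exfalso
    rw [e] at hneg
    norm_num at hneg
  · exfalso
    rw [e, St_neg_one, St_one, eq_neg_iff_add_eq_zero, ← two_mul] at hneg
    simp [hcard] at hneg
    omega
  · refine ⟨p + 1, by rw [d, hcard], Or.inr ⟨le_rfl, fun u g => by rw [e, R_diagAut]⟩, ?_⟩
    have hD : (8 : ℝ) ≤ ((p + 1 : ℕ) : ℝ) := by exact_mod_cast (by omega : 8 ≤ p + 1)
    rcases hcases with ⟨a, x, ha, ha3, hc⟩ | ⟨-, t, -, -, -, hno, hc⟩
    · rw [hval _ hc, e, R_mk_regular β ha, map_inv, Units.val_inv_eq_inv_val]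
      have hb : (β a : ℂ) ^ 3 = 1 := by rw [← Units.val_pow_eq_pow_val, ← map_pow, ha3, map_one]; rfl
      rcases add_inv_cases hb with h | h <;> rw [h] <;> simp <;> first | linarith | omega | (norm_cast at *; omega)
    · rw [hval _ hc, e, R_nonsplit β hno]
      simp
      linarith
  · refine ⟨p - 1, by rw [d, hcard], Or.inr ⟨by omega, fun u g => by rw [e, D_diagAut]⟩, ?_⟩
    rcases hcases with ⟨a, x, ha, -, hc⟩ | ⟨h11, t, h1, h1', ht3, -, hc⟩
    · rw [hval _ hc, e, D_regular Tr h2 η ha]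
      simp
    · have hD : (10 : ℝ) ≤ ((p - 1 : ℕ) : ℝ) := by exact_mod_cast (by omega : 10 ≤ p - 1)
      rw [hval _ hc, e, D_torus Tr h2 η t h1 h1', map_inv, Units.val_inv_eq_inv_val]
      have hb : (η t : ℂ) ^ 3 = 1 := by rw [← Units.val_pow_eq_pow_val, ← map_pow, ht3, map_one]; rfl
      rcases add_inv_cases hb with h | h <;> rw [h] <;> simp <;> linarith
  · refine ⟨(p + 1) / 2, by rw [d, hcard], Or.inl (by omega), ?_⟩
    have hD : (4 : ℝ) ≤ (((p + 1) / 2 : ℕ) : ℝ) := by exact_mod_cast (by omega : 4 ≤ (p + 1) / 2)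
    rcases hcases with ⟨a, x, ha, ha3, hc⟩ | ⟨-, t, -, -, -, hno, hc⟩
    · have hα : (H.α a : ℂ) = 1 := by
        refine (H.α_apply a).1 ⟨((a ^ 2 : (ZMod p)ˣ) : ZMod p), ?_⟩
        rw [← Units.val_mul, ← pow_add, show 2 + 2 = 3 + 1 from rfl, pow_succ, ha3, one_mul]
      have hv : χ w = 1 := by
        rw [hval _ hc]
        rcases e with e | e <;> rw [e]
        · rw [(H.χ_regular ha x).1, hα]
        · rw [(H.χ_regular ha x).2, hα]
      rw [hv]; simp; linarith
    · have hv : χ w = 0 := by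
        rw [hval _ hc]
        rcases e with e | e <;> rw [e]
        · exact (H.χ_nonsplit hno).1
        · exact (H.χ_nonsplit hno).2
      rw [hv]; simp
  · refine ⟨(p - 1) / 2, by rw [d, hcard], Or.inl (by omega), ?_⟩
    rcases hcases with ⟨a, x, ha, ha3, hc⟩ | ⟨h11, t, h1, h1', ht3, -, hc⟩
    · have hv : χ w = 0 := by
        rw [hval _ hc]
        rcases e with e | e <;> rw [e]
        · exact (H.ψ_regular ha x).1
        · exact (H.ψ_regular ha x).2
      rw [hv]; simp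
    · have hD : (5 : ℝ) ≤ (((p - 1) / 2 : ℕ) : ℝ) := by exact_mod_cast (by omega : 5 ≤ (p - 1) / 2)
      have hθ : (H.θ t : ℂ) = 1 := by
        have hs : H.θ t ^ 2 = 1 := by rw [← MonoidHom.pow_apply, H.θ_sq, MonoidHom.one_apply]
        have hc3 : H.θ t ^ 3 = 1 := by rw [← map_pow, ht3, map_one]
        rw [show (3 : ℕ) = 2 + 1 from rfl, pow_succ, hs, one_mul] at hc3
        rw [hc3, Units.val_one]
      have hv : χ w = -1 := by
        rw [hval _ hc]
        rcases e with e | e <;> rw [e]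
        · rw [(H.ψ_torus t h1 h1').1, hθ]
        · rw [(H.ψ_torus t h1 h1').2, hθ]
      rw [hv]; simp; first | linarith | omega

end CfsgLib.FixSixth
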