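import Cfsg.Agent.FixSixth.Reduction
import Cfsg.Agent.FixSixth.Elements
import Cfsg.Agent.FixSixth.Table
import Cfsg.Agent.Characters.Classes

/-!
# An element of order three on a faithful module in cross characteristic

For `p ≥ 7` and a field of characteristic prime to `6 p` a simple module of `SL₂(p)` on which `-1`
inverts has dimension at most five times the dimension of the fixed space of an element of order three.
-/

set_option autoImplicit false
set_option linter.unusedSectionVars false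
set_option linter.style.haveILetI false

namespace CfsgLib.FixSixth

open Module Matrix
open scoped MatrixGroups

variable {p : ℕ} [Fact p.Prime] {Ω : Type*} [Field Ω] [IsAlgClosed Ω]

theorem subRep_neg_one {k G V : Type*} [Field k] [Monoid G] [AddCommGroup V] [Module k V]
    (ρ : Representation k G V) {S : Submodule k V} (h : ∀ g, ∀ v ∈ S, ρ g v ∈ S) {z : G}
    (hz : ρ z = -1) : subRep ρ S h z = -1 := by
  refine LinearMap.ext fun v => Subtype.ext ?_
  show ρ z v = -(v : V)
  rw [hz, LinearMap.neg_apply, Module.End.one_apply]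

theorem quotRep_neg_one {k G V : Type*} [Field k] [Monoid G] [AddCommGroup V] [Module k V]
    (ρ : Representation k G V) {S : Submodule k V} (h : ∀ g, ∀ v ∈ S, ρ g v ∈ S) {z : G}
    (hz : ρ z = -1) : quotRep ρ S h z = -1 := by
  refine LinearMap.ext fun v => ?_
  obtain ⟨x, rfl⟩ := S.mkQ_surjective v
  show Submodule.Quotient.mk (ρ z x) = -Submodule.Quotient.mk x
  rw [hz, LinearMap.neg_apply, Module.End.one_apply, Submodule.Quotient.mk_neg]

section Orbit

variable {W : Type*} [AddCommGroup W] [Module Ω W] [FiniteDimensional Ω W] [Nontrivial W]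
  (π : Representation Ω SL(2, ZMod p) W) (hp : (p : Ω) ≠ 0) (hp7 : 7 ≤ p) (h2 : (2 : Ω) ≠ 0)
  (hz : π (-1) = -1)

include hp hp7 h2 hz in
/-- The unipotent element has an eigenvalue other than one. -/
theorem exists_eigenvalue_ne_one :
    ∃ ν : Ω, ν ≠ 1 ∧ ν ^ p = 1 ∧ ∃ v, v ≠ 0 ∧ π (up 1) v = ν • v := by
  set f := π (up 1) with hf
  have hfp : f ^ p = 1 := by
    rw [hf, ← map_pow, ← up_natCast, ZMod.natCast_self, up_zero, map_one]
  have hne : f ≠ 1 := by
    intro h
    have htop := eq_top_of_up_mem (N := π.ker) (MonoidHom.mem_ker.2 h)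
    have h1 : π (-1) = 1 := MonoidHom.mem_ker.1 (htop ▸ Subgroup.mem_top _)
    rw [hz] at h1
    obtain ⟨v, hv⟩ := exists_ne (0 : W)
    have h3 := LinearMap.congr_fun h1 v
    simp only [LinearMap.neg_apply, Module.End.one_apply] at h3
    exact hv ((smul_eq_zero.1 (show (2 : Ω) • v = 0 by
      rw [two_smul]; nth_rw 1 [← h3]; exact neg_add_cancel v)).resolve_left h2)
  set K := LinearMap.ker (avg f p) with hK
  have hKne : K ≠ ⊥ := by
    intro h
    refine hne (LinearMap.ext fun v => ?_)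
    have : v - avg f p v ∈ K := by
      rw [hK, LinearMap.mem_ker, map_sub, avg_apply_of_fixed hp (apply_avg hfp v), sub_self]
    rw [h, Submodule.mem_bot, sub_eq_zero] at this
    rw [Module.End.one_apply, this, apply_avg hfp]
  have hinv : ∀ v ∈ K, f v ∈ K := fun v hv => by
    have hc : Commute f (avg f p) :=
      Commute.smul_right (Commute.sum_right _ _ _ fun i _ => Commute.pow_right (Commute.refl f) i) _
    rw [hK, LinearMap.mem_ker] at hv ⊢
    rw [← Module.End.mul_apply, ← hc.eq, Module.End.mul_apply, hv, map_zero]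
  haveI := Submodule.nontrivial_iff_ne_bot.2 hKne
  obtain ⟨ν, hν⟩ := Module.End.exists_eigenvalue (f.restrict hinv)
  obtain ⟨⟨v, hvK⟩, hv⟩ := hν.exists_hasEigenvector
  have hv0 : v ≠ 0 := fun e => hv.2 (Subtype.ext e)
  have he : f v = ν • v := congrArg Subtype.val hv.apply_eq_smul
  have hpow : ∀ i : ℕ, (f ^ i) v = ν ^ i • v := fun i => by
    induction i with
    | zero => simp
    | succ i ih => rw [pow_succ', Module.End.mul_apply, ih, map_smul, he, smul_smul, pow_succ]
  refine ⟨ν, fun h1 => hv0 ?_, ?_, v, hv0, he⟩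
  · rw [← avg_apply_of_fixed hp (by rw [he, h1, one_smul] : f v = v)]
    exact LinearMap.mem_ker.1 hvK
  · have := hpow p
    rw [hfp, Module.End.one_apply] at this
    exact smul_left_injective Ω hv0 (by simp [← this])

/-- The set of exponents giving eigenvalues. -/
def IsExp (ν : Ω) (c : (ZMod p)ˣ) : Prop :=
  ∃ v, v ≠ 0 ∧ π (up 1) v = ν ^ (c : ZMod p).val • v

theorem pow_eigen {ν : Ω} {v : W} (h : π (up 1) v = ν • v) (c : ZMod p) :
    π (up c) v = ν ^ c.val • v := by
  rw [up_val]
  induction c.val with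
  | zero => simp
  | succ i ih => rw [pow_succ', map_mul, Module.End.mul_apply, ih, map_smul, h, smul_smul, pow_succ]

theorem pow_val_mul {ν : Ω} (hν : ν ^ p = 1) (a b : ZMod p) :
    (ν ^ a.val) ^ b.val = ν ^ (a * b).val := by
  rw [← pow_mul, pow_eq_pow_mod _ hν, ← ZMod.val_mul]

theorem isExp_sq {ν : Ω} (hν : ν ^ p = 1) {c : (ZMod p)ˣ} (h : IsExp π ν c) (a : (ZMod p)ˣ) :
    IsExp π ν (c * a ^ 2) := by
  obtain ⟨v, hv0, hv⟩ := h
  refine ⟨π (tor a⁻¹) v, fun e => hv0 ?_, ?_⟩
  · have h1 := congrArg (π (tor a)) e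
    rw [map_zero, ← Module.End.mul_apply, ← map_mul, ← tor_mul, mul_inv_cancel, tor_one, map_one] at h1
    exact h1
  · have e' : up 1 * tor a⁻¹ = tor a⁻¹ * up ((a : ZMod p) ^ 2) := by
      rw [tor_conj_up]
      congr 2
      rw [← mul_pow, ← Units.val_mul, inv_mul_cancel, Units.val_one, one_pow]
    rw [← Module.End.mul_apply, ← map_mul, e', map_mul, Module.End.mul_apply, pow_eigen π hv, map_smul]
    congr 1
    rw [pow_val_mul hν, Units.val_mul, Units.val_pow_eq_pow_val]

theorem card_le {ν : Ω} (hν1 : ν ≠ 1) (hν : ν ^ p = 1) (S : Finset (ZMod p)ˣ)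
    (hS : ∀ c ∈ S, IsExp π ν c) : S.card ≤ finrank Ω W := by
  choose v hv0 hv using fun c : S => hS c.1 c.2
  have hinj : Function.Injective fun c : S => ν ^ ((c : (ZMod p)ˣ) : ZMod p).val := by
    intro a b hab
    have ho : orderOf ν = p := orderOf_eq_prime hν hν1
    have h := pow_injOn_Iio_orderOf (x := ν) (by rw [Set.mem_Iio, ho]; exact ZMod.val_lt _)
      (by rw [Set.mem_Iio, ho]; exact ZMod.val_lt _) hab
    exact Subtype.ext (Units.ext (ZMod.val_injective p h))
  have hli : LinearIndependent Ω v :=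
    Module.End.eigenvectors_linearIndependent' (π (up 1)) _ hinj v
      fun c => ⟨Module.End.mem_eigenspace_iff.2 (hv c), hv0 c⟩
  simpa using hli.fintype_card_le_finrank

/-- The squares of units. -/
noncomputable def unitSquares (p : ℕ) [Fact p.Prime] : Finset (ZMod p)ˣ :=
  Finset.univ.image (fun a => a ^ 2)

theorem two_mul_card_unitSquares (hp7 : 7 ≤ p) : 2 * (unitSquares p).card = p - 1 := by
  have hne : (-1 : (ZMod p)ˣ) ≠ 1 := fun h => by
    have h1 := congrArg (fun u : (ZMod p)ˣ => ((2 : ℕ) : ZMod p) + ((u : ZMod p) - 1)) h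
    simp only [Units.val_neg, Units.val_one, sub_self, add_zero] at h1
    rw [eq_comm] at h1
    have h0 : ((2 : ℕ) : ZMod p) = 0 := h1.trans (by push_cast; ring)
    rw [ZMod.natCast_eq_zero_iff] at h0
    have := Nat.le_of_dvd (by norm_num) h0
    omega
  rw [unitSquares, SL2CharTable.card_image_double _ (fun a => -a)
    (fun a h => hne (mul_right_cancel (b := a) (by rw [neg_one_mul, one_mul]; exact h))) ?_,
    ZMod.card_units]
  intro a b
  constructor
  · intro h
    have h' : ((a : (ZMod p)ˣ) : ZMod p) ^ 2 = ((b : (ZMod p)ˣ) : ZMod p) ^ 2 := by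
      rw [← Units.val_pow_eq_pow_val, ← Units.val_pow_eq_pow_val, h]
    rcases sq_eq_sq_iff_eq_or_eq_neg.1 h' with e | e
    · exact Or.inl (Units.ext e.symm)
    · exact Or.inr (Units.ext (by rw [Units.val_neg, e, neg_neg]))
  · rintro (rfl | rfl)
    · rfl
    · rw [neg_sq]

include hp hp7 h2 hz

/-- A module on which `-1` inverts has dimension at least `(p - 1) / 2`. -/
theorem half_le : (p - 1) / 2 ≤ finrank Ω W := by
  obtain ⟨ν, hν1, hν, v, hv0, hv⟩ := exists_eigenvalue_ne_one π hp hp7 h2 hz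
  have h1 : IsExp π ν 1 := ⟨v, hv0, by rw [Units.val_one, ZMod.val_one, pow_one, hv]⟩
  have := card_le π hν1 hν (unitSquares p) fun c hc => by
    obtain ⟨a, -, rfl⟩ := Finset.mem_image.1 hc
    simpa using isExp_sq π hν h1 a
  have := two_mul_card_unitSquares (p := p) hp7
  omega

/-- If the module is isomorphic to its twist by an outer diagonal automorphism, it has dimension at
least `p - 1`. -/
theorem pred_le_of_twist {e : (ZMod p)ˣ} (he : ¬ IsSquare (e : ZMod p)) (φ : W →ₗ[Ω] W)
    (hφ : Function.Injective φ) (h : ∀ g v, φ (π g v) = π (SL2CharTable.diagAut e g) (φ v)) :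
    p - 1 ≤ finrank Ω W := by
  obtain ⟨ν, hν1, hν, v, hv0, hv⟩ := exists_eigenvalue_ne_one π hp hp7 h2 hz
  have h1 : IsExp π ν 1 := ⟨v, hv0, by rw [Units.val_one, ZMod.val_one, pow_one, hv]⟩
  have hd : SL2CharTable.diagAut e (up ((e⁻¹ : (ZMod p)ˣ) : ZMod p)) = up 1 := by
    apply Subtype.ext
    rw [SL2CharTable.diagAut_apply]
    simp only [coe_up, Matrix.cons_val_zero, Matrix.cons_val_one, Matrix.of_apply, Matrix.cons_val',
      Matrix.empty_val', Matrix.cons_val_fin_one, Units.mul_inv, mul_zero]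
  have h2' : IsExp π ν e⁻¹ := ⟨φ v, fun hh => hv0 (hφ (by rw [hh, map_zero])), by
    rw [← hd, ← h, pow_eigen π hv, map_smul]⟩
  have := card_le π hν1 hν Finset.univ fun c _ => by
    by_cases hc : IsSquare (c : ZMod p)
    · obtain ⟨r, hr⟩ := hc
      have hr0 : r ≠ 0 := fun h0 => c.ne_zero (by rw [hr, h0, mul_zero])
      rw [show c = 1 * Units.mk0 r hr0 ^ 2 from Units.ext (by simp [hr, pow_two])]
      exact isExp_sq π hν h1 _
    · have hs : IsSquare ((c : ZMod p) * (e : ZMod p)) := by
        have hchar : ringChar (ZMod p) ≠ 2 := by rw [ZMod.ringChar_zmod_n]; omega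
        rw [← quadraticChar_one_iff_isSquare (mul_ne_zero c.ne_zero e.ne_zero), map_mul,
          quadraticChar_neg_one_iff_not_isSquare.2 hc, quadraticChar_neg_one_iff_not_isSquare.2 he]
        norm_num
      obtain ⟨r, hr⟩ := hs
      have hr0 : r ≠ 0 := fun h0 => mul_ne_zero c.ne_zero e.ne_zero (by rw [hr, h0, mul_zero])
      rw [show c = e⁻¹ * Units.mk0 r hr0 ^ 2 from Units.ext (by
        simp only [Units.val_mul, Units.val_pow_eq_pow_val, Units.val_mk0, pow_two, ← hr]
        rw [mul_comm (c : ZMod p), ← mul_assoc, ← Units.val_mul, inv_mul_cancel, Units.val_one,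
          one_mul])]
      exact isExp_sq π hν h2' _
  rwa [Finset.card_univ, ZMod.card_units] at this

end Orbit

variable (B : ValuationSubring ℂ)

/-- **The bound in cross characteristic.** -/
theorem finrank_le_five_mul (hp : (p : Ω) ≠ 0) (hp7 : 7 ≤ p) (h2 : (2 : Ω) ≠ 0) (h3 : (3 : Ω) ≠ 0)
    (η : IsLocalRing.ResidueField B →+* Ω) {W : Type*} [AddCommGroup W] [Module Ω W]
    [FiniteDimensional Ω W] (π : Representation Ω SL(2, ZMod p) W) (hW : IsSimple π)
    (hz : π (-1) = -1) {w : SL(2, ZMod p)} (hw : orderOf w = 3) :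
    finrank Ω W ≤ 5 * fx (π w) := by
  classical
  haveI := hW.1
  obtain ⟨D, τ, hτ, S, hS, f, hf, hfe⟩ := exists_simple B η π hW
  haveI := hτ.1
  have hirr : Cfsg.IsIrrCharacter SL(2, ZMod p) (cxRep B τ).character :=
    ⟨D, cxRep B τ, CfsgLib.Characters.isIrreducible_of_forall _ hτ.2, rfl⟩
  -- the centre acts as `-1`
  have hcc : ∀ g : SL(2, ZMod p), (-1) * g = g * -1 := fun g => by apply Subtype.ext; simp
  have hzc : cxRep B τ (-1) = -1 := by
    set c := cxRep B τ (-1) with hc
    have hinv : ∀ g, ∀ x ∈ LinearMap.ker (c - 1), cxRep B τ g x ∈ LinearMap.ker (c - 1) := fun g x hx => by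
      rw [mem_fix] at hx ⊢
      rw [hc, ← Module.End.mul_apply, ← map_mul, hcc, map_mul, Module.End.mul_apply, ← hc, hx]
    rcases hτ.2 _ hinv with h | h
    · refine LinearMap.ext fun x => ?_
      have : c x + x ∈ LinearMap.ker (c - 1) := by
        rw [mem_fix, map_add, hc, ← Module.End.mul_apply, ← map_mul, neg_mul_neg, one_mul, map_one,
          Module.End.one_apply, add_comm]
      rw [h, Submodule.mem_bot] at this
      rw [LinearMap.neg_apply, Module.End.one_apply, eq_neg_iff_add_eq_zero, this]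
    · exfalso
      rw [LinearMap.ker_eq_top, sub_eq_zero, hc] at h
      have hm : τ (-1) = 1 := by
        apply SmallDegreeP.inclMat_injective B
        rw [map_one]
        exact (Matrix.toLinAlgEquiv'.injective (h.trans (map_one _).symm))
      have hone : ∀ s : S, subRep (redRep B η τ) S hS (-1) s = s := fun s => Subtype.ext (by
        show redRep B η τ (-1) s = _
        rw [redRep_apply, hm, Matrix.map_one _ (map_zero _) (map_one _), Matrix.one_mulVec])
      obtain ⟨x, hx⟩ := exists_ne (0 : W)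
      obtain ⟨s, rfl⟩ := hf x
      have h4 := hfe (-1) s
      rw [hone, hz, LinearMap.neg_apply, Module.End.one_apply] at h4
      exact hx ((smul_eq_zero.1 (show (2 : Ω) • f s = 0 by
        rw [two_smul]; nth_rw 1 [h4]; exact neg_add_cancel _)).resolve_left h2)
  have hzr : redRep B η τ (-1) = -1 := by
    have hm : τ (-1) = -1 := by
      apply SmallDegreeP.inclMat_injective B
      rw [map_neg, map_one]
      exact Matrix.toLinAlgEquiv'.injective (hzc.trans (by rw [map_neg, map_one]))
    refine LinearMap.ext fun x => ?_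
    rw [redRep_apply, hm, Matrix.map_neg _ (map_neg _), Matrix.map_one _ (map_zero _) (map_one _),
      Matrix.neg_mulVec, Matrix.one_mulVec, LinearMap.neg_apply, Module.End.one_apply]
  obtain ⟨D', hD', hcase, hre⟩ := char_facts hp7 hirr
    (by rw [Representation.character, hzc, map_neg]; simp [Representation.character]) hw
  have hDD : D' = D := by
    have h1 := hD'
    rw [Representation.char_one, finrank_fin_fun] at h1
    exact_mod_cast h1.symm
  subst D'
  -- the fixed space over `ℂ`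
  have hw3 : w ^ 3 = 1 := hw ▸ pow_orderOf_eq_one w
  have hfix : (3 : ℝ) * fx (cxRep B τ w) = D + 2 * ((cxRep B τ).character w).re := by
    set c := cxRep B τ w with hc
    have hc3 : c ^ 3 = 1 := by rw [hc, ← map_pow, hw3, map_one]
    have h3' : ((3 : ℕ) : ℂ) ≠ 0 := by norm_num
    have hproj : LinearMap.IsProj (LinearMap.ker (c - 1)) (avg c 3) :=
      ⟨fun x => mem_fix.2 (apply_avg hc3 x), fun x hx => avg_apply_of_fixed h3' (mem_fix.1 hx)⟩
    have htr := hproj.trace
    rw [avg, Finset.sum_range_succ, Finset.sum_range_succ, Finset.sum_range_one, map_smul, map_add,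
      map_add, pow_zero, pow_one, LinearMap.trace_one, finrank_fin_fun, smul_eq_mul, hc, ← map_pow,
      show w ^ 2 = w⁻¹ from eq_inv_of_mul_eq_one_left (by rw [← pow_succ, hw3])] at htr
    change ((3 : ℕ) : ℂ)⁻¹ * ((D : ℂ) + (cxRep B τ).character w + (cxRep B τ).character w⁻¹) =
      (fx (cxRep B τ w) : ℂ) at htr
    rw [CfsgLib.Characters.char_inv, inv_mul_eq_iff_eq_mul₀ h3'] at htr
    have := congrArg Complex.re htr
    simp at this
    rw [hc]
    linarith
  have hfr : fx (redRep B η τ w) = fx (cxRep B τ w) :=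
    fx_red B η τ hw3 (by exact_mod_cast h3)
  have hD5 : D ≤ 5 * fx (redRep B η τ w) := by
    rw [hfr]
    exact_mod_cast (by push_cast; linarith : ((D : ℕ) : ℝ) ≤ ((5 * fx (cxRep B τ w) : ℕ) : ℝ))
  have h3m : ((3 : ℕ) : Ω) ≠ 0 := by exact_mod_cast h3
  have hh : 3 ≤ (p - 1) / 2 := by omega
  have hpar : p % 2 = 1 := Nat.odd_iff.1 ((Fact.out : p.Prime).odd_of_ne_two (by omega))
  -- the reduction
  set L := redRep B η τ with hL
  by_cases hK : ∀ K : Submodule Ω (Fin D → Ω), (∀ g, ∀ v ∈ K, L g v ∈ K) → K = ⊥ ∨ K = ⊤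
  · -- the reduction is simple
    have hStop : S = ⊤ := (hK S hS).resolve_left fun h => by
      obtain ⟨x, hx⟩ := exists_ne (0 : W)
      obtain ⟨⟨s, hs⟩, rfl⟩ := hf x
      rw [h, Submodule.mem_bot] at hs
      exact hx (by rw [show (⟨s, _⟩ : S) = 0 from Subtype.ext hs, map_zero])
    subst hStop
    let φ : (Fin D → Ω) →ₗ[Ω] W := f ∘ₗ Submodule.topEquiv.symm.toLinearMap
    have hφe : ∀ g x, φ (L g x) = π g (φ x) := fun g x => hfe g ⟨x, trivial⟩
    have hφs : Function.Surjective φ := hf.comp (LinearEquiv.surjective _)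
    have hker : LinearMap.ker φ = ⊥ := by
      refine (hK _ fun g v hv => ?_).resolve_right fun h => ?_
      · rw [LinearMap.mem_ker, hφe, LinearMap.mem_ker.1 hv, map_zero]
      · obtain ⟨x, hx⟩ := exists_ne (0 : W)
        obtain ⟨s, rfl⟩ := hφs x
        exact hx (LinearMap.congr_fun (LinearMap.ker_eq_top.1 h) s)
    let e := LinearEquiv.ofBijective φ ⟨LinearMap.ker_eq_bot.1 hker, hφs⟩
    have h1 := fx_conj e (L w) (π w) fun v => hφe w v
    have h2' : finrank Ω W = D := by rw [← e.finrank_eq, finrank_fin_fun]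
    omega
  push Not at hK
  obtain ⟨K, hKi, hKbot, hKtop⟩ := hK
  haveI : Nontrivial K := Submodule.nontrivial_iff_ne_bot.2 hKbot
  haveI : Nontrivial ((Fin D → Ω) ⧸ K) := Submodule.Quotient.nontrivial_iff.2 hKtop
  have hsubz : ∀ (T : Submodule Ω (Fin D → Ω)) (hT : ∀ g, ∀ v ∈ T, L g v ∈ T),
      subRep L T hT (-1) = -1 ∧ quotRep L T hT (-1) = -1 := fun T hT =>
    ⟨subRep_neg_one L hT hzr, quotRep_neg_one L hT hzr⟩
  have hKd := half_le (subRep L K hKi) hp hp7 h2 (hsubz K hKi).1
  have hQd := half_le (quotRep L K hKi) hp hp7 h2 (hsubz K hKi).2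
  have hsum := K.finrank_quotient_add_finrank
  rw [finrank_fin_fun] at hsum
  obtain ⟨hDp, hδ⟩ := hcase.resolve_left (by omega)
  -- both factors are simple
  have hsimK : IsSimple (subRep L K hKi) := ⟨inferInstance, fun T hT => by
    by_contra hne
    push Not at hne
    haveI : Nontrivial T := Submodule.nontrivial_iff_ne_bot.2 hne.1
    haveI : Nontrivial (K ⧸ T) := Submodule.Quotient.nontrivial_iff.2 hne.2
    have a1 := half_le (W := T) (subRep _ T hT) hp hp7 h2 (subRep_neg_one _ hT (hsubz K hKi).1)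
    have a2 := half_le (W := K ⧸ T) (quotRep _ T hT) hp hp7 h2 (quotRep_neg_one _ hT (hsubz K hKi).1)
    have a3 := T.finrank_quotient_add_finrank
    omega⟩
  have hsimQ : IsSimple (quotRep L K hKi) := ⟨inferInstance, fun T hT => by
    by_contra hne
    push Not at hne
    haveI : Nontrivial T := Submodule.nontrivial_iff_ne_bot.2 hne.1
    haveI : Nontrivial (((Fin D → Ω) ⧸ K) ⧸ T) := Submodule.Quotient.nontrivial_iff.2 hne.2
    have a1 := half_le (W := T) (subRep _ T hT) hp hp7 h2
      (subRep_neg_one _ hT (hsubz K hKi).2)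
    have a2 := half_le (W := ((Fin D → Ω) ⧸ K) ⧸ T) (quotRep _ T hT) hp hp7 h2
      (quotRep_neg_one _ hT (hsubz K hKi).2)
    have a3 := T.finrank_quotient_add_finrank
    omega⟩
  -- the twisting map
  obtain ⟨e, he⟩ : ∃ e : (ZMod p)ˣ, ¬ IsSquare (e : ZMod p) := by
    obtain ⟨ε, hε⟩ := FiniteField.exists_nonsquare (F := ZMod p) (by rw [ZMod.ringChar_zmod_n]; omega)
    exact ⟨Units.mk0 ε fun h => hε (h ▸ IsSquare.zero), hε⟩
  set δ := SL2CharTable.diagAut (F := ZMod p) e with hδdef
  obtain ⟨E⟩ := CfsgLib.Characters.equiv_of_char_eq (cxRep B τ) ((cxRep B τ).comp δ)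
    (funext fun g => (hδ e g).symm)
  obtain ⟨c, Y, hc0, hYc, hY0⟩ := SmallDegreeP.exists_scale B
    (A := LinearMap.toMatrix' E.toLinearEquiv.toLinearMap) fun h => by
      have h1 := (LinearEquiv.map_eq_zero_iff LinearMap.toMatrix').1 h
      obtain ⟨x, hx⟩ := exists_ne (0 : Fin D → ℂ)
      exact hx (E.toLinearEquiv.injective (by rw [map_zero]; exact LinearMap.congr_fun h1 x))
  have hY : ∀ g, Y * τ g = τ (δ g) * Y := fun g => by
    apply SmallDegreeP.inclMat_injective B
    rw [map_mul, map_mul, hYc, smul_mul_assoc, mul_smul_comm]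
    congr 1
    apply Matrix.toLin'.injective
    rw [Matrix.toLin'_mul, Matrix.toLin'_mul, Matrix.toLin'_toMatrix']
    refine LinearMap.ext fun x => ?_
    exact CfsgLib.Characters.equiv_map E g x
  let Φ : (Fin D → Ω) →ₗ[Ω] (Fin D → Ω) := Matrix.toLin' (Y.map (red B η))
  have hΦ : ∀ g x, Φ (L g x) = L (δ g) (Φ x) := fun g x => by
    simp only [Φ, hL, redRep_apply, Matrix.toLin'_apply, Matrix.mulVec_mulVec, ← Matrix.map_mul, hY]
  have hΦ0 : Φ ≠ 0 := fun h => hY0 (by
    have h1 : Y.map (red B η) = 0 := Matrix.toLin'.injective (h.trans (map_zero _).symm)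
    ext i j
    have h5 := congrFun (congrFun h1 i) j
    simp only [Matrix.map_apply, Matrix.zero_apply, red, RingHom.comp_apply] at h5
    exact η.injective (h5.trans (map_zero η).symm))
  -- no factor is its own twist
  have hno : ∀ {V : Type _} [AddCommGroup V] [Module Ω V] [FiniteDimensional Ω V]
      (ψ : Representation Ω SL(2, ZMod p) V), IsSimple ψ → ψ (-1) = -1 → finrank Ω V + (p - 1) / 2 ≤ D →
      ∀ φ : V →ₗ[Ω] V, (∀ g v, φ (ψ g v) = ψ (δ g) (φ v)) → φ = 0 := by
    intro V _ _ _ ψ hψ hψz hd φ hφ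
    haveI := hψ.1
    by_contra hne
    have hinj : LinearMap.ker φ = ⊥ := (hψ.2 _ fun g v hv => by
      rw [LinearMap.mem_ker, hφ, LinearMap.mem_ker.1 hv, map_zero]).resolve_right
      fun h => hne (LinearMap.ker_eq_top.1 h)
    have := pred_le_of_twist ψ hp hp7 h2 hψz he φ (LinearMap.ker_eq_bot.1 hinj) hφ
    omega
  have hδsurj : Function.Surjective δ := (SL2CharTable.diagAut_bijective e).2
  -- a twisted isomorphism between the two factors
  have hiso : finrank Ω K = finrank Ω ((Fin D → Ω) ⧸ K) ∧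
      fx (subRep L K hKi w) = fx (quotRep L K hKi w) := by
    have hδw : IsConj w (δ w) := isConj_of_orderOf_three
      (fun h => by
        have h' : ((3 : ℕ) : ZMod p) = 0 := by exact_mod_cast h
        rw [ZMod.natCast_eq_zero_iff] at h'
        have := Nat.le_of_dvd (by norm_num) h'
        omega) hw (by rw [orderOf_injective δ (SL2CharTable.diagAut_bijective e).1, hw])
    have hconj : ∀ {V : Type _} [AddCommGroup V] [Module Ω V] (ψ : Representation Ω SL(2, ZMod p) V),
        fx (ψ (δ w)) = fx (ψ w) := by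
      intro V _ _ ψ
      obtain ⟨k, hk⟩ := isConj_iff.1 hδw
      refine (fx_conj (LinearEquiv.ofLinearMap (ψ k) (ψ k⁻¹) ?_ ?_) (ψ w) (ψ (δ w)) fun v => ?_).symm
      · rw [← Module.End.mul_eq_comp, ← map_mul, mul_inv_cancel, map_one]; rfl
      · rw [← Module.End.mul_eq_comp, ← map_mul, inv_mul_cancel, map_one]; rfl
      · show ψ k (ψ w v) = ψ (δ w) (ψ k v)
        rw [← Module.End.mul_apply, ← map_mul, ← Module.End.mul_apply, ← map_mul, ← hk, inv_mul_cancel_right]
    by_cases hΦK : ∀ x ∈ K, Φ x = 0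
    · -- `Φ` factors through the quotient
      let Φ' : ((Fin D → Ω) ⧸ K) →ₗ[Ω] (Fin D → Ω) := K.liftQ Φ hΦK
      have hΦ'e : ∀ g q, Φ' (quotRep L K hKi g q) = L (δ g) (Φ' q) := fun g q => by
        obtain ⟨x, rfl⟩ := K.mkQ_surjective q
        show Φ (L g x) = L (δ g) (Φ x)
        exact hΦ g x
      have hQ0 : K.mkQ ∘ₗ Φ' = 0 := hno (quotRep L K hKi) hsimQ (hsubz K hKi).2 (by omega) _
        fun g q => by
          show K.mkQ (Φ' (quotRep L K hKi g q)) = quotRep L K hKi (δ g) (K.mkQ (Φ' q))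
          rw [hΦ'e]; rfl
      have hmem : ∀ q, Φ' q ∈ K := fun q =>
        (Submodule.Quotient.mk_eq_zero K).1 (LinearMap.congr_fun hQ0 q)
      let ψ : ((Fin D → Ω) ⧸ K) →ₗ[Ω] K := Φ'.codRestrict K hmem
      have hψe : ∀ g q, ψ (quotRep L K hKi g q) = subRep L K hKi (δ g) (ψ q) := fun g q =>
        Subtype.ext (hΦ'e g q)
      have hψ0 : ψ ≠ 0 := fun h => hΦ0 (LinearMap.ext fun x => by
        exact congrArg Subtype.val (LinearMap.congr_fun h (K.mkQ x)))
      have hinj : LinearMap.ker ψ = ⊥ := (hsimQ.2 _ fun g v hv => by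
        rw [LinearMap.mem_ker, hψe, LinearMap.mem_ker.1 hv, map_zero]).resolve_right
        fun h => hψ0 (LinearMap.ker_eq_top.1 h)
      have hsur : LinearMap.range ψ = ⊤ := (hsimK.2 _ fun g v hv => by
        obtain ⟨g, rfl⟩ := hδsurj g
        obtain ⟨q, rfl⟩ := hv
        exact ⟨_, hψe g q⟩).resolve_left fun h => hψ0 (LinearMap.range_eq_bot.1 h)
      let eqv := LinearEquiv.ofBijective ψ ⟨LinearMap.ker_eq_bot.1 hinj, LinearMap.range_eq_top.1 hsur⟩
      exact ⟨eqv.finrank_eq.symm, ((fx_conj eqv _ _ fun q => hψe w q).trans (hconj _)).symm⟩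
    · -- `Φ` moves `K` into the quotient
      let ψ : K →ₗ[Ω] ((Fin D → Ω) ⧸ K) := K.mkQ ∘ₗ Φ ∘ₗ K.subtype
      have hψe : ∀ g x, ψ (subRep L K hKi g x) = quotRep L K hKi (δ g) (ψ x) := fun g x => by
        simp [ψ, subRep_apply, quotRep_apply, hΦ]
      have hψ0 : ψ ≠ 0 := fun h => hΦK fun x hx => by
        have hmem : ∀ y : K, Φ y ∈ K := fun y =>
          (Submodule.Quotient.mk_eq_zero K).1 (LinearMap.congr_fun h y)
        have h0 : (Φ ∘ₗ K.subtype).codRestrict K hmem = 0 :=
          hno (subRep L K hKi) hsimK (hsubz K hKi).1 (by omega) _ fun g v => Subtype.ext (hΦ g v)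
        exact congrArg Subtype.val (LinearMap.congr_fun h0 ⟨x, hx⟩)
      have hinj : LinearMap.ker ψ = ⊥ := (hsimK.2 _ fun g v hv => by
        rw [LinearMap.mem_ker, hψe, LinearMap.mem_ker.1 hv, map_zero]).resolve_right
        fun h => hψ0 (LinearMap.ker_eq_top.1 h)
      have hsur : LinearMap.range ψ = ⊤ := (hsimQ.2 _ fun g v hv => by
        obtain ⟨g, rfl⟩ := hδsurj g
        obtain ⟨q, rfl⟩ := hv
        exact ⟨_, hψe g q⟩).resolve_left fun h => hψ0 (LinearMap.range_eq_bot.1 h)
      let eqv := LinearEquiv.ofBijective ψ ⟨LinearMap.ker_eq_bot.1 hinj, LinearMap.range_eq_top.1 hsur⟩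
      exact ⟨eqv.finrank_eq, (fx_conj eqv _ _ fun q => hψe w q).trans (hconj _)⟩
  have hadd : fx (L w) = fx (subRep L K hKi w) + fx (quotRep L K hKi w) :=
    fx_add (m := 3) (by rw [← map_pow, hw3, map_one]) h3m (hKi w)
  -- `W` is one of the two factors
  have hW' : (finrank Ω W = finrank Ω K ∧ fx (π w) = fx (subRep L K hKi w)) ∨
      (finrank Ω W = finrank Ω ((Fin D → Ω) ⧸ K) ∧ fx (π w) = fx (quotRep L K hKi w)) := by
    by_cases hfK : ∀ x : S, (x : Fin D → Ω) ∈ K → f x = 0
    · right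
      let ι : S →ₗ[Ω] ((Fin D → Ω) ⧸ K) := K.mkQ ∘ₗ S.subtype
      have hker : LinearMap.ker ι ≤ LinearMap.ker f := fun x hx =>
        hfK x ((Submodule.Quotient.mk_eq_zero K).1 hx)
      have hιe : ∀ g x, ι (subRep L S hS g x) = quotRep L K hKi g (ι x) := fun g x => by
        simp [ι, subRep_apply, quotRep_apply]
      have hsur : LinearMap.range ι = ⊤ := (hsimQ.2 _ fun g v hv => by
        obtain ⟨x, rfl⟩ := hv
        exact ⟨_, hιe g x⟩).resolve_left fun h => by
          obtain ⟨x, hx⟩ := exists_ne (0 : W)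
          obtain ⟨s, rfl⟩ := hf x
          exact hx (hker (LinearMap.congr_fun (LinearMap.range_eq_bot.1 h) s))
      let h' : ((Fin D → Ω) ⧸ K) →ₗ[Ω] W := (LinearMap.ker ι).liftQ f hker ∘ₗ
        (LinearMap.quotKerEquivOfSurjective ι (LinearMap.range_eq_top.1 hsur)).symm.toLinearMap
      have hh' : ∀ x, h' (ι x) = f x := fun x => by
        show (LinearMap.ker ι).liftQ f hker
          ((LinearMap.quotKerEquivOfSurjective ι (LinearMap.range_eq_top.1 hsur)).symm (ι x)) = _
        rw [show (LinearMap.quotKerEquivOfSurjective ι (LinearMap.range_eq_top.1 hsur)).symm (ι x) =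
          Submodule.Quotient.mk x from (LinearEquiv.symm_apply_eq _).2 rfl, Submodule.liftQ_apply]
      have hhe : ∀ g q, h' (quotRep L K hKi g q) = π g (h' q) := fun g q => by
        obtain ⟨x, rfl⟩ := LinearMap.range_eq_top.1 hsur q
        rw [← hιe, hh', hh', hfe]
      have hhs : Function.Surjective h' := fun x => by
        obtain ⟨s, rfl⟩ := hf x
        exact ⟨ι s, hh' s⟩
      have hhk : LinearMap.ker h' = ⊥ := (hsimQ.2 _ fun g v hv => by
        rw [LinearMap.mem_ker, hhe, LinearMap.mem_ker.1 hv, map_zero]).resolve_right fun h => by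
          obtain ⟨x, hx⟩ := exists_ne (0 : W)
          obtain ⟨q, rfl⟩ := hhs x
          exact hx (LinearMap.congr_fun (LinearMap.ker_eq_top.1 h) q)
      let eqv := LinearEquiv.ofBijective h' ⟨LinearMap.ker_eq_bot.1 hhk, hhs⟩
      exact ⟨eqv.finrank_eq.symm, (fx_conj eqv _ _ fun q => hhe w q).symm⟩
    · left
      have hKS : K ≤ S := by
        have hinv : ∀ g, ∀ v ∈ (S.comap K.subtype), subRep L K hKi g v ∈ S.comap K.subtype :=
          fun g v hv => hS g _ hv
        rcases hsimK.2 _ hinv with h | h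
        · exfalso
          refine hfK fun x hx => ?_
          have : (⟨(x : Fin D → Ω), hx⟩ : K) ∈ (⊥ : Submodule Ω K) := by rw [← h]; exact x.2
          rw [Submodule.mem_bot] at this
          have h0 : ((x : S) : Fin D → Ω) = 0 := congrArg (fun y : K => (y : Fin D → Ω)) this
          rw [show x = 0 from Subtype.ext h0, map_zero]
        · exact fun x hx => (show (⟨x, hx⟩ : K) ∈ S.comap K.subtype from h.symm ▸ trivial)
      let h' : K →ₗ[Ω] W := f ∘ₗ Submodule.inclusion hKS
      have hhe : ∀ g x, h' (subRep L K hKi g x) = π g (h' x) := fun g x => hfe g (Submodule.inclusion hKS x)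
      have hh0 : h' ≠ 0 := fun h => hfK fun x hx => LinearMap.congr_fun h ⟨x, hx⟩
      have hhk : LinearMap.ker h' = ⊥ := (hsimK.2 _ fun g v hv => by
        rw [LinearMap.mem_ker, hhe, LinearMap.mem_ker.1 hv, map_zero]).resolve_right
        fun h => hh0 (LinearMap.ker_eq_top.1 h)
      have hhs : LinearMap.range h' = ⊤ := (hW.2 _ fun g v hv => by
        obtain ⟨q, rfl⟩ := hv
        exact ⟨_, hhe g q⟩).resolve_left fun h => hh0 (LinearMap.range_eq_bot.1 h)
      let eqv := LinearEquiv.ofBijective h' ⟨LinearMap.ker_eq_bot.1 hhk, LinearMap.range_eq_top.1 hhs⟩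
      exact ⟨eqv.finrank_eq.symm, (fx_conj eqv _ _ fun q => hhe w q).symm⟩
  omega

end CfsgLib.FixSixth
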