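import Cfsg.Agent.FixSixth.Fix
import Mathlib

/-!
# Simple representations factor through the quotient by a normal subgroup of characteristic order
-/

set_option autoImplicit false
set_option linter.unusedSectionVars false

namespace CfsgLib.FixSixth

/-- A finite `ℓ`-group fixes a nonzero vector in characteristic `ℓ`. -/
theorem exists_fixed_of_isPGroup {ℓ : ℕ} [Fact ℓ.Prime] {k : Type*} [Field k] [CharP k ℓ] {P : Type*}
    [Group P] [Finite P] (hP : IsPGroup ℓ P) {V : Type*} [AddCommGroup V] [Module k V] [Nontrivial V]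
    (ρ : Representation k P V) : ∃ v : V, v ≠ 0 ∧ ∀ x, ρ x v = v := by
  classical
  haveI := Fintype.ofFinite P
  obtain ⟨v, hv⟩ := exists_ne (0 : V)
  letI : Algebra (ZMod ℓ) k := ZMod.algebra k ℓ
  let F : (P → ZMod ℓ) →+ V :=
    { toFun := fun d => ∑ x, algebraMap (ZMod ℓ) k (d x) • ρ x v
      map_zero' := by simp
      map_add' := fun a b => by simp [add_smul, Finset.sum_add_distrib] }
  haveI : Finite F.range := (Set.finite_range F).to_subtype
  have hinv : ∀ (y : P) (z : F.range), ρ y (z : V) ∈ F.range := by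
    rintro y ⟨_, d, rfl⟩
    refine ⟨fun x => d (y⁻¹ * x), ?_⟩
    show ∑ x, algebraMap (ZMod ℓ) k (d (y⁻¹ * x)) • ρ x v = ρ y (∑ x, algebraMap (ZMod ℓ) k (d x) • ρ x v)
    rw [map_sum]
    refine (Fintype.sum_equiv (Equiv.mulLeft y) _ _ fun x => ?_).symm
    simp [map_mul]
  letI : MulAction P F.range :=
    { smul := fun y z => ⟨ρ y z, hinv y z⟩
      one_smul := fun z => Subtype.ext (show ρ 1 (z : V) = z by simp)
      mul_smul := fun a b z => Subtype.ext (show ρ (a * b) (z : V) = ρ a (ρ b z) by simp [map_mul]) }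
  have hvmem : v ∈ F.range := ⟨Pi.single 1 1, by
    show ∑ x, algebraMap (ZMod ℓ) k ((Pi.single 1 1 : P → ZMod ℓ) x) • ρ x v = v
    rw [Finset.sum_eq_single (1 : P)]
    · simp
    · intro x _ hx; simp [hx]
    · simp⟩
  have hdvd : ℓ ∣ Nat.card F.range := by
    have h1 := AddSubgroup.card_range_dvd F
    rw [Nat.card_pi, Finset.prod_const, Nat.card_zmod] at h1
    obtain ⟨j, -, hj⟩ := (Nat.dvd_prime_pow (Fact.out : ℓ.Prime)).1 h1
    rcases Nat.eq_zero_or_pos j with rfl | hjpos
    · exfalso
      rw [pow_zero, Nat.card_eq_one_iff_unique] at hj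
      haveI := hj.1
      exact hv (congrArg Subtype.val (Subsingleton.elim (⟨v, hvmem⟩ : F.range) 0))
    · exact hj ▸ dvd_pow_self ℓ hjpos.ne'
  obtain ⟨b, hb, hne⟩ := hP.exists_fixed_point_of_prime_dvd_card_of_fixed_point (α := F.range) hdvd
    (a := 0) (fun y => Subtype.ext (show ρ y ((0 : F.range) : V) = 0 by simp))
  exact ⟨b, fun e => hne (Subtype.ext e.symm), fun y => congrArg Subtype.val (hb y)⟩

/-- A simple representation is trivial on a normal subgroup all of whose element orders have only
prime divisors equal to the characteristic. -/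
theorem exists_factor {X H : Type*} [Group X] [Finite X] [Group H] (π : X →* H)
    (hπ : Function.Surjective π) {k : Type*} [Field k] {W : Type*} [AddCommGroup W] [Module k W]
    (σ : Representation k X W) (hσ : IsSimple σ)
    (hker : ∀ x : X, π x = 1 → ∀ r : ℕ, r.Prime → r ∣ orderOf x → (r : k) = 0) :
    ∃ σ' : Representation k H W, ∀ x, σ x = σ' (π x) := by
  haveI := hσ.1
  have htriv : ∀ x, π x = 1 → σ x = 1 := by
    obtain ⟨v, hv, hfix⟩ : ∃ v : W, v ≠ 0 ∧ ∀ n : π.ker, σ n v = v := by
      by_cases hN : π.ker = ⊥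
      · obtain ⟨v, hv⟩ := exists_ne (0 : W)
        refine ⟨v, hv, fun n => ?_⟩
        have := n.2
        rw [show (n : X) = 1 from Subgroup.mem_bot.1 ((SetLike.ext_iff.1 hN _).1 this), map_one,
          Module.End.one_apply]
      · obtain ⟨x, hx, hx1⟩ := (Subgroup.ne_bot_iff_exists_ne_one.1 hN |> fun ⟨a, ha⟩ =>
          (⟨(a : X), a.2, fun e => ha (Subtype.ext e)⟩ : ∃ x, x ∈ π.ker ∧ x ≠ 1))
        obtain ⟨ℓ, hℓ, hℓd⟩ := Nat.exists_prime_and_dvd (mt orderOf_eq_one_iff.1 hx1)
        haveI : Fact ℓ.Prime := ⟨hℓ⟩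
        haveI : CharP k ℓ := (CharP.charP_iff_prime_eq_zero hℓ).2 (hker x hx ℓ hℓ hℓd)
        have hP : IsPGroup ℓ π.ker := fun n => by
          refine ⟨(orderOf n).factorization ℓ, ?_⟩
          rw [← orderOf_dvd_iff_pow_eq_one]
          refine (Nat.eq_prime_pow_of_unique_prime_dvd (orderOf_pos n).ne' fun {r} hr hrd => ?_).dvd.trans
            (pow_dvd_pow ℓ ?_)
          · have h0 := hker n n.2 r hr (by rwa [Subgroup.orderOf_coe])
            rw [CharP.cast_eq_zero_iff k ℓ] at h0
            exact ((Nat.prime_dvd_prime_iff_eq hℓ hr).1 h0).symm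
          · rw [Nat.primeFactorsList_count_eq.symm]
            rw [List.count_eq_length.2]
            intro r hr
            have hr' := Nat.prime_of_mem_primeFactorsList hr
            have h0 := hker n n.2 r hr' (by
              rw [Subgroup.orderOf_coe]; exact Nat.dvd_of_mem_primeFactorsList hr)
            rw [CharP.cast_eq_zero_iff k ℓ] at h0
            exact (Nat.prime_dvd_prime_iff_eq hℓ hr').1 h0
        exact exists_fixed_of_isPGroup hP (σ.comp π.ker.subtype)
    let S : Submodule k W :=
      { carrier := {w | ∀ n : π.ker, σ n w = w}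
        add_mem' := fun {a b} ha hb n => by rw [map_add, ha n, hb n]
        zero_mem' := fun n => map_zero _
        smul_mem' := fun c a ha n => by rw [map_smul, ha n] }
    have hS : S = ⊤ := (hσ.2 S fun g w hw n => by
      have hn : g⁻¹ * (n : X) * g ∈ π.ker := by
        have := (MonoidHom.normal_ker π).conj_mem _ n.2 g⁻¹
        rwa [inv_inv] at this
      rw [← Module.End.mul_apply, ← map_mul,
        show (n : X) * g = g * (g⁻¹ * (n : X) * g) by group, map_mul, Module.End.mul_apply, hw ⟨_, hn⟩]).resolve_left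
      fun h => hv ((Submodule.mem_bot k).1 (h ▸ (show v ∈ S from hfix)))
    intro x hx
    exact LinearMap.ext fun w => (show w ∈ S from hS ▸ Submodule.mem_top) ⟨x, hx⟩
  have hwell : ∀ a b, π a = π b → σ a = σ b := fun a b hab => by
    have h1 := htriv (b⁻¹ * a) (by rw [map_mul, map_inv, hab, inv_mul_cancel])
    rw [show a = b * (b⁻¹ * a) by group, map_mul, h1, mul_one]
  refine ⟨{ toFun := fun h => σ (Function.surjInv hπ h), map_one' := ?_, map_mul' := fun a b => ?_ },
    fun x => hwell _ _ (Function.surjInv_eq hπ _).symm⟩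
  · rw [← map_one σ]; exact hwell _ _ (by rw [Function.surjInv_eq hπ, map_one])
  · rw [← map_mul]
    exact hwell _ _ (by rw [map_mul, Function.surjInv_eq hπ, Function.surjInv_eq hπ, Function.surjInv_eq hπ])

end CfsgLib.FixSixth
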