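import Cfsg.Agent.FixSixth.CrossChar
import Cfsg.Agent.FixSixth.Factor

/-!
# Large fixed spaces in cross characteristic

`X` maps onto `SL₂(p)` with a kernel whose orders involve only the characteristic, different from `p`.
On a simple module the lift `z` of `-1` is `1` or `-1`; so `dim ≤ 5 fx(w) + fx(z)` by induction.
-/

set_option autoImplicit false
set_option linter.unusedSectionVars false
set_option linter.style.haveILetI false

namespace CfsgLib.FixSixth

open Module Matrix
open scoped MatrixGroups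

universe v

variable {p : ℕ} [Fact p.Prime] {Ω : Type*} [Field Ω] [IsAlgClosed Ω]

/-- A central involution acts as a scalar on a simple module. -/
theorem eq_one_or_neg_one_of_central {G : Type*} [Monoid G] {W : Type*} [AddCommGroup W] [Module Ω W]
    {σ : Representation Ω G W} (hσ : IsSimple σ) {c : G} (hc : ∀ g, c * g = g * c) (hc2 : c * c = 1) :
    σ c = 1 ∨ σ c = -1 := by
  rcases hσ.2 (LinearMap.ker (σ c - 1)) (fun g v hv => by
    rw [mem_fix] at hv ⊢
    rw [← Module.End.mul_apply, ← map_mul, hc, map_mul, Module.End.mul_apply, hv]) with h | h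
  · refine Or.inr (LinearMap.ext fun v => ?_)
    have h1 : σ c v + v ∈ LinearMap.ker (σ c - 1) := by
      rw [mem_fix, map_add, ← Module.End.mul_apply, ← map_mul, hc2, map_one, Module.End.one_apply,
        add_comm]
    rw [h, Submodule.mem_bot, add_eq_zero_iff_eq_neg] at h1
    simp [h1]
  · refine Or.inl (LinearMap.ext fun v => ?_)
    have h1 : v ∈ LinearMap.ker (σ c - 1) := h ▸ Submodule.mem_top
    rwa [mem_fix] at h1

variable {X : Type*} [Group X] [Finite X] (π : X →* SL(2, ZMod p)) (hπ : Function.Surjective π)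
  (hker : ∀ x : X, π x = 1 → ∀ r : ℕ, r.Prime → r ∣ orderOf x → (r : Ω) = 0) (hp : (p : Ω) ≠ 0)
  (hp7 : 7 ≤ p) (h2 : (2 : Ω) ≠ 0) (h3 : (3 : Ω) ≠ 0) (B : ValuationSubring ℂ)
  (η : IsLocalRing.ResidueField B →+* Ω) {w z : X} (hw : π w = w3) (hw3 : w ^ 3 = 1) (hz : π z = -1)
  (hz2 : z ^ 2 = 1)

include hπ hker hp hp7 h2 h3 B η hw hw3 hz hz2

/-- The additive inequality. -/
theorem cross_ineq {V : Type v} [AddCommGroup V] [Module Ω V] [FiniteDimensional Ω V]
    (σ : Representation Ω X V) : finrank Ω V ≤ 5 * fx (σ w) + fx (σ z) := by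
  refine induct (P := fun W _ _ _ (τ : Representation Ω X W) =>
    finrank Ω W ≤ 5 * fx (τ w) + fx (τ z)) ?_ ?_ ?_ σ
  · intro W _ _ _ _ τ
    rw [Module.finrank_zero_of_subsingleton]
    exact Nat.zero_le _
  · intro W _ _ _ τ hτ
    obtain ⟨τ', hτ'⟩ := exists_factor π hπ τ hτ hker
    have hsim : IsSimple τ' := ⟨hτ.1, fun S hS => hτ.2 S fun g x hx => by rw [hτ']; exact hS _ x hx⟩
    haveI := hτ.1
    rw [hτ' w, hτ' z, hw, hz]
    rcases eq_one_or_neg_one_of_central hsim (c := (-1 : SL(2, ZMod p))) (fun g => by simp) (by simp)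
      with h | h
    · rw [h, fx_one]
      exact Nat.le_add_left _ _
    · exact le_add_right (finrank_le_five_mul B hp hp7 h2 h3 η τ' hsim h orderOf_w3)
  · intro W _ _ _ τ S hS hs hq
    have ha : fx (τ w) = fx (subRep τ S hS w) + fx (quotRep τ S hS w) :=
      fx_add (m := 3) (by rw [← map_pow, hw3, map_one]) (by exact_mod_cast h3) (hS w)
    have hb : fx (τ z) = fx (subRep τ S hS z) + fx (quotRep τ S hS z) :=
      fx_add (m := 2) (by rw [← map_pow, hz2, map_one]) (by exact_mod_cast h2) (hS z)
    have := S.finrank_quotient_add_finrank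
    omega

/-- **The bound in cross characteristic.** -/
theorem exists_large_cross {V : Type v} [AddCommGroup V] [Module Ω V] [FiniteDimensional Ω V]
    (σ : Representation Ω X V) : ∃ h : X, h ≠ 1 ∧ finrank Ω V ≤ 6 * fx (σ h) := by
  by_contra hcon
  push Not at hcon
  have hw1 : w ≠ 1 := fun h => w3_ne_one (F := ZMod p) (by rw [← hw, h, map_one])
  have hz1 : z ≠ 1 := fun h => by
    have e : (-1 : SL(2, ZMod p)) = 1 := by rw [← hz, h, map_one]
    have h' := congrArg (fun g : SL(2, ZMod p) => g 0 0) e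
    simp at h'
    have h4 : ((2 : ℕ) : ZMod p) = 0 := by push_cast; linear_combination -h'
    rw [ZMod.natCast_eq_zero_iff] at h4
    have := Nat.le_of_dvd (by norm_num) h4
    omega
  have ha := hcon w hw1
  have hb := hcon z hz1
  have := cross_ineq π hπ hker hp hp7 h2 h3 B η hw hw3 hz hz2 σ
  omega

end CfsgLib.FixSixth
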