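import Cfsg.Agent.FixSixth.Counting
import Cfsg.Agent.FixSixth.Factor

/-!
# Large fixed spaces in the defining characteristic

`X` maps onto `SL₂(p)` with a kernel of `p`-elements.  In characteristic `p` either the lift `w` of an
element of order three or a power of the lift `u` of a unipotent element normalized by the lift `t` of
the torus has a fixed space of at least a sixth of the module.
-/

set_option autoImplicit false
set_option linter.unusedSectionVars false
set_option linter.style.haveILetI false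

namespace CfsgLib.FixSixth

open Module Matrix
open scoped MatrixGroups

universe v

variable {p : ℕ} [Fact p.Prime] {k : Type*} [Field k] [CharP k p]

theorem wR_congr_le {V : Type*} [AddCommGroup V] [Module k V] [FiniteDimensional k V] (g : kˣ) (m : ℕ)
    (f U : Module.End k V) (a : ℤ) (j : ℕ) : wR g m f U a j ≤ wd g f a :=
  Submodule.finrank_map_le _ _

variable {X : Type*} [Group X] [Finite X]

/-- The lifts of a torus element and a unipotent element give weight two data. -/
theorem isWeightTwo_lift {V : Type*} [AddCommGroup V] [Module k V] (σ : Representation k X V)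
    {γ : (ZMod p)ˣ} {t u : X} {e N : ℕ} (ht : t ^ (p - 1) = 1) (hu : u ^ p ^ N = 1)
    (htu : t * u = u ^ e * t) (he : (e : ZMod p) = (γ : ZMod p) ^ 2) :
    IsWeightTwo (embU p k γ) (p - 1) (σ t) (σ u) := by
  have hp1 : ((p - 1 : ℕ) : k) = -1 := by
    rw [Nat.cast_sub (Fact.out : p.Prime).one_le, CharP.cast_eq_zero, Nat.cast_one, zero_sub]
  refine ⟨embU_pow γ, by rw [hp1]; exact neg_ne_zero.2 one_ne_zero, by rw [← map_pow, ht, map_one],
    ⟨p ^ N, ?_⟩, e, ?_, by rw [← map_mul, htu, map_mul, map_pow]⟩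
  · rcases subsingleton_or_nontrivial V with hV | hV
    · exact LinearMap.ext fun x => Subsingleton.elim _ _
    haveI : CharP (Module.End k V) p := charP_of_injective_algebraMap' k p
    rw [sub_pow_char_pow_of_commute p N (Commute.one_right _), one_pow, ← map_pow, hu, map_one, sub_self]
  · rw [← emb_natCast (p := p), he, map_pow]; rfl

variable [IsAlgClosed k] (π : X →* SL(2, ZMod p)) (hπ : Function.Surjective π)
  (hker : ∀ x : X, π x = 1 → ∀ r : ℕ, r.Prime → r ∣ orderOf x → (r : k) = 0)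
  {γ : (ZMod p)ˣ} (hγ : ∀ a, a ∈ Subgroup.zpowers γ) (hp7 : 7 ≤ p)
  {w t u : X} {e N : ℕ} (hw : π w = w3) (hw3 : w ^ 3 = 1) (ht : π t = tor γ) (htp : t ^ (p - 1) = 1)
  (hu : π u = up 1) (hup : u ^ p ^ N = 1) (htu : t * u = u ^ e * t)
  (he : (e : ZMod p) = (γ : ZMod p) ^ 2)

include hπ hker hγ hp7 hw hw3 ht htp hu hup htu he

/-- The additive inequalities. -/
theorem weight_ineq {V : Type v} [AddCommGroup V] [Module k V] [FiniteDimensional k V]
    (σ : Representation k X V) :
    (p ≠ 11 → finrank k V + 2 * wd (embU p k γ) (σ t) 3 + wd (embU p k γ) (σ t) 6 ≤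
      4 * fx (σ w) + 2 * wd (embU p k γ) (σ t) 1 + wd (embU p k γ) (σ t) 4) ∧
    (p = 11 →
      (finrank k V + wd (embU p k γ) (σ t) 5 + wd (embU p k γ) (σ t) 3 ≤
        5 * fx (σ w) + wd (embU p k γ) (σ t) 1 + wd (embU p k γ) (σ t) 9) ∧
      (finrank k V + 2 * (wd (embU p k γ) (σ t) 3 + wd (embU p k γ) (σ t) 9) + 2 * wd (embU p k γ) (σ t) 6 ≤
        4 * fx (σ w) + 4 * wR (embU p k γ) (p - 1) (σ t) (σ u) 9 1 +
          2 * wR (embU p k γ) (p - 1) (σ t) (σ u) 3 7 + 2 * wR (embU p k γ) (p - 1) (σ t) (σ u) 6 4 +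
          wR (embU p k γ) (p - 1) (σ t) (σ u) 6 1)) := by
  have h3 : ((3 : ℕ) : k) ≠ 0 := fun h => by
    rw [CharP.cast_eq_zero_iff k p] at h
    have := Nat.le_of_dvd (by norm_num) h
    omega
  refine induct (P := fun W _ _ _ (τ : Representation k X W) =>
    (p ≠ 11 → finrank k W + 2 * wd (embU p k γ) (τ t) 3 + wd (embU p k γ) (τ t) 6 ≤
      4 * fx (τ w) + 2 * wd (embU p k γ) (τ t) 1 + wd (embU p k γ) (τ t) 4) ∧
    (p = 11 →
      (finrank k W + wd (embU p k γ) (τ t) 5 + wd (embU p k γ) (τ t) 3 ≤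
        5 * fx (τ w) + wd (embU p k γ) (τ t) 1 + wd (embU p k γ) (τ t) 9) ∧
      (finrank k W + 2 * (wd (embU p k γ) (τ t) 3 + wd (embU p k γ) (τ t) 9) + 2 * wd (embU p k γ) (τ t) 6 ≤
        4 * fx (τ w) + 4 * wR (embU p k γ) (p - 1) (τ t) (τ u) 9 1 +
          2 * wR (embU p k γ) (p - 1) (τ t) (τ u) 3 7 + 2 * wR (embU p k γ) (p - 1) (τ t) (τ u) 6 4 +
          wR (embU p k γ) (p - 1) (τ t) (τ u) 6 1))) ?_ ?_ ?_ σ
  · intro W _ _ _ _ τ
    have h0 : finrank k W = 0 := Module.finrank_zero_of_subsingleton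
    have hz : ∀ a, wd (embU p k γ) (τ t) a = 0 := fun a =>
      Nat.le_zero.1 (h0 ▸ Submodule.finrank_le _)
    simp only [h0, hz]
    omega
  · intro W _ _ _ τ hτ
    obtain ⟨τ', hτ'⟩ := exists_factor π hπ τ hτ hker
    have hsim : IsSimple τ' := ⟨hτ.1, fun S hS => hτ.2 S fun g x hx => by rw [hτ']; exact hS _ x hx⟩
    obtain ⟨m, hm1, hmp, hn, hlo, hdat⟩ := simple_data hp7 hsim hγ
    rw [hτ' t, hτ' u, hτ' w, ht, hu, hw, hn]
    have hd : ∀ a : ℕ, wd (embU p k γ) (τ' (tor γ)) (a : ℤ) = cnt p m a := fun a => (hdat a).1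
    have hR : ∀ a j : ℕ, cntR p m a j ≤ wR (embU p k γ) (p - 1) (τ' (tor γ)) (τ' (up 1)) (a : ℤ) j :=
      fun a j => (hdat a).2 j
    have d1 : wd (embU p k γ) (τ' (tor γ)) 1 = cnt p m 1 := hd 1
    have d3 : wd (embU p k γ) (τ' (tor γ)) 3 = cnt p m 3 := hd 3
    have d4 : wd (embU p k γ) (τ' (tor γ)) 4 = cnt p m 4 := hd 4
    have d5 : wd (embU p k γ) (τ' (tor γ)) 5 = cnt p m 5 := hd 5
    have d6 : wd (embU p k γ) (τ' (tor γ)) 6 = cnt p m 6 := hd 6
    have d9 : wd (embU p k γ) (τ' (tor γ)) 9 = cnt p m 9 := hd 9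
    rw [d1, d3, d4, d5, d6, d9]
    refine ⟨fun h11 => ?_, fun h11 => ?_⟩
    · have := chain_ineq (Fact.out : p.Prime) hp7 h11 hm1 hmp
      omega
    · subst h11
      obtain ⟨hA, hB⟩ := chain_ineq_eleven hm1 hmp
      have r91 := hR 9 1
      have r37 := hR 3 7
      have r64 := hR 6 4
      have r61 := hR 6 1
      simp only [Nat.cast_ofNat] at r91 r37 r64 r61
      omega
  · intro W _ _ _ τ S hS hs hq
    have hW := isWeightTwo_lift (k := k) τ htp hup htu he
    have hfa : fx (τ w) = fx (subRep τ S hS w) + fx (quotRep τ S hS w) :=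
      fx_add (m := 3) (by rw [← map_pow, hw3, map_one]) h3 (hS w)
    have hn := S.finrank_quotient_add_finrank
    have hd : ∀ a, wd (embU p k γ) (τ t) a =
        wd (embU p k γ) (subRep τ S hS t) a + wd (embU p k γ) (quotRep τ S hS t) a :=
      fun a => wd_add hW.g_pow hW.m_ne hW.f_pow (hS t) a
    have hR : ∀ a j, wR (embU p k γ) (p - 1) (subRep τ S hS t) (subRep τ S hS u) a j +
        wR (embU p k γ) (p - 1) (quotRep τ S hS t) (quotRep τ S hS u) a j ≤
          wR (embU p k γ) (p - 1) (τ t) (τ u) a j :=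
      fun a j => wR_add hW (hS t) (hS u) a j
    refine ⟨fun h11 => ?_, fun h11 => ?_⟩
    · have := hs.1 h11
      have := hq.1 h11
      rw [hfa, hd 1, hd 3, hd 4, hd 6]
      omega
    · obtain ⟨sA, sB⟩ := hs.2 h11
      obtain ⟨qA, qB⟩ := hq.2 h11
      rw [hfa, hd 1, hd 3, hd 5, hd 6, hd 9]
      have := hR 9 1
      have := hR 3 7
      have := hR 6 4
      have := hR 6 1
      omega

/-- **The bound in the defining characteristic.** -/
theorem exists_large_defining {V : Type v} [AddCommGroup V] [Module k V] [FiniteDimensional k V]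
    (σ : Representation k X V) : ∃ h : X, h ≠ 1 ∧ finrank k V ≤ 6 * fx (σ h) := by
  classical
  by_contra hcon
  push Not at hcon
  have hw1 : w ≠ 1 := fun h => w3_ne_one (F := ZMod p) (by rw [← hw, h, map_one])
  have hu1 : u ≠ 1 := fun h => by
    have h1 : (up 1 : SL(2, ZMod p)) = 1 := by rw [← hu, h, map_one]
    have h2 := congrArg (fun g : SL(2, ZMod p) => g 0 1) h1
    simp [coe_up] at h2
  have ha := hcon w hw1
  have hW := isWeightTwo_lift (k := k) σ htp hup htu he
  obtain ⟨hG, hE⟩ := weight_ineq π hπ hker hγ hp7 hw hw3 ht htp hu hup htu he σ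
  set g := embU p k γ
  have hord : orderOf g = p - 1 := by
    rw [orderOf_injective (embU p k) (Units.map_injective (emb p k).injective),
      orderOf_eq_card_of_forall_mem_zpowers hγ, Nat.card_eq_fintype_card, ZMod.card_units]
  have hsep : ∀ a b : ℤ, 0 ≤ a → a < (p - 1 : ℕ) → 0 ≤ b → b < (p - 1 : ℕ) → g ^ a = g ^ b → a = b :=
    fun a b ha ha' hb hb' h => by
      rw [zpow_eq_zpow_iff_modEq, hord, Int.ModEq, Int.emod_eq_of_lt ha ha', Int.emod_eq_of_lt hb hb'] at h
      exact h
  have hle := fun a j => wR_congr_le (k := k) g (p - 1) (σ t) (σ u) a j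
  have hker1 : finrank k (LinearMap.ker (wN g (p - 1) (σ t) (σ u) ^ 1)) = fx (σ u) := by
    rw [ker_wN_pow hW, pow_one]; rfl
  by_cases h11 : p = 11
  · subst h11
    obtain ⟨hA, hB⟩ := hE rfl
    by_cases hx : (σ u - 1) ^ 11 = 0
    · -- short blocks
      set N' := wN g (11 - 1) (σ t) (σ u)
      have hN : N' ^ 11 = 0 := (wN_pow_eq_zero_iff hW).2 hx
      have hf := hcon u hu1
      have key : ∀ (a : ℤ) (S : Submodule k V) (j : ℕ), S ≤ wsp g (σ t) a →
          finrank k S + wR g (11 - 1) (σ t) (σ u) a j ≤ finrank k (S.map (N' ^ j)) + wd g (σ t) a :=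
        fun a S j hS => map_finrank_ge g _ _ _ j hS
      have hmap : ∀ (S : Submodule k V) (i j : ℕ), (S.map (N' ^ i)).map (N' ^ j) = S.map (N' ^ (j + i)) :=
        fun S i j => by rw [pow_add, Module.End.mul_eq_comp, Submodule.map_comp]
      have mle : ∀ (a b : ℤ) (j : ℕ), a + 2 * j ≡ b [ZMOD (11 - 1 : ℕ)] →
          (wsp g (σ t) a).map (N' ^ j) ≤ wsp g (σ t) b := fun a b j h => wN_map_le hW j h le_rfl
      -- the path through the odd weights
      have m1 : (wsp g (σ t) 9).map (N' ^ 1) ≤ wsp g (σ t) 1 := mle 9 1 1 (by norm_num [Int.ModEq])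
      have m2 : (wsp g (σ t) 9).map (N' ^ 2) ≤ wsp g (σ t) 3 := mle 9 3 2 (by norm_num [Int.ModEq])
      have m9 : (wsp g (σ t) 9).map (N' ^ 9) ≤ wsp g (σ t) 7 := mle 9 7 9 (by norm_num [Int.ModEq])
      have m10 : (wsp g (σ t) 9).map (N' ^ 10) ≤ wsp g (σ t) 9 := mle 9 9 10 (by norm_num [Int.ModEq])
      have e1 := key 1 _ 1 m1
      have e2 := key 3 _ 7 m2
      have e3 := key 7 _ 1 m9
      have e4 := key 9 _ 1 m10
      rw [hmap] at e1 e2 e3 e4
      simp only [Nat.reduceAdd] at e1 e2 e3 e4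
      rw [hN, Submodule.map_zero, finrank_bot] at e4
      -- the path through the even weights
      have n4 : (wsp g (σ t) 6).map (N' ^ 4) ≤ wsp g (σ t) 4 := mle 6 4 4 (by norm_num [Int.ModEq])
      have n5 : (wsp g (σ t) 6).map (N' ^ 5) ≤ wsp g (σ t) 6 := mle 6 6 5 (by norm_num [Int.ModEq])
      have n9 : (wsp g (σ t) 6).map (N' ^ 9) ≤ wsp g (σ t) 4 := mle 6 4 9 (by norm_num [Int.ModEq])
      have n10 : (wsp g (σ t) 6).map (N' ^ 10) ≤ wsp g (σ t) 6 := mle 6 6 10 (by norm_num [Int.ModEq])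
      have f1 := key 4 _ 1 n4
      have f2 := key 6 _ 4 n5
      have f3 := key 4 _ 1 n9
      have f4 := key 6 _ 1 n10
      rw [hmap] at f1 f2 f3 f4
      simp only [Nat.reduceAdd] at f1 f2 f3 f4
      rw [hN, Submodule.map_zero, finrank_bot] at f4
      have gR : ∀ (a : ℤ) (j : ℕ),
          wR g (11 - 1) (σ t) (σ u) a j = finrank k ((wsp g (σ t) a).map (N' ^ j)) := fun _ _ => rfl
      have g1 := gR 9 1
      have g2 := gR 6 4
      -- the kernel
      have hs := sum_ker_le g (11 - 1) (σ t) (σ u) ({1, 7, 4} : Finset ℤ) (fun a ha b hb hab => by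
        simp only [Finset.mem_insert, Finset.mem_singleton] at ha hb
        rcases ha with rfl | rfl | rfl <;> rcases hb with rfl | rfl | rfl <;>
          exact hsep _ _ (by norm_num) (by omega) (by norm_num) (by omega) hab) 1
      rw [Finset.sum_insert (by decide), Finset.sum_insert (by decide), Finset.sum_singleton,
        Finset.sum_insert (by decide), Finset.sum_insert (by decide), Finset.sum_singleton, hker1] at hs
      omega
    · -- long blocks
      have hu11 : u ^ 11 ≠ 1 := fun h => hx (by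
        rcases subsingleton_or_nontrivial V with hV | hV
        · exact LinearMap.ext fun x => Subsingleton.elim _ _
        haveI : CharP (Module.End k V) 11 := charP_of_injective_algebraMap' k 11
        rw [sub_pow_char_of_commute 11 (Commute.one_right _), one_pow, ← map_pow, h, map_one, sub_self])
      have hf := hcon (u ^ 11) hu11
      have hk : finrank k (LinearMap.ker (wN g (11 - 1) (σ t) (σ u) ^ 2)) ≤ fx (σ (u ^ 11)) := by
        rw [ker_wN_pow hW]
        rcases subsingleton_or_nontrivial V with hV | hV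
        · have h0 : finrank k V = 0 := Module.finrank_zero_of_subsingleton
          exact ((Submodule.finrank_le _).trans h0.le).trans (Nat.zero_le _)
        haveI : CharP (Module.End k V) 11 := charP_of_injective_algebraMap' k 11
        have e : σ (u ^ 11) - 1 = (σ u - 1) ^ 11 := by
          rw [sub_pow_char_of_commute 11 (Commute.one_right _), one_pow, ← map_pow]
        refine Submodule.finrank_mono ?_
        rw [e, show (11 : ℕ) = 9 + 2 from rfl, pow_add]
        exact fun x hx => by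
          rw [LinearMap.mem_ker] at hx ⊢
          rw [Module.End.mul_apply, hx, map_zero]
      have hs := sum_ker_le g (11 - 1) (σ t) (σ u) ({1, 9} : Finset ℤ) (fun a ha b hb hab => by
        simp only [Finset.mem_insert, Finset.mem_singleton] at ha hb
        rcases ha with rfl | rfl <;> rcases hb with rfl | rfl <;>
          exact hsep _ _ (by norm_num) (by omega) (by norm_num) (by omega) hab) 2
      rw [Finset.sum_insert (by decide), Finset.sum_singleton, Finset.sum_insert (by decide),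
        Finset.sum_singleton] at hs
      have r1 : wR g (11 - 1) (σ t) (σ u) 1 2 ≤ wd g (σ t) 5 := wR_le hW 2 (by norm_num [Int.ModEq])
      have r9 : wR g (11 - 1) (σ t) (σ u) 9 2 ≤ wd g (σ t) 3 := wR_le hW 2 (by norm_num [Int.ModEq])
      omega
  · have hG' := hG h11
    have hf := hcon u hu1
    have hs := sum_ker_le g (p - 1) (σ t) (σ u) ({1, 4} : Finset ℤ) (fun a ha b hb hab => by
      simp only [Finset.mem_insert, Finset.mem_singleton] at ha hb
      rcases ha with rfl | rfl <;> rcases hb with rfl | rfl <;>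
        exact hsep _ _ (by norm_num) (by omega) (by norm_num) (by omega) hab) 1
    rw [Finset.sum_insert (by decide), Finset.sum_singleton, Finset.sum_insert (by decide),
      Finset.sum_singleton, hker1] at hs
    have r1 : wR g (p - 1) (σ t) (σ u) 1 1 ≤ wd g (σ t) 3 := wR_le hW 1 (by norm_num)
    have r4 : wR g (p - 1) (σ t) (σ u) 4 1 ≤ wd g (σ t) 6 := wR_le hW 1 (by norm_num)
    have r4' := hle 4 1
    omega

end CfsgLib.FixSixth
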