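import Mathlib

/-!
# Dimensions of fixed spaces of endomorphisms of finite order prime to the characteristic

`fx f` is the dimension of the fixed space of `f`; when `f ^ m = 1` with `m` invertible in the field
it is additive along invariant subspaces.  `induct` is the induction along a composition series of a
representation.
-/

set_option autoImplicit false
set_option linter.unusedSectionVars false

namespace CfsgLib.FixSixth

open Module

variable {k : Type*} [Field k] {V : Type*} [AddCommGroup V] [Module k V]

/-- The dimension of the fixed space. -/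
noncomputable def fx (f : Module.End k V) : ℕ := finrank k (LinearMap.ker (f - 1))

theorem mem_fix {f : Module.End k V} {v : V} : v ∈ LinearMap.ker (f - 1) ↔ f v = v := by
  simp [sub_eq_zero]

theorem fx_le [FiniteDimensional k V] (f : Module.End k V) : fx f ≤ finrank k V :=
  Submodule.finrank_le _

theorem fx_one : fx (1 : Module.End k V) = finrank k V := by
  rw [fx, sub_self, LinearMap.ker_zero, finrank_top]

/-- The average of the powers of `f`. -/
noncomputable def avg (f : Module.End k V) (m : ℕ) : Module.End k V :=
  (m : k)⁻¹ • ∑ i ∈ Finset.range m, f ^ i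

theorem avg_apply_of_fixed {f : Module.End k V} {m : ℕ} (hm : (m : k) ≠ 0) {v : V} (hv : f v = v) :
    avg f m v = v := by
  have h : ∀ i : ℕ, (f ^ i) v = v := fun i => by
    induction i with
    | zero => rfl
    | succ i ih => rw [pow_succ, Module.End.mul_apply, hv, ih]
  simp [avg, h, ← Nat.cast_smul_eq_nsmul k, smul_smul, inv_mul_cancel₀ hm]

theorem apply_avg {f : Module.End k V} {m : ℕ} (hf : f ^ m = 1) (v : V) :
    f (avg f m v) = avg f m v := by
  have h : f * (∑ i ∈ Finset.range m, f ^ i) = ∑ i ∈ Finset.range m, f ^ i := by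
    have h1 := mul_geom_sum f m
    rw [hf, sub_self, sub_mul, one_mul, sub_eq_zero] at h1
    exact h1
  simp only [avg, LinearMap.smul_apply, map_smul]
  rw [← Module.End.mul_apply, h]

/-- The restriction to an invariant subspace. -/
theorem restrict_pow_eq_one {f : Module.End k V} {m : ℕ} (hf : f ^ m = 1) {S : Submodule k V}
    (hS : ∀ v ∈ S, f v ∈ S) : (f.restrict hS) ^ m = 1 := by
  rw [Module.End.pow_restrict m hS]
  ext v
  simp [hf]

/-- Fixed spaces are additive along an invariant subspace. -/
theorem fx_add [FiniteDimensional k V] {f : Module.End k V} {m : ℕ} (hf : f ^ m = 1)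
    (hm : (m : k) ≠ 0) {S : Submodule k V} (hS : ∀ v ∈ S, f v ∈ S) :
    fx f = fx (f.restrict hS) + fx (S.mapQ S f hS) := by
  set F := LinearMap.ker (f - 1) with hF
  set φ : F →ₗ[k] V ⧸ S := S.mkQ ∘ₗ F.subtype with hφ
  have h := LinearMap.finrank_range_add_finrank_ker φ
  have hr : LinearMap.range φ = LinearMap.ker (S.mapQ S f hS - 1) := by
    ext q
    rw [mem_fix]
    constructor
    · rintro ⟨⟨v, hv⟩, rfl⟩
      simp only [hφ, LinearMap.comp_apply, Submodule.subtype_apply, Submodule.mkQ_apply,
        Submodule.mapQ_apply]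
      rw [mem_fix.1 hv]
    · obtain ⟨v, rfl⟩ := S.mkQ_surjective q
      intro hq
      simp only [Submodule.mkQ_apply, Submodule.mapQ_apply] at hq
      have hi : ∀ i : ℕ, (Submodule.Quotient.mk ((f ^ i) v) : V ⧸ S) = Submodule.Quotient.mk v := by
        intro i
        induction i with
        | zero => rfl
        | succ i ih =>
          rw [pow_succ', Module.End.mul_apply, ← Submodule.mapQ_apply S S f (h := hS), ih,
            Submodule.mapQ_apply, hq]
      refine ⟨⟨avg f m v, mem_fix.2 (apply_avg hf v)⟩, ?_⟩
      show S.mkQ (avg f m v) = S.mkQ v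
      simp [avg, map_sum, hi, ← Nat.cast_smul_eq_nsmul k, smul_smul, inv_mul_cancel₀ hm]
  have hk : finrank k (LinearMap.ker φ) = fx (f.restrict hS) := by
    refine LinearEquiv.finrank_eq
      { toFun := fun x => ⟨⟨(x : F), (Submodule.Quotient.mk_eq_zero S).1 (LinearMap.mem_ker.1 x.2)⟩,
          mem_fix.2 (Subtype.ext (mem_fix.1 (x : F).2))⟩
        map_add' := fun x y => rfl
        map_smul' := fun c x => rfl
        invFun := fun y => ⟨⟨((y : S) : V), mem_fix.2 (congrArg Subtype.val (mem_fix.1 y.2))⟩,
          LinearMap.mem_ker.2 ((Submodule.Quotient.mk_eq_zero S).2 (y : S).2)⟩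
        left_inv := fun x => rfl
        right_inv := fun y => rfl }
  rw [hr, hk] at h
  show finrank k F = _
  rw [← h, add_comm]
  rfl

/-- The fixed space of a conjugate. -/
theorem fx_conj {W : Type*} [AddCommGroup W] [Module k W] (e : V ≃ₗ[k] W) (f : Module.End k V)
    (g : Module.End k W) (h : ∀ v, e (f v) = g (e v)) : fx f = fx g := by
  have : (LinearMap.ker (f - 1)).map e.toLinearMap = LinearMap.ker (g - 1) := by
    ext w
    rw [mem_fix, Submodule.mem_map]
    refine ⟨?_, fun hw => ⟨e.symm w, mem_fix.2 (e.injective ?_), e.apply_symm_apply w⟩⟩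
    · rintro ⟨v, hv, rfl⟩
      show g (e v) = e v
      rw [← h, mem_fix.1 hv]
    · rw [h, e.apply_symm_apply, hw]
  rw [fx, fx, ← this, LinearEquiv.finrank_map_eq]

/-- An equivariant surjection does not increase fixed spaces. -/
theorem fx_le_of_surjective [FiniteDimensional k V] {W : Type*} [AddCommGroup W] [Module k W]
    (φ : V →ₗ[k] W) (hφ : Function.Surjective φ) (f : Module.End k V) (g : Module.End k W)
    (h : ∀ v, φ (f v) = g (φ v)) {m : ℕ} (hf : f ^ m = 1) (hm : (m : k) ≠ 0) :
    fx g ≤ fx f := by
  have hi : ∀ (i : ℕ) (v : V), φ ((f ^ i) v) = (g ^ i) (φ v) := by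
    intro i
    induction i with
    | zero => intro v; rfl
    | succ i ih => intro v; rw [pow_succ', pow_succ', Module.End.mul_apply, Module.End.mul_apply, h, ih]
  have hle : LinearMap.ker (g - 1) ≤ (LinearMap.ker (f - 1)).map φ := by
    intro w hw
    obtain ⟨v, rfl⟩ := hφ w
    refine ⟨avg f m v, mem_fix.2 (apply_avg hf v), ?_⟩
    have h1 : ∀ i : ℕ, (g ^ i) (φ v) = φ v := fun i => by
      induction i with
      | zero => rfl
      | succ i ih => rw [pow_succ, Module.End.mul_apply, mem_fix.1 hw, ih]
    simp [avg, map_sum, hi, h1, ← Nat.cast_smul_eq_nsmul k, smul_smul, inv_mul_cancel₀ hm]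
  exact (Submodule.finrank_mono hle).trans (Submodule.finrank_map_le φ _)

section Induction

variable {G : Type*} [Monoid G]

/-- The restriction of a representation to an invariant subspace. -/
noncomputable def subRep (ρ : Representation k G V) (S : Submodule k V) (h : ∀ g, ∀ v ∈ S, ρ g v ∈ S) :
    Representation k G S where
  toFun g := (ρ g).restrict (h g)
  map_one' := by ext v; simp
  map_mul' a b := by ext v; simp

/-- The representation on a quotient by an invariant subspace. -/
noncomputable def quotRep (ρ : Representation k G V) (S : Submodule k V) (h : ∀ g, ∀ v ∈ S, ρ g v ∈ S) :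
    Representation k G (V ⧸ S) where
  toFun g := S.mapQ S (ρ g) (h g)
  map_one' := by ext v; simp
  map_mul' a b := by ext v; simp

theorem subRep_apply (ρ : Representation k G V) (S : Submodule k V) (h : ∀ g, ∀ v ∈ S, ρ g v ∈ S)
    (g : G) : subRep ρ S h g = (ρ g).restrict (h g) := rfl

theorem quotRep_apply (ρ : Representation k G V) (S : Submodule k V) (h : ∀ g, ∀ v ∈ S, ρ g v ∈ S)
    (g : G) : quotRep ρ S h g = S.mapQ S (ρ g) (h g) := rfl

/-- A nonzero representation without proper invariant subspaces. -/
def IsSimple (ρ : Representation k G V) : Prop :=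
  Nontrivial V ∧ ∀ S : Submodule k V, (∀ g, ∀ v ∈ S, ρ g v ∈ S) → S = ⊥ ∨ S = ⊤

end Induction

universe v in
/-- Induction along a composition series. -/
theorem induct {k : Type*} [Field k] {G : Type*} [Monoid G]
    {P : ∀ (V : Type v) [AddCommGroup V] [Module k V] [FiniteDimensional k V], Representation k G V → Prop}
    (hzero : ∀ (V : Type v) [AddCommGroup V] [Module k V] [FiniteDimensional k V] [Subsingleton V]
      (ρ : Representation k G V), P V ρ)
    (hsimple : ∀ (V : Type v) [AddCommGroup V] [Module k V] [FiniteDimensional k V]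
      (ρ : Representation k G V), IsSimple ρ → P V ρ)
    (hext : ∀ (V : Type v) [AddCommGroup V] [Module k V] [FiniteDimensional k V]
      (ρ : Representation k G V) (S : Submodule k V) (h : ∀ g, ∀ v ∈ S, ρ g v ∈ S),
      P S (subRep ρ S h) → P (V ⧸ S) (quotRep ρ S h) → P V ρ)
    {V : Type v} [AddCommGroup V] [Module k V] [FiniteDimensional k V] (ρ : Representation k G V) :
    P V ρ := by
  suffices H : ∀ (n : ℕ) (V : Type v) [AddCommGroup V] [Module k V] [FiniteDimensional k V]
      (ρ : Representation k G V), finrank k V ≤ n → P V ρ from H _ V ρ le_rfl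
  intro n
  induction n with
  | zero =>
    intro V _ _ _ ρ hV
    haveI : Subsingleton V := Module.finrank_zero_iff.1 (Nat.le_zero.1 hV)
    exact hzero V ρ
  | succ n ih =>
    intro V _ _ _ ρ hV
    rcases subsingleton_or_nontrivial V with hs | hn
    · exact hzero V ρ
    by_cases hsim : IsSimple ρ
    · exact hsimple V ρ hsim
    simp only [IsSimple, not_and, not_forall, not_or] at hsim
    obtain ⟨S, hS, hbot, htop⟩ := hsim hn
    have h1 := Submodule.finrank_lt htop
    have h2 := S.finrank_quotient_add_finrank
    have h3 : finrank k S ≠ 0 := fun h => hbot (Submodule.finrank_eq_zero.1 h)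
    exact hext V ρ S hS (ih S _ (by omega)) (ih (V ⧸ S) _ (by omega))

end CfsgLib.FixSixth
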