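import Cfsg.Agent.FixSixth.Fix

/-!
# Lower bounds for fixed spaces from decompositions into eigenspaces

* `finrank_le_mul_ker`: a nilpotent of index `r` has kernel of dimension at least `n / r`.
* `finrank_le_fx_add`: two commuting maps of prime order `r` cover the space by fixed spaces.
* `spec`, `spec_two`: eigenspace projections of one, resp. two commuting, maps of prime order.
* `threeCycle`: `F`, `G` commuting of order `r` and `f` of order three permuting them as a fixed
  point free automorphism of the group they generate.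
-/

set_option autoImplicit false
set_option linter.unusedSectionVars false

namespace CfsgLib.FixSixth

open Module

variable {k : Type*} [Field k] {V : Type*} [AddCommGroup V] [Module k V]

theorem finrank_le_mul_ker [FiniteDimensional k V] {f : Module.End k V} {r : ℕ} (h : f ^ r = 0) :
    finrank k V ≤ r * finrank k (LinearMap.ker f) := by
  have key : ∀ i : ℕ,
      finrank k (LinearMap.ker (f ^ i)) ≤ i * finrank k (LinearMap.ker f) := by
    intro i
    induction i with
    | zero =>
      have : LinearMap.ker (f ^ 0) = ⊥ := by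
        rw [pow_zero]; exact LinearMap.ker_eq_bot.2 (fun x y e => e)
      rw [this, finrank_bot]; exact Nat.zero_le _
    | succ i ih =>
      let φ : LinearMap.ker (f ^ (i + 1)) →ₗ[k] LinearMap.ker (f ^ i) :=
        ((f.domRestrict (LinearMap.ker (f ^ (i + 1)))).codRestrict (LinearMap.ker (f ^ i))
          fun v => LinearMap.mem_ker.2 (by
            obtain ⟨x, hx⟩ := v
            have hx' : (f ^ (i + 1)) x = 0 := LinearMap.mem_ker.1 hx
            rw [pow_succ, Module.End.mul_apply] at hx'
            exact hx'))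
      have h1 := LinearMap.finrank_range_add_finrank_ker φ
      have h2 : finrank k (LinearMap.range φ) ≤ finrank k (LinearMap.ker (f ^ i)) :=
        Submodule.finrank_le _
      have h3 : finrank k (LinearMap.ker φ) ≤ finrank k (LinearMap.ker f) := by
        let ψ : LinearMap.ker φ →ₗ[k] LinearMap.ker f :=
          LinearMap.codRestrict (LinearMap.ker f)
            ((LinearMap.ker (f ^ (i + 1))).subtype ∘ₗ (LinearMap.ker φ).subtype)
            fun v => LinearMap.mem_ker.2 (congrArg Subtype.val (LinearMap.mem_ker.1 v.2))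
        refine LinearMap.finrank_le_finrank_of_injective (f := ψ) ?_
        intro a b e
        exact Subtype.ext (Subtype.ext (congrArg Subtype.val e : _))
      rw [Nat.succ_mul]
      omega
  have htop : LinearMap.ker (f ^ r) = ⊤ := by rw [h, LinearMap.ker_zero]
  have := key r
  rwa [htop, finrank_top] at this

variable {r : ℕ}

theorem commute_avg {f g : Module.End k V} (h : Commute g f) (m : ℕ) : Commute g (avg f m) :=
  (Commute.sum_right _ _ _ fun i _ => h.pow_right i).smul_right _

/-- Two commuting maps of prime order `r` cover the space by fixed spaces. -/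
theorem finrank_le_fx_add [FiniteDimensional k V] (hr : r.Prime) (hr0 : (r : k) ≠ 0)
    {f g : Module.End k V} (hf : f ^ r = 1) (hg : g ^ r = 1) (hc : Commute f g) :
    finrank k V ≤ fx f + ∑ i ∈ Finset.range r, fx (f ^ i * g) := by
  have hpow : ∀ i : ℕ, (f ^ i * g) ^ r = 1 := fun i => by
    rw [(hc.pow_left i).mul_pow, ← pow_mul, mul_comm, pow_mul, hf, one_pow, hg, one_mul]
  let Φ : (LinearMap.ker (f - 1)) ×
      (Π i : Finset.range r, LinearMap.ker (f ^ (i : ℕ) * g - 1)) →ₗ[k] V :=
    (LinearMap.ker (f - 1)).subtype ∘ₗ LinearMap.fst _ _ _ +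
      ∑ i : Finset.range r, (LinearMap.ker (f ^ (i : ℕ) * g - 1)).subtype ∘ₗ
        LinearMap.proj i ∘ₗ LinearMap.snd _ _ _
  have hsurj : Function.Surjective Φ := by
    intro v
    set u := v - avg f r v with hu
    have hu0 : avg f r u = 0 := by
      rw [hu, map_sub, avg_apply_of_fixed hr0 (apply_avg hf v), sub_self]
    refine ⟨(⟨avg f r v, mem_fix.2 (apply_avg hf v)⟩,
      fun i => ⟨avg (f ^ (i : ℕ) * g) r u, mem_fix.2 (apply_avg (hpow _) u)⟩), ?_⟩
    -- the nontrivial powers of `f` average `u` to zero
    have hz : ∀ j, j < r → j ≠ 0 → ∑ i ∈ Finset.range r, ((f ^ j) ^ i) u = 0 := by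
      intro j hj hj0
      set S := ∑ i ∈ Finset.range r, ((f ^ j) ^ i) u with hS
      have hjr : (f ^ j) ^ r = 1 := by rw [← pow_mul, mul_comm, pow_mul, hf, one_pow]
      have hfj : (f ^ j) S = S := by
        have h1 : f ^ j * (∑ i ∈ Finset.range r, (f ^ j) ^ i) = ∑ i ∈ Finset.range r, (f ^ j) ^ i := by
          have h2 := mul_geom_sum (f ^ j) r
          rwa [hjr, sub_self, sub_mul, one_mul, sub_eq_zero] at h2
        rw [hS, ← LinearMap.sum_apply, ← Module.End.mul_apply, h1]
      have hfS : f S = S := by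
        obtain ⟨m, -, hm⟩ := Nat.exists_mul_mod_eq_one_of_coprime
          ((hr.coprime_iff_not_dvd.2 fun hd => absurd (Nat.le_of_dvd (Nat.pos_of_ne_zero hj0) hd)
            (by omega)).symm) hr.one_lt
        have hfm : (f ^ j) ^ m = f := by
          rw [← pow_mul, pow_eq_pow_mod _ hf, hm, pow_one]
        have : ∀ m : ℕ, ((f ^ j) ^ m) S = S := fun m => by
          induction m with
          | zero => rfl
          | succ m ih => rw [pow_succ, Module.End.mul_apply, hfj, ih]
        conv_lhs => rw [← hfm]
        exact this m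
      rw [← avg_apply_of_fixed hr0 hfS, hS, map_sum]
      refine Finset.sum_eq_zero fun i _ => ?_
      rw [← Module.End.mul_apply,
        ← (commute_avg (((Commute.refl f).pow_left j).pow_left i) r).eq, Module.End.mul_apply, hu0,
        map_zero]
    have key : ∑ i ∈ Finset.range r, avg (f ^ i * g) r u = u := by
      simp only [avg, LinearMap.smul_apply, LinearMap.sum_apply, ← Finset.smul_sum]
      rw [Finset.sum_comm, Finset.sum_eq_single 0]
      · simp [← Nat.cast_smul_eq_nsmul k, smul_smul, inv_mul_cancel₀ hr0]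
      · intro j hj hj0
        rw [← map_zero (g ^ j), ← hz j (Finset.mem_range.1 hj) hj0, map_sum]
        refine Finset.sum_congr rfl fun i _ => ?_
        rw [(hc.pow_left i).mul_pow, ← pow_mul, ← pow_mul, mul_comm j i,
          (hc.pow_pow (i * j) j).eq, Module.End.mul_apply]
      · intro h
        exact absurd (Finset.mem_range.2 hr.pos) h
    simp only [Φ, LinearMap.add_apply, LinearMap.comp_apply, LinearMap.sum_apply,
      LinearMap.fst_apply, LinearMap.snd_apply, LinearMap.proj_apply, Submodule.subtype_apply]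
    rw [Finset.univ_eq_attach, Finset.sum_attach (Finset.range r) (fun i => avg (f ^ i * g) r u),
      key, hu, add_sub_cancel]
  have h := LinearMap.finrank_range_le Φ
  rw [LinearMap.range_eq_top.2 hsurj, finrank_top, Module.finrank_prod, Module.finrank_pi_fintype,
    Finset.univ_eq_attach,
    Finset.sum_attach (Finset.range r)
      (fun i => finrank k (LinearMap.ker (f ^ i * g - 1)))] at h
  exact h

/-- A finite family of orthogonal projections summing to one. -/
def IsDecomp {ι : Type*} [Fintype ι] (π : ι → Module.End k V) : Prop :=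
  (∑ i, π i = 1) ∧ (∀ i x, π i (π i x) = π i x) ∧ ∀ i j, i ≠ j → ∀ x, π i (π j x) = 0

namespace IsDecomp

variable {ι : Type*} [Fintype ι] {π : ι → Module.End k V}

theorem sum_apply (h : IsDecomp π) (v : V) : ∑ i, π i v = v := by
  rw [← LinearMap.sum_apply, h.1, Module.End.one_apply]

theorem apply_self (h : IsDecomp π) {i : ι} {x : V} (hx : x ∈ LinearMap.range (π i)) :
    π i x = x := by
  obtain ⟨y, rfl⟩ := hx; exact h.2.1 i y

theorem apply_other (h : IsDecomp π) {i j : ι} (hij : i ≠ j) {x : V}
    (hx : x ∈ LinearMap.range (π j)) : π i x = 0 := by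
  obtain ⟨y, rfl⟩ := hx; exact h.2.2 i j hij y

theorem apply_sum (h : IsDecomp π) (i : ι) (x : Π j, LinearMap.range (π j)) :
    π i (∑ j, (x j : V)) = x i := by
  rw [map_sum, Finset.sum_eq_single i (fun j _ hj => h.apply_other (Ne.symm hj) (x j).2)
    (by simp), h.apply_self (x i).2]

/-- The space is the product of the ranges. -/
noncomputable def equiv (h : IsDecomp π) : V ≃ₗ[k] Π i, LinearMap.range (π i) where
  toFun v i := ⟨π i v, LinearMap.mem_range_self _ v⟩
  map_add' u v := by ext i; simp
  map_smul' c v := by ext i; simp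
  invFun x := ∑ i, (x i : V)
  left_inv v := h.sum_apply v
  right_inv x := funext fun i => Subtype.ext (h.apply_sum i x)

theorem finrank_eq [FiniteDimensional k V] (h : IsDecomp π) :
    finrank k V = ∑ i, finrank k (LinearMap.range (π i)) := by
  rw [h.equiv.finrank_eq, Module.finrank_pi_fintype]

end IsDecomp

section Perm

variable [FiniteDimensional k V] {ι : Type*} [Fintype ι] {π : ι → Module.End k V}

/-- A map of order three permuting a decomposition without fixed points off `i0`. -/
theorem perm_bounds (hπ : IsDecomp π) {f : Module.End k V} (hf : f ^ 3 = 1) (σ : ι → ι)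
    (hσ : ∀ i, σ (σ (σ i)) = i) (i0 : ι) (hfix : ∀ i, σ i = i ↔ i = i0)
    (hint : ∀ i v, f (π i v) = π (σ i) (f v)) :
    finrank k V ≤ finrank k (LinearMap.range (π i0)) + 3 * fx f ∧
      3 * fx f ≤ finrank k V + 2 * finrank k (LinearMap.range (π i0)) := by
  classical
  set d : ι → ℕ := fun i => finrank k (LinearMap.range (π i)) with hd
  letI : LinearOrder ι := LinearOrder.lift' _ (Fintype.equivFin ι).injective
  have hf3 : ∀ v, f (f (f v)) = v := fun v => by
    have := LinearMap.congr_fun hf v
    rwa [pow_succ, pow_two, Module.End.mul_apply, Module.End.mul_apply] at this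
  have hfinj : Function.Injective f := fun a b e => by rw [← hf3 a, e, hf3]
  have hσinj : Function.Injective σ := fun a b e => by rw [← hσ a, e, hσ]
  have hmap : ∀ i x, x ∈ LinearMap.range (π i) → f x ∈ LinearMap.range (π (σ i)) := by
    rintro i - ⟨v, rfl⟩
    exact ⟨f v, (hint i v).symm⟩
  have hdle : ∀ i, d i ≤ d (σ i) := fun i =>
    LinearMap.finrank_le_finrank_of_injective (f := f.restrict (hmap i))
      fun a b e => Subtype.ext (hfinj (congrArg Subtype.val e))
  have hdeq : ∀ i, d (σ i) = d i := fun i => by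
    refine le_antisymm ?_ (hdle i)
    have := (hdle (σ i)).trans (hdle (σ (σ i)))
    rwa [hσ] at this
  set T : Finset ι := Finset.univ.filter (fun i => i ≠ i0 ∧ i < σ i ∧ i < σ (σ i)) with hT
  have hne : ∀ i, i ≠ i0 → σ i ≠ i ∧ σ (σ i) ≠ i ∧ σ i ≠ σ (σ i) := by
    intro i hi
    refine ⟨fun e => hi ((hfix i).1 e), fun e => hi ((hfix i).1 ?_), fun e => hi ((hfix i).1 ?_)⟩
    · exact ((congrArg σ e).symm.trans (hσ i))
    · exact (hσinj e).symm
  have hi0 : σ i0 = i0 := (hfix i0).2 rfl
  have hone : ∀ i, (if i = i0 then 1 else 0) + (if i ∈ T then 1 else 0) +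
      (if σ i ∈ T then 1 else 0) + (if σ (σ i) ∈ T then 1 else 0) = (1 : ℕ) := by
    intro i
    by_cases hi : i = i0
    · subst hi; simp [hT, hi0]
    obtain ⟨h1, h2, h3⟩ := hne i hi
    have h4 : σ i ≠ i0 := fun e => hi (hσinj (e.trans hi0.symm))
    have h5 : σ (σ i) ≠ i0 := fun e => h4 (hσinj (e.trans hi0.symm))
    simp only [hT, Finset.mem_filter, Finset.mem_univ, true_and, ne_eq, hi, h4, h5, not_false_eq_true,
      hσ, if_false, zero_add]
    rcases lt_or_gt_of_ne h1 with a | a <;> rcases lt_or_gt_of_ne h2 with b | b <;>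
      rcases lt_or_gt_of_ne h3 with c | c <;>
      simp [a, b, c, not_lt_of_gt a, not_lt_of_gt b, not_lt_of_gt c] <;>
      first | exact absurd ((a.trans c).trans b) (lt_irrefl _) | exact absurd ((b.trans c).trans a) (lt_irrefl _) | order
  set D : ℕ := ∑ i ∈ T, d i with hD
  have hsum : finrank k V = d i0 + 3 * D := by
    have hre : ∀ τ : ι → ι, Function.Injective τ → (∀ i, d (τ i) = d i) →
        ∑ i, (if τ i ∈ T then d i else 0) = D := by
      intro τ hτ hdτ
      rw [hD, ← Fintype.sum_ite_mem T d]
      refine Fintype.sum_bijective τ (Finite.injective_iff_bijective.1 hτ) _ _ fun i => ?_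
      rw [hdτ]
    rw [hπ.finrank_eq]
    show ∑ i, d i = _
    calc ∑ i, d i
        = ∑ i, ((if i = i0 then d i else 0) + (if i ∈ T then d i else 0) +
            (if σ i ∈ T then d i else 0) + (if σ (σ i) ∈ T then d i else 0)) :=
          Finset.sum_congr rfl fun i _ => by
            have := congrArg (· * d i) (hone i)
            simp only [add_mul, one_mul, ite_mul, zero_mul] at this
            exact this.symm
      _ = d i0 + D + D + D := by
          rw [Finset.sum_add_distrib, Finset.sum_add_distrib, Finset.sum_add_distrib,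
            Finset.sum_ite_eq' Finset.univ i0 d, if_pos (Finset.mem_univ _),
            hre σ hσinj hdeq, hre (fun i => σ (σ i)) (hσinj.comp hσinj) (fun i => by
              rw [hdeq, hdeq])]
          rw [Fintype.sum_ite_mem]
      _ = _ := by ring
  have hnotT : ∀ i, i ∈ T → σ i ∉ T ∧ σ (σ i) ∉ T := by
    intro i hi
    have := hone i
    rw [if_pos hi] at this
    constructor <;> intro h' <;> rw [if_pos h'] at this <;> omega
  have hPiT : finrank k (Π i : T, LinearMap.range (π (i : ι))) = D := by
    rw [Module.finrank_pi_fintype, hD, Finset.univ_eq_attach, Finset.sum_attach T d]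
  constructor
  · let s : (Π i : T, LinearMap.range (π (i : ι))) →ₗ[k] V :=
      ∑ i : T, (LinearMap.range (π (i : ι))).subtype ∘ₗ LinearMap.proj i
    let φ : (Π i : T, LinearMap.range (π (i : ι))) →ₗ[k] LinearMap.ker (f - 1) :=
      LinearMap.codRestrict _ ((1 + f + f * f) ∘ₗ s) fun x => mem_fix.2 (by
        simp only [LinearMap.comp_apply, LinearMap.add_apply, Module.End.one_apply,
          Module.End.mul_apply, map_add, hf3]
        abel)
    have hinj : Function.Injective φ := by
      rw [injective_iff_map_eq_zero]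
      intro x hx
      funext i
      refine Subtype.ext ?_
      have hs1 : ∀ j : T, π i (f (x j : V)) = 0 := fun j =>
        hπ.apply_other (fun e : (i : ι) = σ j => (hnotT _ j.2).1 (e ▸ i.2)) (hmap _ _ (x j).2)
      have hs2 : ∀ j : T, π i (f (f (x j : V))) = 0 := fun j =>
        hπ.apply_other (fun e : (i : ι) = σ (σ j) => (hnotT _ j.2).2 (e ▸ i.2))
          (hmap _ _ (hmap _ _ (x j).2))
      have h0 := congrArg (fun y : LinearMap.ker (f - 1) => π i (y : V)) hx
      simp only [φ, s, LinearMap.codRestrict_apply, LinearMap.comp_apply, LinearMap.add_apply,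
        Module.End.one_apply, Module.End.mul_apply, LinearMap.sum_apply, LinearMap.proj_apply,
        Submodule.subtype_apply, map_add, map_sum, ZeroMemClass.coe_zero, map_zero, hs1, hs2,
        Finset.sum_const_zero, add_zero] at h0
      rw [Finset.sum_eq_single i (fun j _ hj => hπ.apply_other
        (fun e => hj (Subtype.ext e.symm)) (x j).2) (by simp), hπ.apply_self (x i).2] at h0
      simpa using h0
    have := LinearMap.finrank_le_finrank_of_injective hinj
    rw [hPiT] at this
    change D ≤ fx f at this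
    show finrank k V ≤ d i0 + 3 * fx f
    omega
  · let ψ : LinearMap.ker (f - 1) →ₗ[k]
        LinearMap.range (π i0) × (Π i : T, LinearMap.range (π (i : ι))) :=
      LinearMap.prod ((π i0).rangeRestrict ∘ₗ (LinearMap.ker (f - 1)).subtype)
        (LinearMap.pi fun i : T => (π (i : ι)).rangeRestrict ∘ₗ (LinearMap.ker (f - 1)).subtype)
    have hinj : Function.Injective ψ := by
      rw [injective_iff_map_eq_zero]
      intro v hv
      have h0 : π i0 (v : V) = 0 := congrArg (fun y => (y.1 : V)) hv
      have hT0 : ∀ i, i ∈ T → π i (v : V) = 0 := fun i hi =>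
        congrArg (fun y => (y.2 ⟨i, hi⟩ : V)) hv
      have hstep : ∀ i, π i (v : V) = 0 → π (σ i) (v : V) = 0 := fun i h => by
        rw [← mem_fix.1 v.2, ← hint, h, map_zero]
      refine Subtype.ext ?_
      show (v : V) = 0
      rw [← hπ.sum_apply (v : V)]
      refine Finset.sum_eq_zero fun i _ => ?_
      by_cases hi : i = i0
      · exact hi ▸ h0
      by_cases h1 : i ∈ T
      · exact hT0 i h1
      by_cases h2 : σ i ∈ T
      · have := hstep _ (hstep _ (hT0 _ h2)); rwa [hσ] at this
      by_cases h3 : σ (σ i) ∈ T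
      · have := hstep _ (hT0 _ h3); rwa [hσ] at this
      have := hone i
      simp [hi, h1, h2, h3] at this
    have := LinearMap.finrank_le_finrank_of_injective hinj
    rw [Module.finrank_prod, hPiT] at this
    change fx f ≤ d i0 + D at this
    show 3 * fx f ≤ finrank k V + 2 * d i0
    omega

end Perm

section Spectral

variable [IsAlgClosed k]

/-- The projection on the eigenspace of `a`. -/
noncomputable def proj (f : Module.End k V) (a : rootsOfUnity r k) : Module.End k V :=
  avg ((((a : kˣ) : k))⁻¹ • f) r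

theorem commute_proj {f g : Module.End k V} (h : Commute g f) (a : rootsOfUnity r k) :
    Commute g (proj f a) :=
  commute_avg (h.smul_right _) r

theorem root_pow (a : rootsOfUnity r k) : (((a : kˣ) : k)) ^ r = 1 := by
  have := a.2
  rw [mem_rootsOfUnity] at this
  rw [← Units.val_pow_eq_pow_val, this, Units.val_one]

theorem root_ne_zero (a : rootsOfUnity r k) : ((a : kˣ) : k) ≠ 0 := Units.ne_zero _

theorem root_ext {a b : rootsOfUnity r k} (h : ((a : kˣ) : k) = ((b : kˣ) : k)) : a = b :=
  Subtype.ext (Units.ext h)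

theorem apply_proj {f : Module.End k V} (hf : f ^ r = 1) (a : rootsOfUnity r k) (v : V) :
    f (proj f a v) = ((a : kˣ) : k) • proj f a v := by
  have h : ((((a : kˣ) : k))⁻¹ • f) ^ r = 1 := by
    rw [smul_pow, hf, inv_pow, root_pow, inv_one, one_smul]
  have h1 := apply_avg h v
  rw [LinearMap.smul_apply, inv_smul_eq_iff₀ (root_ne_zero a)] at h1
  exact h1

theorem proj_of_eigen {f : Module.End k V} (hr0 : (r : k) ≠ 0) {a : rootsOfUnity r k} {x : V}
    (hx : f x = ((a : kˣ) : k) • x) : proj f a x = x := by
  refine avg_apply_of_fixed hr0 ?_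
  rw [LinearMap.smul_apply, hx, inv_smul_smul₀ (root_ne_zero a)]

theorem proj_of_eigen_ne {f : Module.End k V} {a b : rootsOfUnity r k} (hab : b ≠ a) {x : V}
    (hx : f x = ((a : kˣ) : k) • x) : proj f b x = 0 := by
  set c : k := (((b : kˣ) : k))⁻¹ * ((a : kˣ) : k) with hc
  have hpow : ∀ i : ℕ, (((((b : kˣ) : k))⁻¹ • f) ^ i) x = c ^ i • x := fun i => by
    induction i with
    | zero => simp
    | succ i ih =>
      rw [pow_succ, Module.End.mul_apply, LinearMap.smul_apply, hx, smul_smul, ← hc, map_smul, ih,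
        smul_smul, ← pow_succ']
  have hc1 : c - 1 ≠ 0 := fun e => hab (root_ext (by
    rw [sub_eq_zero, hc, inv_mul_eq_one₀ (root_ne_zero b)] at e
    exact e))
  have hcr : c ^ r = 1 := by rw [hc, mul_pow, inv_pow, root_pow, root_pow, inv_one, one_mul]
  have hs : ∑ i ∈ Finset.range r, c ^ i = 0 := by
    have h1 := geom_sum_mul c r
    rw [hcr, sub_self] at h1
    exact (mul_eq_zero.1 h1).resolve_right hc1
  simp only [proj, avg, LinearMap.smul_apply, LinearMap.sum_apply, hpow, ← Finset.sum_smul, hs,
    zero_smul, smul_zero]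

theorem card_roots (hr : r.Prime) (hr0 : (r : k) ≠ 0) : Nat.card (rootsOfUnity r k) = r := by
  haveI : NeZero r := ⟨hr.ne_zero⟩
  haveI : NeZero (r : k) := ⟨hr0⟩
  exact HasEnoughRootsOfUnity.natCard_rootsOfUnity k r

theorem finite_roots (hr : r.Prime) : Finite (rootsOfUnity r k) :=
  haveI : NeZero r := ⟨hr.ne_zero⟩
  inferInstance

/-- Eigenspace projections of a map of prime order form a decomposition. -/
theorem spec (hr : r.Prime) (hr0 : (r : k) ≠ 0) [Fintype (rootsOfUnity r k)] {f : Module.End k V}
    (hf : f ^ r = 1) : IsDecomp (fun a : rootsOfUnity r k => proj f a) := by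
  refine ⟨?_, fun a x => proj_of_eigen hr0 (apply_proj hf a x),
    fun a b hab x => proj_of_eigen_ne hab (apply_proj hf b x)⟩
  haveI : Fact r.Prime := ⟨hr⟩
  have hcard : Fintype.card (rootsOfUnity r k) = r := by
    rw [← Nat.card_eq_fintype_card, card_roots hr hr0]
  haveI : Nontrivial (rootsOfUnity r k) := by
    rw [← Fintype.one_lt_card_iff_nontrivial, hcard]; exact hr.one_lt
  obtain ⟨b, hb⟩ := exists_ne (1 : rootsOfUnity r k)
  simp only [proj, avg, smul_pow, ← Finset.smul_sum]
  rw [Finset.sum_comm, Finset.sum_eq_single 0]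
  · simp [hcard, ← Nat.cast_smul_eq_nsmul k, smul_smul, inv_mul_cancel₀ hr0]
  · intro i hi hi0
    rw [← Finset.sum_smul]
    have hbi : b ^ i ≠ 1 := by
      intro e
      have hb' : orderOf b = r :=
        orderOf_eq_prime ((congrArg (b ^ ·) hcard.symm).trans pow_card_eq_one) hb
      have := Nat.le_of_dvd (Nat.pos_of_ne_zero hi0) (hb' ▸ orderOf_dvd_of_pow_eq_one e)
      have := Finset.mem_range.1 hi
      omega
    set S : k := ∑ a : rootsOfUnity r k, ((((a : kˣ) : k))⁻¹) ^ i with hS
    have h1 : ((((b : kˣ) : k))⁻¹) ^ i * S = S := by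
      rw [hS, Finset.mul_sum]
      refine Fintype.sum_equiv (Equiv.mulLeft b) _ _ fun a => ?_
      simp [mul_pow, mul_comm]
    have h2 : ((((b : kˣ) : k))⁻¹) ^ i ≠ 1 := fun e => hbi (root_ext (by
      rw [inv_pow, inv_eq_one] at e
      simpa using e))
    have h3 : S = 0 := by
      have : (((((b : kˣ) : k))⁻¹) ^ i - 1) * S = 0 := by rw [sub_mul, h1, one_mul, sub_self]
      exact (mul_eq_zero.1 this).resolve_left (sub_ne_zero.2 h2)
    rw [h3, zero_smul]
  · intro h
    exact absurd (Finset.mem_range.2 hr.pos) h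

/-- Joint eigenspace projections of two commuting maps of prime order. -/
theorem spec_two (hr : r.Prime) (hr0 : (r : k) ≠ 0) [Fintype (rootsOfUnity r k)]
    {F G : Module.End k V} (hF : F ^ r = 1) (hG : G ^ r = 1) (hc : Commute F G) :
    IsDecomp (fun ab : rootsOfUnity r k × rootsOfUnity r k => proj F ab.1 * proj G ab.2) := by
  have hFG : ∀ (a b : rootsOfUnity r k) (v : V), F (proj G b (proj F a v)) = ((a : kˣ) : k) • proj G b (proj F a v) := by
    intro a b v
    rw [← Module.End.mul_apply, (commute_proj hc b).eq, Module.End.mul_apply, apply_proj hF,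
      map_smul]
  have hGF : ∀ (a b : rootsOfUnity r k) (v : V), G (proj F a (proj G b v)) = ((b : kˣ) : k) • proj F a (proj G b v) := by
    intro a b v
    rw [← Module.End.mul_apply, (commute_proj hc.symm a).eq, Module.End.mul_apply, apply_proj hG,
      map_smul]
  refine ⟨?_, ?_, ?_⟩
  · rw [Fintype.sum_prod_type]
    show ∑ a, ∑ b, proj F a * proj G b = 1
    simp only [← Finset.mul_sum]
    rw [(spec hr hr0 hG).1]
    simp only [mul_one]
    exact (spec hr hr0 hF).1
  · rintro ⟨a, b⟩ v
    simp only [Module.End.mul_apply]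
    rw [proj_of_eigen hr0 (hGF a b v), proj_of_eigen hr0 (apply_proj hF a _)]
  · rintro ⟨a, b⟩ ⟨a', b'⟩ hne v
    simp only [Module.End.mul_apply]
    by_cases hb : b = b'
    · subst hb
      have ha : a ≠ a' := fun e => hne (by rw [e])
      rw [proj_of_eigen hr0 (hGF a' b v), proj_of_eigen_ne ha (apply_proj hF a' _)]
    · rw [proj_of_eigen_ne hb (hGF a' b' v), map_zero]

theorem mem_range_spec_two (hr0 : (r : k) ≠ 0) {F G : Module.End k V} (hF : F ^ r = 1)
    (hG : G ^ r = 1) (hc : Commute F G) {a b : rootsOfUnity r k} {v : V} :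
    v ∈ LinearMap.range (proj F a * proj G b) ↔
      F v = ((a : kˣ) : k) • v ∧ G v = ((b : kˣ) : k) • v := by
  constructor
  · rintro ⟨u, rfl⟩
    simp only [Module.End.mul_apply]
    refine ⟨apply_proj hF a _, ?_⟩
    rw [← Module.End.mul_apply, (commute_proj hc.symm a).eq, Module.End.mul_apply, apply_proj hG,
      map_smul]
  · rintro ⟨h1, h2⟩
    exact ⟨v, by rw [Module.End.mul_apply, proj_of_eigen hr0 h2, proj_of_eigen hr0 h1]⟩

/-- The joint fixed space. -/
theorem range_spec_two_one (hr0 : (r : k) ≠ 0) {F G : Module.End k V} (hF : F ^ r = 1)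
    (hG : G ^ r = 1) (hc : Commute F G) :
    LinearMap.range (proj F (1 : rootsOfUnity r k) * proj G (1 : rootsOfUnity r k)) =
      LinearMap.ker (F - 1) ⊓ LinearMap.ker (G - 1) := by
  ext v
  rw [mem_range_spec_two hr0 hF hG hc, Submodule.mem_inf, mem_fix, mem_fix]
  simp

variable [FiniteDimensional k V]

/-- `f` of order three acting fixed point freely on `⟨F, G⟩`. -/
theorem threeCycle (hr : r.Prime) (hr3 : r ≠ 3) (hr0 : (r : k) ≠ 0) {F G f : Module.End k V}
    (hF : F ^ r = 1) (hG : G ^ r = 1) (hc : Commute F G) (hf : f ^ 3 = 1) (h1 : f * F = G * f)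
    (h2 : F * (G * (f * G)) = f) :
    finrank k V ≤ finrank k ↥(LinearMap.ker (F - 1) ⊓ LinearMap.ker (G - 1)) + 3 * fx f ∧
      3 * fx f ≤
        finrank k V + 2 * finrank k ↥(LinearMap.ker (F - 1) ⊓ LinearMap.ker (G - 1)) := by
  haveI := finite_roots (k := k) hr
  haveI := Fintype.ofFinite (rootsOfUnity r k)
  haveI : Fact r.Prime := ⟨hr⟩
  have hπ := spec_two hr hr0 hF hG hc
  let σ : rootsOfUnity r k × rootsOfUnity r k → rootsOfUnity r k × rootsOfUnity r k :=
    fun ab => ((ab.1 * ab.2)⁻¹, ab.1)
  have hσ : ∀ i, σ (σ (σ i)) = i := by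
    rintro ⟨a, b⟩
    simp [σ, mul_inv_rev, mul_comm, mul_assoc]
  have hfix : ∀ i, σ i = i ↔ i = (1, 1) := by
    rintro ⟨a, b⟩
    refine ⟨fun h => ?_, fun h => by rw [h]; simp [σ]⟩
    simp only [σ, Prod.mk.injEq] at h ⊢
    obtain ⟨ha, rfl⟩ := h
    have h3 : a ^ 3 = 1 := by
      rw [pow_succ, pow_two]
      exact inv_eq_iff_mul_eq_one.1 ha
    have hd := orderOf_dvd_of_pow_eq_one h3
    have hd' : orderOf a ∣ r := by
      have := orderOf_dvd_natCard a
      rwa [card_roots hr hr0] at this
    have : a = 1 := orderOf_eq_one_iff.1 (Nat.eq_one_of_dvd_coprimes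
      ((Nat.coprime_primes Nat.prime_three hr).2 (Ne.symm hr3)) hd hd')
    exact ⟨this, this⟩
  have hmap : ∀ (a b : rootsOfUnity r k) (x : V), x ∈ LinearMap.range (proj F a * proj G b) →
      f x ∈ LinearMap.range (proj F (σ (a, b)).1 * proj G (σ (a, b)).2) := by
    intro a b x hx
    obtain ⟨hx1, hx2⟩ := (mem_range_spec_two hr0 hF hG hc).1 hx
    rw [mem_range_spec_two hr0 hF hG hc]
    have hGf : G (f x) = ((a : kˣ) : k) • f x := by
      rw [← Module.End.mul_apply, ← h1, Module.End.mul_apply, hx1, map_smul]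
    refine ⟨?_, hGf⟩
    have h := LinearMap.congr_fun h2 x
    simp only [Module.End.mul_apply, hx2, map_smul, hGf, smul_smul] at h
    simp only [σ, InvMemClass.coe_inv, Units.val_inv_eq_inv_val, MulMemClass.coe_mul, Units.val_mul]
    rw [eq_inv_smul_iff₀ (mul_ne_zero (root_ne_zero a) (root_ne_zero b)), mul_comm]
    exact h
  have hσinj : Function.Injective σ := fun u v e => by rw [← hσ u, e, hσ]
  have hint : ∀ (i : rootsOfUnity r k × rootsOfUnity r k) (v : V),
      f ((proj F i.1 * proj G i.2) v) = (proj F (σ i).1 * proj G (σ i).2) (f v) := by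
    intro i v
    conv_rhs => rw [← hπ.sum_apply v, map_sum, map_sum]
    rw [Finset.sum_eq_single i]
    · exact (hπ.apply_self (i := σ i) (hmap i.1 i.2 _ (LinearMap.mem_range_self _ _))).symm
    · intro j _ hj
      exact hπ.apply_other (i := σ i) (j := σ j) (fun e => hj (hσinj e).symm)
        (hmap j.1 j.2 _ (LinearMap.mem_range_self _ _))
    · intro h
      exact absurd (Finset.mem_univ i) h
  rw [← range_spec_two_one hr0 hF hG hc]
  exact perm_bounds hπ hf σ hσ (1, 1) hfix hint

/-- Injective maps carrying the joint fixed space into every joint eigenspace. -/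
theorem sq_mul_le (hr : r.Prime) (hr0 : (r : k) ≠ 0) {F G : Module.End k V} (hF : F ^ r = 1)
    (hG : G ^ r = 1) (hc : Commute F G)
    (hshift : ∀ a b : rootsOfUnity r k, ∃ T : Module.End k V, Function.Injective T ∧
      ∀ v, F v = v → G v = v → F (T v) = ((a : kˣ) : k) • T v ∧ G (T v) = ((b : kˣ) : k) • T v) :
    r ^ 2 * finrank k ↥(LinearMap.ker (F - 1) ⊓ LinearMap.ker (G - 1)) ≤ finrank k V := by
  haveI := finite_roots (k := k) hr
  haveI := Fintype.ofFinite (rootsOfUnity r k)
  rw [(spec_two hr hr0 hF hG hc).finrank_eq]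
  refine le_trans (le_of_eq ?_) (Finset.card_nsmul_le_sum _ _
    (finrank k ↥(LinearMap.ker (F - 1) ⊓ LinearMap.ker (G - 1))) ?_)
  · rw [Finset.card_univ, smul_eq_mul, Fintype.card_prod, ← Nat.card_eq_fintype_card,
      card_roots hr hr0, pow_two]
  · rintro ⟨a, b⟩ -
    obtain ⟨T, hT, hTv⟩ := hshift a b
    let φ : ↥(LinearMap.ker (F - 1) ⊓ LinearMap.ker (G - 1)) →ₗ[k]
        LinearMap.range (proj F a * proj G b) :=
      T.restrict fun v hv => (mem_range_spec_two hr0 hF hG hc).2
        (hTv v (mem_fix.1 hv.1) (mem_fix.1 hv.2))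
    exact LinearMap.finrank_le_finrank_of_injective (f := φ)
      fun u v e => Subtype.ext (hT (congrArg Subtype.val e))

end Spectral

end CfsgLib.FixSixth
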