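import Cfsg.Agent.FixSixth.Elements
import Cfsg.Agent.Solvable.Frattini

/-!
# Lifts of elements of `SL₂(p)`

An element whose order is prime to the orders in the kernel lifts to an element of the same order.
If the kernel consists of `p`-elements, a lift `t` of a torus element normalizes some cyclic `p`-group
mapping onto the unipotent group: it is generated inside a minimal `t`-invariant subgroup over it by
an eigenvector in its Frattini quotient.
-/

set_option autoImplicit false
set_option linter.unusedSectionVars false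
set_option linter.style.haveILetI false

namespace CfsgLib.FixSixth

open Matrix
open scoped MatrixGroups

variable {X : Type*} [Group X] [Finite X]

/-- Lifting with the same order. -/
theorem exists_lift_of_coprime {H : Type*} [Group H] (π : X →* H) (hπ : Function.Surjective π) {m : ℕ}
    (hm : ∀ x, π x = 1 → (orderOf x).Coprime m) {g : H} (hg : g ^ m = 1) :
    ∃ x, π x = g ∧ x ^ m = 1 := by
  obtain ⟨x, rfl⟩ := hπ g
  obtain ⟨c, hc0, hc1⟩ := Nat.chineseRemainder (hm (x ^ m) (by rw [map_pow, hg])) 0 1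
  refine ⟨x ^ c, ?_, ?_⟩
  · rw [map_pow]
    conv_rhs => rw [← pow_one (π x)]
    exact pow_eq_pow_iff_modEq.2 (hc1.of_dvd (orderOf_dvd_of_pow_eq_one hg))
  · rw [← pow_mul, mul_comm, pow_mul]
    exact orderOf_dvd_iff_pow_eq_one.1 (Nat.modEq_zero_iff_dvd.1 hc0)

variable {p : ℕ} [Fact p.Prime]

/-- An element of order prime to `p` normalizing the preimage of the unipotent group normalizes some
cyclic `p`-subgroup over it. -/
theorem exists_unipotent_lift (π : X →* SL(2, ZMod p)) (hπ : Function.Surjective π)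
    (hker : ∀ x, π x = 1 → ∃ n : ℕ, x ^ p ^ n = 1) {γ : (ZMod p)ˣ} {t : X} (ht : π t = tor γ)
    (htp : t ^ (p - 1) = 1) :
    ∃ (u : X) (e N : ℕ), π u = up 1 ∧ u ^ p ^ N = 1 ∧ t * u = u ^ e * t ∧
      (e : ZMod p) = (γ : ZMod p) ^ 2 := by
  classical
  have hpp : p.Prime := Fact.out
  -- the preimage of the unipotent group
  set P : Subgroup X := (Subgroup.zpowers (up 1 : SL(2, ZMod p))).comap π with hP
  have hupP : ∀ c : ZMod p, up c ∈ Subgroup.zpowers (up 1 : SL(2, ZMod p)) := fun c => by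
    rw [up_val c]; exact pow_mem (Subgroup.mem_zpowers (up 1 : SL(2, ZMod p))) _
  have hupz : ∀ n : ℤ, (up 1 : SL(2, ZMod p)) ^ n = up (n : ZMod p) := fun n => by
    obtain ⟨m, rfl | rfl⟩ := n.eq_nat_or_neg
    · rw [zpow_natCast, Int.cast_natCast, up_natCast]
    · rw [_root_.zpow_neg, zpow_natCast, Int.cast_neg, Int.cast_natCast, ← up_natCast, up_inv]
  have hup01 : ∀ g ∈ Subgroup.zpowers (up 1 : SL(2, ZMod p)), g = up (g 0 1) := by
    intro g hg
    obtain ⟨n, rfl⟩ := Subgroup.mem_zpowers_iff.1 hg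
    rw [hupz]
    simp [coe_up]
  have hPp : ∀ x ∈ P, ∃ n : ℕ, x ^ p ^ n = 1 := by
    intro x hx
    obtain ⟨n, hn⟩ := hker (x ^ p) (by
      rw [map_pow, hup01 _ hx, up_val, ← pow_mul, mul_comm, pow_mul, ← up_natCast, ZMod.natCast_self,
        up_zero, one_pow])
    exact ⟨n + 1, by rw [pow_succ', pow_mul, hn]⟩
  -- a minimal invariant subgroup over the unipotent group
  obtain ⟨Q, ⟨hQP, hQt, hQu⟩, hmin⟩ := WellFounded.has_min
    (wellFounded_lt : WellFounded ((· < ·) : Subgroup X → Subgroup X → Prop))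
    {Q : Subgroup X | Q ≤ P ∧ (∀ x ∈ Q, t * x * t⁻¹ ∈ Q) ∧ ∃ x ∈ Q, π x = up 1}
    ⟨P, le_rfl, fun x hx => by
      rw [hP, Subgroup.mem_comap] at hx ⊢
      rw [map_mul, map_mul, map_inv, ht, hup01 _ hx, tor_conj_up, mul_inv_cancel_right]
      exact hupP _, by
      obtain ⟨x, hx⟩ := hπ (up 1)
      exact ⟨x, by rw [hP, Subgroup.mem_comap, hx]; exact Subgroup.mem_zpowers _, hx⟩⟩
  have hQp : IsPGroup p Q := fun x => by
    obtain ⟨n, hn⟩ := hPp x (hQP x.2)
    exact ⟨n, Subtype.ext hn⟩
  -- conjugation by `t` on `Q`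
  let τ : Q →* Q := ((MulAut.conj t).toMonoidHom.comp Q.subtype).codRestrict Q fun x => hQt x x.2
  have hτ : ∀ x : Q, (τ x : X) = t * x * t⁻¹ := fun x => rfl
  have hτi : Function.Injective τ := fun a b h => by
    have := congrArg Subtype.val h
    rw [hτ, hτ, mul_left_inj, mul_right_inj] at this
    exact Subtype.ext this
  have hτΦ : frattini Q ≤ (frattini Q).comap τ :=
    frattini_le_comap_frattini_of_surjective (Finite.surjective_of_injective hτi)
  -- the upper entry
  let ψ : Q →* Multiplicative (ZMod p) :=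
    { toFun := fun x => Multiplicative.ofAdd (π x 0 1)
      map_one' := by simp
      map_mul' := fun a b => by
        rw [← ofAdd_add]
        congr 1
        rw [Subgroup.coe_mul, map_mul, hup01 _ (hQP a.2), hup01 _ (hQP b.2), ← up_add]
        simp [coe_up] }
  have hψ : ∀ x : Q, π x = up (ψ x).toAdd := fun x => hup01 _ (hQP x.2)
  have hψΦ : frattini Q ≤ ψ.ker := CfsgLib.Solvable.frattini_le_of_elementary (p := p)
    (Abelianization.commutator_subset_ker ψ) fun x => by
      rw [MonoidHom.mem_ker, map_pow]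
      exact Multiplicative.toAdd.injective (by simp)
  set A := Q ⧸ frattini Q
  let q : Q →* A := QuotientGroup.mk' _
  have hcommA : ∀ a b : A, a * b = b * a := fun a b => by
    obtain ⟨x, rfl⟩ := QuotientGroup.mk'_surjective _ a
    obtain ⟨y, rfl⟩ := QuotientGroup.mk'_surjective _ b
    rw [← commutatorElement_eq_one_iff_mul_comm, ← map_commutatorElement, QuotientGroup.mk'_apply,
      QuotientGroup.eq_one_iff]
    exact CfsgLib.Solvable.commutator_le_frattini hQp
      (Subgroup.commutator_mem_commutator (Subgroup.mem_top x) (Subgroup.mem_top y))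
  letI : CommGroup A := { (inferInstance : Group A) with mul_comm := hcommA }
  have hexp : ∀ a : A, a ^ p = 1 := fun a => by
    obtain ⟨x, rfl⟩ := QuotientGroup.mk'_surjective _ a
    rw [← map_pow, QuotientGroup.mk'_apply, QuotientGroup.eq_one_iff]
    exact CfsgLib.Solvable.pow_mem_frattini hQp x
  let τA : A →* A := QuotientGroup.map _ _ τ hτΦ
  let φ : A →* Multiplicative (ZMod p) := QuotientGroup.lift _ ψ hψΦ
  obtain ⟨a, ha, hau⟩ := hQu
  have hQpow : ∀ i : ℕ, t ^ i * a * (t ^ i)⁻¹ ∈ Q := fun i => by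
    induction i with
    | zero => simpa using ha
    | succ i ih => simpa [pow_succ', mul_assoc] using hQt _ ih
  let F : ℕ → A := fun i => q ⟨t ^ i * a * (t ^ i)⁻¹, hQpow i⟩
  have hFsucc : ∀ i, τA (F i) = F (i + 1) := fun i => by
    show q (τ _) = q _
    congr 1
    exact Subtype.ext (by rw [hτ]; simp [pow_succ', mul_assoc])
  have hFper : F (p - 1) = F 0 := by
    show q _ = q _
    congr 1
    exact Subtype.ext (show t ^ (p - 1) * a * (t ^ (p - 1))⁻¹ = t ^ 0 * a * (t ^ 0)⁻¹ by rw [htp, pow_zero])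
  have hφF : ∀ i, φ (F i) = Multiplicative.ofAdd ((γ : ZMod p) ^ (2 * i)) := fun i => by
    show Multiplicative.ofAdd (π (t ^ i * a * (t ^ i)⁻¹) 0 1) = _
    congr 1
    rw [map_mul, map_mul, map_inv, map_pow, ht, hau]
    have h1 : ∀ i : ℕ, tor γ ^ i = (tor (γ ^ i) : SL(2, ZMod p)) := fun i => by
      induction i with
      | zero => rw [pow_zero, pow_zero, tor_one]
      | succ i ih => rw [pow_succ, pow_succ, ih, tor_mul]
    rw [h1, tor_conj_up, mul_inv_cancel_right]
    simp [coe_up, pow_mul']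
  -- the eigenvector
  set c : ℕ → ℕ := fun i => (-(((γ ^ 2)⁻¹ : (ZMod p)ˣ) : ZMod p) ^ i).val with hc
  set b : A := ∏ i ∈ Finset.range (p - 1), F i ^ c i with hb
  have hφb : φ b = Multiplicative.ofAdd 1 := by
    rw [hb, map_prod]
    simp only [map_pow, hφF, ← ofAdd_nsmul]
    rw [← ofAdd_sum]
    congr 1
    simp only [hc, nsmul_eq_mul, ZMod.natCast_val, ZMod.cast_id]
    rw [Finset.sum_congr rfl (g := fun _ => (-1 : ZMod p)) fun i _ => ?_]
    · rw [Finset.sum_const, Finset.card_range, nsmul_eq_mul, Nat.cast_sub hpp.one_le, ZMod.natCast_self]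
      ring
    · rw [neg_mul, neg_inj, pow_mul, ← Units.val_pow_eq_pow_val γ, ← Units.val_pow_eq_pow_val,
        ← Units.val_pow_eq_pow_val, ← Units.val_mul, ← mul_pow, inv_mul_cancel, one_pow, Units.val_one]
  set e := ((γ : ZMod p) ^ 2).val with he
  have hexp' : ∀ (x : A) {m n : ℕ}, (m : ZMod p) = n → x ^ m = x ^ n := fun x m n h =>
    pow_eq_pow_iff_modEq.2 (((ZMod.natCast_eq_natCast_iff _ _ _).1 h).of_dvd
      (orderOf_dvd_of_pow_eq_one (hexp x)))
  have hτb : τA b = b ^ e := by
    rw [hb, map_prod, ← Finset.prod_pow]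
    simp only [map_pow, hFsucc, ← pow_mul]
    have hshift : ∀ G : ℕ → A, G (p - 1) = G 0 →
        ∏ i ∈ Finset.range (p - 1), G (i + 1) = ∏ i ∈ Finset.range (p - 1), G i := fun G hG => by
      have h1 := Finset.prod_range_succ' G (p - 1)
      rw [Finset.prod_range_succ, hG] at h1
      exact (mul_right_cancel h1).symm
    rw [← hshift (fun i => F i ^ (c i * e)) (by
      show F (p - 1) ^ (c (p - 1) * e) = F 0 ^ (c 0 * e)
      rw [hFper]
      refine hexp' _ ?_
      simp only [hc, Nat.cast_mul, ZMod.natCast_val, ZMod.cast_id]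
      rw [← Units.val_pow_eq_pow_val, ← Units.val_pow_eq_pow_val,
        ZMod.units_pow_card_sub_one_eq_one, pow_zero])]
    refine Finset.prod_congr rfl fun i _ => hexp' _ ?_
    simp only [hc, he, Nat.cast_mul, ZMod.natCast_val, ZMod.cast_id]
    rw [neg_mul, neg_inj, pow_succ _ i, mul_assoc, ← Units.val_pow_eq_pow_val γ, ← Units.val_mul,
      inv_mul_cancel, Units.val_one, mul_one]
  -- its lift generates
  obtain ⟨x, hx⟩ := QuotientGroup.mk'_surjective _ b
  have hxu : π (x : X) = up 1 := by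
    rw [hψ x]
    congr 1
    have : φ (q x) = ψ x := rfl
    rw [← this, hx, hφb]
    rfl
  set K : Subgroup Q := Subgroup.zpowers x ⊔ frattini Q with hK
  have hKτ : K ≤ K.comap τ := by
    refine sup_le ?_ (hτΦ.trans (Subgroup.comap_mono le_sup_right))
    rw [Subgroup.zpowers_le, Subgroup.mem_comap]
    have hmem : (x ^ e)⁻¹ * τ x ∈ frattini Q := by
      rw [← QuotientGroup.eq]
      show q (x ^ e) = q (τ x)
      rw [map_pow, hx, ← hτb, ← hx]
      rfl
    have : τ x = x ^ e * ((x ^ e)⁻¹ * τ x) := by rw [mul_inv_cancel_left]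
    rw [this]
    exact mul_mem (le_sup_left (b := frattini Q) (pow_mem (Subgroup.mem_zpowers x) e))
      (le_sup_right (a := Subgroup.zpowers x) hmem)
  have hKQ : K.map Q.subtype = Q := by
    by_contra hne
    refine hmin (K.map Q.subtype) ⟨(Subgroup.map_subtype_le K).trans hQP, ?_, (x : X),
      ⟨x, le_sup_left (b := frattini Q) (Subgroup.mem_zpowers x), rfl⟩, hxu⟩
      ((Subgroup.map_subtype_le K).lt_of_ne hne)
    rintro _ ⟨y, hy, rfl⟩
    exact ⟨τ y, hKτ hy, hτ y⟩
  have hKtop : Subgroup.zpowers x = ⊤ := by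
    refine frattini_nongenerating (eq_top_iff.2 fun y _ => ?_)
    have hy : (y : X) ∈ K.map Q.subtype := by rw [hKQ]; exact y.2
    obtain ⟨z, hz, hzy⟩ := hy
    rwa [← Subtype.ext hzy]
  obtain ⟨j, hj⟩ := mem_zpowers_iff_mem_range_orderOf.1
    (show τ x ∈ Subgroup.zpowers x by rw [hKtop]; exact Subgroup.mem_top _) |> fun h =>
      Finset.mem_image.1 h |>.imp fun _ h => h.2
  obtain ⟨N, hN⟩ := hPp x (hQP x.2)
  have htx : t * x = (x : X) ^ j * t := by
    have := congrArg Subtype.val hj
    rw [hτ, SubmonoidClass.coe_pow] at this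
    rw [this, inv_mul_cancel_right]
  refine ⟨x, j, N, hxu, hN, htx, ?_⟩
  have h1 := congrArg π htx
  rw [map_mul, map_mul, map_pow, ht, hxu, tor_conj_up, mul_one, ← up_natCast, mul_left_inj] at h1
  have h2 := congrArg (fun g : SL(2, ZMod p) => g 0 1) h1
  simp [coe_up] at h2
  exact h2.symm

end CfsgLib.FixSixth
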