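import Cfsg.Agent.FixSixth.OfCover


/-!
# Some element fixes a sixth of the module
-/

set_option autoImplicit false
set_option linter.unusedSectionVars false

namespace CfsgLib.FixSixth

open Module
open scoped MatrixGroups

universe u w

/-- Reduction of the bound over any field to the existence of a covering of some `SL₂(p)`. -/
theorem exists_large {H : Type u} [Group H] [Finite H] [Nontrivial H] {K : Type w} [Field K]
    {V : Type*} [AddCommGroup V] [Module K V] [FiniteDimensional K V] (ρ : Representation K H V)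
    (hcover : ∀ (k : Type w) [Field k] [IsAlgClosed k] (n : ℕ) (σ : Representation k H (Fin n → k)),
      (∀ h : H, h ≠ 1 → 6 * fx (σ h) < finrank k (Fin n → k)) →
      ∃ (p : ℕ) (_ : Fact p.Prime) (X : Subgroup H) (π : X →* SL(2, ZMod p)),
        7 ≤ p ∧ Function.Surjective π ∧ (2 : k) ≠ 0 ∧ (3 : k) ≠ 0 ∧
        ∀ x : X, π x = 1 → ∀ r : ℕ, r.Prime → r ∣ orderOf x → (r : k) = 0) :
    ∃ h : H, h ≠ 1 ∧ finrank K V ≤ 6 * fx (ρ h) := by
  by_contra hcon
  push Not at hcon
  obtain ⟨τ, hτ⟩ := exists_base_change (algebraMap K (AlgebraicClosure K)) ρ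
  have hsmall : ∀ h : H, h ≠ 1 →
      6 * fx (τ h) < finrank (AlgebraicClosure K) (Fin (finrank K V) → AlgebraicClosure K) := fun h hh => by
    rw [hτ, finrank_fin_fun]; exact hcon h hh
  obtain ⟨p, _, X, π, hp7, hπ, h2, h3, hker⟩ := hcover _ _ τ hsmall
  obtain ⟨h, hh1, hh⟩ := exists_large_of_cover hp7 π hπ h2 h3 hker (τ.comp X.subtype)
  exact absurd (hsmall h fun e => hh1 (Subtype.ext e)) (not_lt.2 hh)

end CfsgLib.FixSixth
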