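import Cfsg.Agent.FixSixth.Idem
import Cfsg.Agent.OddOrder.BG1Stab

/-!
# An element of order three centralises the `r`-subgroups it normalises

`moved`: for a representation all of whose nontrivial elements fix less than a sixth of the
space, an element of order dividing three centralises every `r`-subgroup it normalises when
`r ≥ 7` and `r`, `3` are invertible in the field.
-/

set_option autoImplicit false
set_option linter.unusedSectionVars false

namespace CfsgLib.FixSixth

open Module
open scoped commutatorElement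

/-- The numerical step: the trivial eigenvalue of `W` occupies at least a fifth. -/
theorem le_five_mul {r m R S Q A m0 : ℕ} (hr : 7 ≤ r) (h1 : 3 * A ≤ m ^ 2 + 2 * Q)
    (h2 : r ^ 2 * Q ≤ m ^ 2) (h3 : m0 ^ 2 + S ≤ A) (h4 : R ^ 2 ≤ 2 * S) (h5 : m = m0 + R) :
    m ≤ 5 * m0 := by
  have h49 : 49 * Q ≤ m ^ 2 := le_trans (Nat.mul_le_mul_right _ (by nlinarith)) h2
  by_contra hc
  have hR : 4 * m0 < R := by omega
  subst h5
  nlinarith

variable {k : Type*} [Field k] [IsAlgClosed k] {V : Type*} [AddCommGroup V] [Module k V]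
  [FiniteDimensional k V]

/-- A fixed point of conjugation gives endomorphisms of every eigenspace. -/
theorem sum_sq_le_fx {G : Type*} [Group G] (τ : Representation k G V) {w : G} (hw : w ^ 3 = 1)
    (h3 : (3 : k) ≠ 0) [Fintype (rootsOfUnity 3 k)] :
    ∑ a : rootsOfUnity 3 k, finrank k (LinearMap.range (proj (τ w) a)) ^ 2 ≤
      fx (Representation.linHom τ τ w) := by
  have hr0 : ((3 : ℕ) : k) ≠ 0 := by exact_mod_cast h3
  have hW : τ w ^ 3 = 1 := by rw [← map_pow, hw, map_one]
  have hπ := spec Nat.prime_three hr0 hW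
  have hinv : ∀ u, τ w (τ w⁻¹ u) = u := fun u => by
    rw [← Module.End.mul_apply, ← map_mul, mul_inv_cancel, map_one, Module.End.one_apply]
  let Φ : (Π a : rootsOfUnity 3 k, Module.End k (LinearMap.range (proj (τ w) a))) →ₗ[k]
      Module.End k V :=
    { toFun := fun X => ∑ a, (LinearMap.range (proj (τ w) a)).subtype ∘ₗ X a ∘ₗ
        (proj (τ w) a).rangeRestrict
      map_add' := fun X Y => by
        simp only [Pi.add_apply, LinearMap.add_comp, LinearMap.comp_add, Finset.sum_add_distrib]
      map_smul' := fun c X => by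
        simp only [Pi.smul_apply, LinearMap.smul_comp, LinearMap.comp_smul, Finset.smul_sum,
          RingHom.id_apply] }
  have happ : ∀ X v, Φ X v = ∑ a : rootsOfUnity 3 k,
      ((X a ⟨proj (τ w) a v, LinearMap.mem_range_self _ _⟩ : LinearMap.range (proj (τ w) a)) : V) :=
    fun X v => by simp [Φ, LinearMap.rangeRestrict]; rfl
  have heig : ∀ (a : rootsOfUnity 3 k) (x : LinearMap.range (proj (τ w) a)),
      τ w (x : V) = ((a : kˣ) : k) • (x : V) := by
    rintro a ⟨-, u, rfl⟩
    exact apply_proj hW a u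
  have hcomm : ∀ X v, τ w (Φ X v) = Φ X (τ w v) := fun X v => by
    rw [happ, happ, map_sum]
    refine Finset.sum_congr rfl fun a _ => ?_
    have e : (⟨proj (τ w) a (τ w v), LinearMap.mem_range_self _ _⟩ : LinearMap.range (proj (τ w) a)) =
        ((a : kˣ) : k) • ⟨proj (τ w) a v, LinearMap.mem_range_self _ _⟩ := by
      refine Subtype.ext ?_
      show proj (τ w) a (τ w v) = ((a : kˣ) : k) • proj (τ w) a v
      rw [← Module.End.mul_apply, ← (commute_proj (Commute.refl (τ w)) a).eq, Module.End.mul_apply,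
        apply_proj hW]
    rw [e, map_smul, Submodule.coe_smul, heig]
  let Ψ := Φ.codRestrict (LinearMap.ker (Representation.linHom τ τ w - 1)) fun X => mem_fix.2 (by
    refine LinearMap.ext fun v => ?_
    rw [Representation.linHom_apply]
    simp only [LinearMap.comp_apply]
    rw [hcomm, hinv])
  have hinj : Function.Injective Ψ := by
    rw [injective_iff_map_eq_zero]
    intro X hX
    funext a
    refine LinearMap.ext fun x => Subtype.ext ?_
    have h0 := congrArg
      (fun Y : LinearMap.ker (Representation.linHom τ τ w - 1) => (Y : Module.End k V) (x : V)) hX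
    simp only [Ψ, LinearMap.codRestrict_apply, ZeroMemClass.coe_zero, LinearMap.zero_apply] at h0
    rw [happ, Finset.sum_eq_single a] at h0
    · have e : (⟨proj (τ w) a (x : V), LinearMap.mem_range_self _ _⟩ :
          LinearMap.range (proj (τ w) a)) = x := Subtype.ext (hπ.apply_self (i := a) x.2)
      rw [e] at h0
      simpa using h0
    · intro b _ hb
      have e : (⟨proj (τ w) b (x : V), LinearMap.mem_range_self _ _⟩ :
          LinearMap.range (proj (τ w) b)) = 0 :=
        Subtype.ext (hπ.apply_other (i := b) (j := a) hb x.2)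
      rw [e, map_zero, ZeroMemClass.coe_zero]
    · simp
  have h := LinearMap.finrank_le_finrank_of_injective hinj
  rw [Module.finrank_pi_fintype] at h
  refine le_trans (le_of_eq (Finset.sum_congr rfl fun a _ => ?_)) h
  rw [Module.finrank_linearMap, pow_two]

theorem range_proj_one {r : ℕ} (hr0 : (r : k) ≠ 0) {f : Module.End k V} (hf : f ^ r = 1) :
    LinearMap.range (proj f (1 : rootsOfUnity r k)) = LinearMap.ker (f - 1) := by
  ext v
  rw [mem_fix]
  constructor
  · rintro ⟨u, rfl⟩; simpa using apply_proj hf (1 : rootsOfUnity r k) u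
  · intro hv
    exact ⟨v, proj_of_eigen hr0 (by simpa using hv)⟩

/-- The extraspecial case on one eigenspace of the central element. -/
theorem eigen_bound {r : ℕ} (hr : r.Prime) (hr7 : 7 ≤ r) (hr0 : (r : k) ≠ 0) (h3 : (3 : k) ≠ 0)
    {G : Type*} [Group G] (τ : Representation k G V) {c e e1 w : G} (he : e ^ r = 1)
    (he1 : e1 ^ r = 1) (hw : w ^ 3 = 1) (hce : Commute c e) (hce1 : Commute c e1)
    (hc : e * e1 = c * (e1 * e)) (hwe : w * e = e1 * w) (hwe2 : e * (e1 * (w * e1)) = w)
    (a : rootsOfUnity r k) (ha : a ≠ 1) (hca : ∀ v, τ c v = ((a : kˣ) : k) • v) :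
    finrank k V ≤ 5 * fx (τ w) := by
  classical
  haveI : Fact r.Prime := ⟨hr⟩
  haveI := finite_roots (k := k) hr
  haveI := Fintype.ofFinite (rootsOfUnity r k)
  haveI := finite_roots (k := k) Nat.prime_three
  haveI := Fintype.ofFinite (rootsOfUnity 3 k)
  have h30 : ((3 : ℕ) : k) ≠ 0 := by exact_mod_cast h3
  set A := Representation.linHom τ τ with hA
  have hAp : ∀ g X, A g X = τ g * X * τ g⁻¹ := fun g X => by
    rw [hA, Representation.linHom_apply, Module.End.mul_eq_comp, Module.End.mul_eq_comp,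
      LinearMap.comp_assoc]
  have hτc : τ c = ((a : kˣ) : k) • (1 : Module.End k V) := LinearMap.ext fun v => by
    rw [hca, LinearMap.smul_apply, Module.End.one_apply]
  have hAc : A c = 1 := LinearMap.ext fun X => by
    have hcX : τ c * X = X * τ c := by
      rw [hτc, smul_mul_assoc, one_mul, mul_smul_comm, mul_one]
    rw [hAp, Module.End.one_apply, hcX, mul_assoc, ← map_mul, mul_inv_cancel, map_one, mul_one]
  have hAF : A e ^ r = 1 := by rw [← map_pow, he, map_one]
  have hAG : A e1 ^ r = 1 := by rw [← map_pow, he1, map_one]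
  have hAW : A w ^ 3 = 1 := by rw [← map_pow, hw, map_one]
  have hFG : Commute (A e) (A e1) := by
    show A e * A e1 = A e1 * A e
    rw [← map_mul, ← map_mul, hc, map_mul A c, hAc, one_mul]
  have hb1 := (threeCycle hr (by omega) hr0 hAF hAG hFG hAW
    (by rw [← map_mul, ← map_mul, hwe]) (by rw [← map_mul, ← map_mul, ← map_mul, hwe2])).2
  -- left multiplications shift the joint eigenspaces of conjugation
  have hce1' : e * e1 * e⁻¹ = c * e1 := by rw [hc]; group
  have hce' : e1 * e * e1⁻¹ = c⁻¹ * e := by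
    rw [show e1 * e = c⁻¹ * (e * e1) by rw [hc]; group]
    group
  have horder : orderOf a = r := by
    refine orderOf_eq_prime ?_ ha
    have := pow_card_eq_one' (G := rootsOfUnity r k) (x := a)
    rwa [card_roots hr hr0] at this
  have hgen : ∀ b : rootsOfUnity r k, ∃ n : ℕ, a ^ n = b := fun b => by
    refine (isOfFinOrder_of_finite a).mem_powers_iff_mem_zpowers.2 ?_
    exact mem_zpowers_of_prime_card (card_roots hr hr0) ha
  have hshift : ∀ b b' : rootsOfUnity r k, ∃ T : Module.End k (Module.End k V),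
      Function.Injective T ∧ ∀ X, A e X = X → A e1 X = X →
        A e (T X) = ((b : kˣ) : k) • T X ∧ A e1 (T X) = ((b' : kˣ) : k) • T X := by
    intro b b'
    obtain ⟨j, hj⟩ := hgen b
    obtain ⟨i, hi⟩ := hgen b'⁻¹
    set g := e ^ i * e1 ^ j with hg
    refine ⟨LinearMap.mulLeft k (τ g), fun X Y h => ?_, fun X hX hY => ?_⟩
    · have := congrArg (τ g⁻¹ * ·) h
      simpa [← mul_assoc, ← map_mul] using this
    have hconj : ∀ z, A z (τ g * X) = τ (z * g * z⁻¹) * A z X := fun z => by
      rw [hAp, hAp]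
      simp only [← mul_assoc, ← map_mul, inv_mul_cancel_right]
    have h1 : e * g * e⁻¹ = c ^ j * g := by
      rw [hg, show e * (e ^ i * e1 ^ j) * e⁻¹ = e ^ i * (e * e1 * e⁻¹) ^ j by
        rw [conj_pow, ← mul_assoc, ← mul_assoc, ← mul_assoc, ← pow_succ', ← pow_succ], hce1',
        hce1.mul_pow, ← mul_assoc, ← mul_assoc, ((hce.pow_pow j i).symm).eq]
    have h2 : e1 * g * e1⁻¹ = (c ^ i)⁻¹ * g := by
      rw [hg, show e1 * (e ^ i * e1 ^ j) * e1⁻¹ = (e1 * e * e1⁻¹) ^ i * e1 ^ j from
        (by rw [conj_pow]; group), hce',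
        hce.inv_left.mul_pow, inv_pow, ← mul_assoc]
    have hcp : ∀ n : ℕ, τ (c ^ n) = (((a ^ n : rootsOfUnity r k) : kˣ) : k) • (1 : Module.End k V) :=
      fun n => by
        rw [map_pow, hτc, smul_pow, one_pow, SubmonoidClass.coe_pow, Units.val_pow_eq_pow_val]
    refine ⟨?_, ?_⟩
    · rw [LinearMap.mulLeft_apply, hconj, hX, h1, map_mul, hcp, hj, smul_mul_assoc, one_mul,
        smul_mul_assoc]
    · rw [LinearMap.mulLeft_apply, hconj, hY, h2, map_mul]
      have hci : τ (c ^ i)⁻¹ = ((b' : kˣ) : k) • (1 : Module.End k V) := by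
        have h0 : τ (c ^ i)⁻¹ * τ (c ^ i) = 1 := by rw [← map_mul, inv_mul_cancel, map_one]
        rw [hcp, hi, mul_smul_comm, mul_one] at h0
        simp only [InvMemClass.coe_inv, Units.val_inv_eq_inv_val] at h0
        exact (inv_smul_eq_iff₀ (root_ne_zero b')).1 h0
      rw [hci, smul_mul_assoc, one_mul, smul_mul_assoc]
  have hb2 := sq_mul_le hr hr0 hAF hAG hFG hshift
  rw [Module.finrank_linearMap] at hb1 hb2
  have hb3 := sum_sq_le_fx τ hw h3
  have hW : τ w ^ 3 = 1 := by rw [← map_pow, hw, map_one]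
  rw [← Finset.add_sum_erase _ _ (Finset.mem_univ (1 : rootsOfUnity 3 k)), range_proj_one h30 hW]
    at hb3
  have hm := (spec Nat.prime_three h30 hW).finrank_eq
  rw [← Finset.add_sum_erase _ _ (Finset.mem_univ (1 : rootsOfUnity 3 k))] at hm
  rw [range_proj_one h30 hW] at hm
  have hcs := sq_sum_le_card_mul_sum_sq (s := Finset.univ.erase (1 : rootsOfUnity 3 k))
    (f := fun b => finrank k (LinearMap.range (proj (τ w) b)))
  have hcard : (Finset.univ.erase (1 : rootsOfUnity 3 k)).card = 2 := by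
    rw [Finset.card_erase_of_mem (Finset.mem_univ _), Finset.card_univ, ← Nat.card_eq_fintype_card,
      card_roots Nat.prime_three h30]
  rw [hcard] at hcs
  exact le_five_mul hr7 (by rw [pow_two]; exact hb1) (by rw [pow_two (finrank k V)]; exact hb2) hb3
    (by exact_mod_cast hcs) hm

variable {H : Type*} [Group H] [Finite H]

/-- An element of order three centralises the `r`-subgroups it normalises. -/
theorem moved (ρ : Representation k H V)
    (hsmall : ∀ h : H, h ≠ 1 → 6 * fx (ρ h) < finrank k V) {r : ℕ} [Fact r.Prime] (hr7 : 7 ≤ r)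
    (hr0 : (r : k) ≠ 0) (h3 : (3 : k) ≠ 0) {w : H} (hw : w ^ 3 = 1) (Q : Subgroup H)
    (hQ : IsPGroup r Q) (hn : ∀ x ∈ Q, w * x * w⁻¹ ∈ Q) : ∀ x ∈ Q, Commute w x := by
  classical
  have hr : r.Prime := Fact.out
  induction Q using WellFoundedLT.induction with
  | _ Q ih =>
  rcases subsingleton_or_nontrivial Q with hs | hnt
  · intro x hx
    have : (⟨x, hx⟩ : Q) = 1 := Subsingleton.elim _ _
    rw [show x = 1 from congrArg Subtype.val this]
    exact Commute.one_right w
  obtain ⟨hfc, hfp, hfne⟩ := CfsgLib.OddOrder.Stab.frattini_facts hQ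
  set F : Subgroup H := (frattini Q).map Q.subtype with hF
  have hFQ : F < Q := by
    refine lt_of_le_of_ne (Subgroup.map_subtype_le _) fun h => hfne hnt ?_
    apply Subgroup.map_injective Q.subtype_injective
    rw [← hF, h, ← MonoidHom.range_eq_map, Subgroup.range_subtype]
  have hw2 : w⁻¹ = w * w := by
    rw [inv_eq_iff_mul_eq_one, ← pow_two, ← pow_succ', hw]
  have hnQ : w ∈ Subgroup.normalizer (Q : Set H) := by
    rw [Subgroup.mem_normalizer_iff]
    intro z
    refine ⟨hn z, fun hz => ?_⟩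
    have := hn _ (hn _ hz)
    rwa [show w * (w * (w * z * w⁻¹) * w⁻¹) * w⁻¹ = (w * w * w) * z * (w * w * w)⁻¹ by group,
      ← pow_two, ← pow_succ, hw, one_mul, inv_one, mul_one] at this
  have hFw : ∀ z ∈ F, Commute w z :=
    ih F hFQ (hQ.to_le hFQ.le) fun z hz => CfsgLib.OddOrder.Stab.map_subtype_conj_mem _ hnQ hz
  intro x hx
  by_contra hne
  set e := x⁻¹ * (w * x * w⁻¹) with he
  set e1 := w * e * w⁻¹ with he1d
  have heQ : e ∈ Q := mul_mem (inv_mem hx) (hn x hx)
  have he1Q : e1 ∈ Q := hn e heQ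
  have he0 : e ≠ 1 := by
    intro h
    rw [he, inv_mul_eq_one, eq_mul_inv_iff_mul_eq] at h
    exact hne h.symm
  have hFconj : ∀ {y z}, y ∈ Q → z ∈ F → y * z * y⁻¹ ∈ F := fun {y z} hy hz =>
    CfsgLib.OddOrder.Stab.map_subtype_conj_mem _ (Subgroup.le_normalizer hy) hz
  have heF : ∀ z ∈ F, Commute e z := fun z hz => by
    have h1 := (hFw z hz).eq
    have h2 := (hFw _ (hFconj hx hz)).eq
    have h3 : e * z * e⁻¹ = z := by
      calc e * z * e⁻¹ = x⁻¹ * (w * (x * (w⁻¹ * (z * w) ) * x⁻¹) * w⁻¹) * x := by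
            rw [he]; group
        _ = x⁻¹ * (w * (x * z * x⁻¹) * w⁻¹) * x := by rw [← h1]; group
        _ = z := by rw [h2]; group
    exact mul_inv_eq_iff_eq_mul.1 h3
  have he1F : ∀ z ∈ F, Commute e1 z := fun z hz => by
    have h1 := (hFw z hz).eq
    have h2 : e1 * z = z * e1 := by
      calc e1 * z = w * (e * (w⁻¹ * (z * w))) * w⁻¹ := by rw [he1d]; group
        _ = w * (e * z) * w⁻¹ := by rw [← h1]; group
        _ = w * z * e * w⁻¹ := by rw [(heF z hz).eq]; group
        _ = z * e1 := by rw [h1, he1d]; group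
    exact h2
  have hprod : e * (e1 * (w * e1 * w⁻¹)) = 1 := by
    calc e * (e1 * (w * e1 * w⁻¹)) = x⁻¹ * ((w * w * w) * x * (w * w * w)⁻¹) := by
          rw [he1d, he]; group
      _ = 1 := by rw [← pow_two, ← pow_succ, hw]; simp
  have hcF : ⁅e, e1⁆ ∈ F := ⟨_, hfc ⟨e, heQ⟩ ⟨e1, he1Q⟩, rfl⟩
  set c := ⁅e, e1⁆ with hc
  have hce : Commute c e := (heF c hcF).symm
  have hce1 : Commute c e1 := (he1F c hcF).symm
  have hcee : e * e1 = c * (e1 * e) := by rw [hc, commutatorElement_def]; group
  have hzF : e ^ r ∈ F := ⟨_, hfp ⟨e, heQ⟩, rfl⟩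
  have hz1 : e1 ^ r = e ^ r := by
    rw [he1d, conj_pow, (hFw _ hzF).eq, mul_inv_cancel_right]
  have hconj : e * e1 * e⁻¹ = c * e1 := by rw [hcee]; group
  have hcr : c ^ r = 1 := by
    have h1 : (e * e1 * e⁻¹) ^ r = e1 ^ r := by
      rw [conj_pow, hz1, (heF _ hzF).eq, mul_inv_cancel_right]
    rwa [hconj, hce1.mul_pow, mul_eq_right] at h1
  have her : e ^ r = 1 := by
    let K := Subgroup.centralizer ({c} : Set H)
    let x1 : K := ⟨e, Subgroup.mem_centralizer_singleton_iff.2 hce.eq.symm⟩
    let y1 : K := ⟨e1, Subgroup.mem_centralizer_singleton_iff.2 hce1.eq.symm⟩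
    have hyx : ((⁅y1, x1⁆ : K) : H) = c⁻¹ := by
      rw [hc, commutatorElement_inv]
      rfl
    have hcen : ∀ z : K, Commute ⁅y1, x1⁆ z := fun z => Subtype.ext (by
      rw [Subgroup.coe_mul, Subgroup.coe_mul, hyx]
      exact ((Commute.inv_left (Subgroup.mem_centralizer_singleton_iff.1 z.2).symm :
        Commute c⁻¹ (z : H))).eq)
    have h1 := congrArg Subtype.val (CfsgLib.OddOrder.Stab.mul_pow_of_commutator_central hcen r)
    rw [Subgroup.coe_pow, Subgroup.coe_mul, Subgroup.coe_mul, Subgroup.coe_mul, Subgroup.coe_pow,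
      Subgroup.coe_pow, Subgroup.coe_pow, hyx] at h1
    change (e * e1) ^ r = e ^ r * e1 ^ r * c⁻¹ ^ r.choose 2 at h1
    obtain ⟨m, hm⟩ := hr.dvd_choose_self two_ne_zero (by omega : 2 < r)
    have hcm : c⁻¹ ^ r.choose 2 = 1 := by rw [hm, pow_mul, inv_pow, hcr, inv_one, one_pow]
    have h2 : e * e1 = (w * e1 * w⁻¹)⁻¹ := by
      rw [← mul_assoc] at hprod; exact eq_inv_of_mul_eq_one_left hprod
    rw [h2, inv_pow, conj_pow, hz1, (hFw _ hzF).eq, mul_inv_cancel_right, hcm, mul_one] at h1
    set z := e ^ r with hz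
    have hz3 : z ^ 3 = 1 := by
      rw [pow_succ, pow_two, ← h1, inv_mul_cancel]
    obtain ⟨n, hn'⟩ := hQ ⟨z, pow_mem heQ r⟩
    have hzn : z ^ r ^ n = 1 := congrArg Subtype.val hn'
    have hcop : Nat.Coprime 3 (r ^ n) :=
      ((Nat.coprime_primes Nat.prime_three hr).2 (by omega)).pow_right n
    exact orderOf_eq_one_iff.1 (Nat.eq_one_of_dvd_coprimes hcop (orderOf_dvd_of_pow_eq_one hz3)
      (orderOf_dvd_of_pow_eq_one hzn))
  have he1r : e1 ^ r = 1 := hz1.trans her
  have hw0 : w ≠ 1 := fun h => hne (h ▸ Commute.one_left x)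
  have hwe : w * e = e1 * w := by rw [he1d]; group
  have hwe2 : e * (e1 * (w * e1)) = w := by
    have := congrArg (· * w) hprod
    simpa [mul_assoc] using this
  have hW : ρ w ^ 3 = 1 := by rw [← map_pow, hw, map_one]
  have hsw := hsmall w hw0
  by_cases hc1 : c = 1
  · -- the abelian case
    have hEE : Commute (ρ e) (ρ e1) := by
      show ρ e * ρ e1 = ρ e1 * ρ e
      rw [← map_mul, ← map_mul, hcee, hc1, one_mul]
    have hb := (threeCycle hr (by omega) hr0 (f := ρ w) (by rw [← map_pow, her, map_one])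
      (by rw [← map_pow, he1r, map_one]) hEE hW (by rw [← map_mul, ← map_mul, hwe])
      (by rw [← map_mul, ← map_mul, ← map_mul, hwe2])).1
    have hle : finrank k ↥(LinearMap.ker (ρ e - 1) ⊓ LinearMap.ker (ρ e1 - 1)) ≤ fx (ρ e) :=
      Submodule.finrank_mono inf_le_left
    have := hsmall e he0
    omega
  · -- the extraspecial case
    haveI := finite_roots (k := k) hr
    haveI := Fintype.ofFinite (rootsOfUnity r k)
    have hC : ρ c ^ r = 1 := by rw [← map_pow, hcr, map_one]
    have hπ := spec hr hr0 hC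
    let K := Subgroup.centralizer ({c} : Set H)
    have hcK : c ∈ K := Subgroup.mem_centralizer_singleton_iff.2 rfl
    have heK : e ∈ K := Subgroup.mem_centralizer_singleton_iff.2 hce.eq.symm
    have he1K : e1 ∈ K := Subgroup.mem_centralizer_singleton_iff.2 hce1.eq.symm
    have hwK : w ∈ K := Subgroup.mem_centralizer_singleton_iff.2 (hFw c hcF).eq
    let U : rootsOfUnity r k → Submodule k V := fun a => LinearMap.range (proj (ρ c) a)
    have hUinv : ∀ (a : rootsOfUnity r k) (g : K), ∀ v ∈ U a, (ρ.comp K.subtype) g v ∈ U a := by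
      rintro a g - ⟨u, rfl⟩
      refine ⟨ρ g u, ?_⟩
      show proj (ρ c) a (ρ g u) = ρ g (proj (ρ c) a u)
      have hcg : Commute (ρ (g : H)) (ρ c) := by
        show ρ (g : H) * ρ c = ρ c * ρ (g : H)
        rw [← map_mul, ← map_mul, Subgroup.mem_centralizer_singleton_iff.1 g.2]
      rw [← Module.End.mul_apply, ← (commute_proj hcg a).eq, Module.End.mul_apply]
    let τ : ∀ a : rootsOfUnity r k, Representation k K (U a) := fun a =>
      subRep (ρ.comp K.subtype) (U a) (hUinv a)
    set s : Finset (rootsOfUnity r k) := Finset.univ.erase 1 with hs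
    have hbound : ∀ a ∈ s, finrank k (U a) ≤ 5 * fx (τ a ⟨w, hwK⟩) := by
      intro a ha
      refine eigen_bound hr hr7 hr0 h3 (τ a) (c := ⟨c, hcK⟩) (e := ⟨e, heK⟩) (e1 := ⟨e1, he1K⟩)
        (Subtype.ext her) (Subtype.ext he1r) (Subtype.ext hw) (Subtype.ext hce.eq)
        (Subtype.ext hce1.eq) (Subtype.ext hcee) (Subtype.ext hwe) (Subtype.ext hwe2) a
        (Finset.ne_of_mem_erase ha) ?_
      rintro ⟨-, u, rfl⟩
      refine Subtype.ext ?_
      show ρ c (proj (ρ c) a u) = _
      rw [apply_proj hC]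
      rfl
    have hfxw : ∑ a ∈ s, fx (τ a ⟨w, hwK⟩) ≤ fx (ρ w) := by
      let S : ∀ a, Submodule k (U a) := fun a => LinearMap.ker (τ a ⟨w, hwK⟩ - 1)
      let φ : (Π a : s, S a) →ₗ[k] V :=
        ∑ a : s, (U (a : rootsOfUnity r k)).subtype ∘ₗ (S a).subtype ∘ₗ LinearMap.proj a
      have hφ : ∀ y, φ y = ∑ a : s, ((y a : U (a : rootsOfUnity r k)) : V) := fun y => by simp [φ]
      have hfix : ∀ y, φ y ∈ LinearMap.ker (ρ w - 1) := fun y => by
        rw [mem_fix, hφ, map_sum]
        refine Finset.sum_congr rfl fun a _ => ?_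
        exact congrArg Subtype.val (mem_fix.1 (y a).2)
      have hinj : Function.Injective (φ.codRestrict _ hfix) := by
        rw [injective_iff_map_eq_zero]
        intro y hy
        funext a
        have h0 : φ y = 0 := congrArg Subtype.val hy
        rw [hφ] at h0
        have h1 := congrArg (proj (ρ c) (a : rootsOfUnity r k)) h0
        rw [map_zero, map_sum, Finset.sum_eq_single a (fun b _ hb => hπ.apply_other
          (i := (a : rootsOfUnity r k)) (j := b) (fun e => hb (Subtype.ext e.symm))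
          ((y b : U (b : rootsOfUnity r k))).2) (by simp),
          hπ.apply_self (i := (a : rootsOfUnity r k)) ((y a : U (a : rootsOfUnity r k))).2] at h1
        exact Subtype.ext (Subtype.ext h1)
      have h := LinearMap.finrank_le_finrank_of_injective hinj
      rwa [Module.finrank_pi_fintype, Finset.univ_eq_attach,
        Finset.sum_attach s (fun a => finrank k (S a))] at h
    have hn : finrank k V = fx (ρ c) + ∑ a ∈ s, finrank k (U a) := by
      rw [hπ.finrank_eq, hs, ← Finset.add_sum_erase _ _ (Finset.mem_univ (1 : rootsOfUnity r k))]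
      rw [range_proj_one hr0 hC]
      rfl
    have h5 : ∑ a ∈ s, finrank k (U a) ≤ 5 * fx (ρ w) := by
      refine (Finset.sum_le_sum hbound).trans ?_
      rw [← Finset.mul_sum]
      omega
    have := hsmall c hc1
    omega

end CfsgLib.FixSixth
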