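import Cfsg.Agent.FixSixth.Defining
import Cfsg.Agent.FixSixth.CrossMain
import Cfsg.Agent.FixSixth.Lifts
import Cfsg.Agent.FixSixth.BaseChange
import Cfsg.Agent.TILattice.Basic

/-!
# Large fixed spaces for a group covering `SL₂(p)`
-/

set_option autoImplicit false
set_option linter.unusedSectionVars false
set_option linter.style.haveILetI false

namespace CfsgLib.FixSixth

open Module Matrix
open scoped MatrixGroups

universe w

/-- A valuation ring of `ℂ` whose residue field embeds with `k` in an algebraically closed field. -/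
theorem exists_residue_common (k : Type w) [Field k] :
    ∃ (B : ValuationSubring ℂ) (Ω : Type w) (_ : Field Ω) (_ : IsAlgClosed Ω),
      Nonempty (k →+* Ω) ∧ Nonempty (IsLocalRing.ResidueField B →+* Ω) := by
  rcases CharP.char_is_prime_or_zero k (ringChar k) with hl | h0
  · haveI : Fact (ringChar k).Prime := ⟨hl⟩
    obtain ⟨B, hB⟩ := TILattice.exists_valuationSubring_p (ringChar k)
    haveI : CharP (IsLocalRing.ResidueField B) (ringChar k) := by
      refine (CharP.charP_iff_prime_eq_zero hl).2 ?_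
      rw [← map_natCast (IsLocalRing.residue B)]
      exact (IsLocalRing.residue_eq_zero_iff _).2 hB
    letI := ZMod.algebra k (ringChar k)
    letI := ZMod.algebra (IsLocalRing.ResidueField B) (ringChar k)
    obtain ⟨Ω, i1, i2, h⟩ := exists_common_field (ZMod (ringChar k)) k (IsLocalRing.ResidueField B)
    exact ⟨B, Ω, i1, i2, h⟩
  · haveI : CharP k 0 := h0 ▸ ringChar.charP k
    haveI : CharZero k := CharP.charP_to_charZero k
    set B : ValuationSubring ℂ := ⊤
    have hinj : Function.Injective (IsLocalRing.residue B) := by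
      rw [injective_iff_map_eq_zero]
      intro x hx
      by_contra hne
      refine (IsLocalRing.residue_eq_zero_iff x).1 hx ?_
      exact isUnit_iff_exists_inv.2 ⟨⟨(x : ℂ)⁻¹, trivial⟩,
        Subtype.ext (mul_inv_cancel₀ fun h => hne (Subtype.ext h))⟩
    haveI : CharZero (IsLocalRing.ResidueField B) := charZero_of_injective_ringHom hinj
    obtain ⟨Ω, i1, i2, h⟩ := exists_common_field ℚ k (IsLocalRing.ResidueField B)
    exact ⟨B, Ω, i1, i2, h⟩

/-- **A group covering `SL₂(p)` has a nontrivial element fixing a sixth.** -/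
theorem exists_large_of_cover {p : ℕ} [Fact p.Prime] (hp7 : 7 ≤ p) {k : Type w} [Field k]
    [IsAlgClosed k] {X : Type*} [Group X] [Finite X] (π : X →* SL(2, ZMod p))
    (hπ : Function.Surjective π) (h2 : (2 : k) ≠ 0) (h3 : (3 : k) ≠ 0)
    (hker : ∀ x, π x = 1 → ∀ r : ℕ, r.Prime → r ∣ orderOf x → (r : k) = 0) {V : Type*}
    [AddCommGroup V] [Module k V] [FiniteDimensional k V] (ρ : Representation k X V) :
    ∃ h : X, h ≠ 1 ∧ finrank k V ≤ 6 * fx (ρ h) := by
  classical
  have hcop : ∀ r : ℕ, r.Prime → (r : k) ≠ 0 → ∀ x, π x = 1 → (orderOf x).Coprime r :=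
    fun r hr hrk x hx => ((Nat.Prime.coprime_iff_not_dvd hr).2 fun hd => hrk (hker x hx r hr hd)).symm
  obtain ⟨w, hw, hw3⟩ := exists_lift_of_coprime π hπ (hcop 3 Nat.prime_three (by exact_mod_cast h3))
    w3_pow_three
  by_cases hp : (p : k) = 0
  · haveI : CharP k p := (CharP.charP_iff_prime_eq_zero Fact.out).2 hp
    have hkp : ∀ x, π x = 1 → ∃ n : ℕ, x ^ p ^ n = 1 := fun x hx => by
      refine ⟨(orderOf x).primeFactorsList.length, ?_⟩
      rw [← Nat.eq_prime_pow_of_unique_prime_dvd (orderOf_pos x).ne' fun {d} hd hdd =>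
        (Nat.prime_dvd_prime_iff_eq Fact.out hd).1
          ((CharP.cast_eq_zero_iff k p d).1 (hker x hx d hd hdd)) |>.symm, pow_orderOf_eq_one]
    obtain ⟨γ, hγ⟩ := IsCyclic.exists_generator (α := (ZMod p)ˣ)
    have hcop' : ∀ x, π x = 1 → (orderOf x).Coprime (p - 1) := fun x hx => by
      obtain ⟨n, hn⟩ := hkp x hx
      refine Nat.Coprime.coprime_dvd_left (orderOf_dvd_of_pow_eq_one hn) (Nat.Coprime.pow_left n ?_)
      rw [Nat.Prime.coprime_iff_not_dvd Fact.out]
      exact fun hd => absurd (Nat.le_of_dvd (by omega) hd) (by omega)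
    obtain ⟨t, ht, htp⟩ := exists_lift_of_coprime π hπ hcop' (g := tor γ) (by
      have h1 : ∀ i : ℕ, tor γ ^ i = (tor (γ ^ i) : SL(2, ZMod p)) := fun i => by
        induction i with
        | zero => rw [pow_zero, pow_zero, tor_one]
        | succ i ih => rw [pow_succ, pow_succ, ih, tor_mul]
      rw [h1, ZMod.units_pow_card_sub_one_eq_one, tor_one])
    obtain ⟨u, e, N, hu, hup, htu, he⟩ := exists_unipotent_lift π hπ hkp ht htp
    exact exists_large_defining π hπ hker hγ hp7 hw hw3 ht htp hu hup htu he ρ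
  · obtain ⟨z, hz, hz2⟩ := exists_lift_of_coprime π hπ (hcop 2 Nat.prime_two (by exact_mod_cast h2))
      (g := (-1 : SL(2, ZMod p))) (by rw [sq]; simp)
    obtain ⟨B, Ω, _, _, ⟨φ⟩, ⟨η⟩⟩ := exists_residue_common k
    obtain ⟨τ, hτ⟩ := exists_base_change φ ρ
    obtain ⟨h, hh1, hh⟩ := exists_large_cross π hπ
      (fun x hx r hr hd => by rw [← map_natCast φ, hker x hx r hr hd, map_zero])
      (by rwa [← map_natCast φ, ne_eq, map_eq_zero]) hp7
      (by rwa [← map_ofNat φ 2, ne_eq, map_eq_zero]) (by rwa [← map_ofNat φ 3, ne_eq, map_eq_zero])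
      B η hw hw3 hz hz2 τ
    refine ⟨h, hh1, ?_⟩
    rwa [finrank_fin_fun, hτ] at hh

end CfsgLib.FixSixth
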