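import Cfsg.Agent.FixSixth.Fix
import Cfsg.Agent.SmallDegreeP.Lattice

/-!
# Modular constituents of ordinary representations

`B` is a valuation ring of `ℂ` and `η` embeds its residue field in `Ω`.  Every simple representation
of a finite group over `Ω` is a subquotient of the reduction of an integral form of an irreducible
complex representation; fixed spaces of elements of order prime to the characteristic keep their
dimension under reduction.
-/

set_option autoImplicit false
set_option linter.unusedSectionVars false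
set_option linter.style.haveILetI false

namespace CfsgLib.FixSixth

open Module Matrix CfsgLib.SmallDegreeP

/-- The representation of a matrix representation. -/
noncomputable def matRep {K : Type*} [CommRing K] {G : Type*} [Monoid G] {n : Type*} [Fintype n]
    [DecidableEq n] (σ : G →* Matrix n n K) : Representation K G (n → K) :=
  (Matrix.toLinAlgEquiv' (R := K) (n := n)).toMonoidHom.comp σ

theorem matRep_apply {K : Type*} [CommRing K] {G : Type*} [Monoid G] {n : Type*} [Fintype n]
    [DecidableEq n] (σ : G →* Matrix n n K) (g : G) (x : n → K) : matRep σ g x = σ g *ᵥ x :=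
  Matrix.toLinAlgEquiv'_apply _ _

/-- `W` is a quotient of an invariant subspace. -/
def IsConst {k : Type*} [Field k] {G : Type*} [Monoid G] {V W : Type*} [AddCommGroup V] [Module k V]
    [AddCommGroup W] [Module k W] (ρ : Representation k G V) (π : Representation k G W) : Prop :=
  ∃ (S : Submodule k V) (hS : ∀ g, ∀ v ∈ S, ρ g v ∈ S) (f : S →ₗ[k] W),
    Function.Surjective f ∧ ∀ g s, f (subRep ρ S hS g s) = π g (f s)

/-- Linearly independent columns have a nonzero maximal minor. -/
theorem exists_minor {K : Type*} [Field K] {N d : ℕ} (A : Matrix (Fin N) (Fin d) K)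
    (hA : Function.Injective A.mulVec) : ∃ s : Fin d → Fin N, (A.submatrix s id).det ≠ 0 := by
  classical
  have hspan : Submodule.span K (Set.range A) = ⊤ := by
    apply Submodule.eq_top_of_finrank_eq
    have h1 : (Matrix.rank A) = d := by
      rw [Matrix.rank, LinearMap.finrank_range_of_inj (f := A.mulVecLin) hA, finrank_fin_fun]
    rw [finrank_fin_fun]
    conv_rhs => rw [← h1, Matrix.rank_eq_finrank_span_row]
    rfl
  obtain ⟨b, hb, hbs, hbi⟩ := exists_linearIndependent K (Set.range A)
  rw [hspan] at hbs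
  let bas : Basis b K (Fin d → K) := Basis.mk hbi (by simp [hbs])
  haveI := FiniteDimensional.fintypeBasisIndex bas
  have hcard : Fintype.card b = d := by rw [← Module.finrank_eq_card_basis bas, finrank_fin_fun]
  let e : Fin d ≃ b := (Fintype.equivFinOfCardEq hcard).symm
  choose s hs using fun i => hb (e i).2
  refine ⟨s, ?_⟩
  have hli : LinearIndependent K fun i => A.submatrix s id i := by
    have : (fun i => A.submatrix s id i) = (fun x : b => (x : Fin d → K)) ∘ e := funext fun i => hs i
    rw [this]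
    exact hbi.comp e e.injective
  exact IsUnit.ne_zero ((Matrix.isUnit_iff_isUnit_det _).1
    (Matrix.linearIndependent_rows_iff_isUnit.1 hli))

variable (B : ValuationSubring ℂ) {Ω : Type*} [Field Ω] (η : IsLocalRing.ResidueField B →+* Ω)

/-- The reduction of a scalar. -/
noncomputable def red : B →+* Ω := η.comp (IsLocalRing.residue B)

theorem red_ne_zero_iff {x : B} : red B η x ≠ 0 ↔ IsUnit x := by
  rw [red, RingHom.comp_apply, map_ne_zero, IsLocalRing.residue_ne_zero_iff_isUnit]

variable {G : Type*} [Group G]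

/-- The reduced representation. -/
noncomputable def redRep {n : Type*} [Fintype n] [DecidableEq n] (σ : G →* Matrix n n B) :
    Representation Ω G (n → Ω) :=
  matRep ((red B η).mapMatrix.toMonoidHom.comp σ)

/-- The complex representation. -/
noncomputable def cxRep {n : Type*} [Fintype n] [DecidableEq n] (σ : G →* Matrix n n B) :
    Representation ℂ G (n → ℂ) :=
  matRep ((inclMat B).toMonoidHom.comp σ)

theorem redRep_apply {n : Type*} [Fintype n] [DecidableEq n] (σ : G →* Matrix n n B) (g : G)
    (x : n → Ω) : redRep B η σ g x = (σ g).map (red B η) *ᵥ x :=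
  matRep_apply _ _ _

theorem cxRep_apply {n : Type*} [Fintype n] [DecidableEq n] (σ : G →* Matrix n n B) (g : G)
    (x : n → ℂ) : cxRep B σ g x = (σ g).map B.subtype *ᵥ x :=
  matRep_apply _ _ _

/-- An invariant subspace of the complex representation is, after a change of basis over `B`, a
coordinate subspace. -/
theorem exists_split {N : ℕ} (σ : G →* Matrix (Fin N) (Fin N) B) (U : Submodule ℂ (Fin N → ℂ))
    (hU : ∀ g, ∀ x ∈ U, cxRep B σ g x ∈ U) :
    ∃ (r : ℕ) (σ' : G →* Matrix (Fin (finrank ℂ U) ⊕ Fin r) (Fin (finrank ℂ U) ⊕ Fin r) B)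
      (T : (Fin (finrank ℂ U) ⊕ Fin r → Ω) ≃ₗ[Ω] (Fin N → Ω)),
      finrank ℂ U + r = N ∧ (∀ g, (σ' g).toBlocks₂₁ = 0) ∧
      ∀ g x, T (redRep B η σ' g x) = redRep B η σ g (T x) := by
  classical
  set d := finrank ℂ U with hd
  let b := finBasis ℂ U
  let A : Matrix (Fin N) (Fin d) ℂ := Matrix.of fun i j => ((b j : U) : Fin N → ℂ) i
  have hcol : ∀ x : Fin d → ℂ, A *ᵥ x = ((∑ j, x j • b j : U) : Fin N → ℂ) := by
    intro x
    funext i
    simp [A, Matrix.mulVec, dotProduct, mul_comm]
  have hAi : Function.Injective A.mulVec := fun x y h => by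
    rw [hcol, hcol, Subtype.coe_inj] at h
    funext j
    have h1 := congrArg (fun u : U => b.repr u j) h
    simpa [Finsupp.single_apply] using h1
  obtain ⟨s1, hs1⟩ := exists_minor A hAi
  obtain ⟨s, -, hmax⟩ := Finset.exists_max_image Finset.univ
    (fun s : Fin d → Fin N => B.valuation (A.submatrix s id).det) ⟨s1, Finset.mem_univ _⟩
  set As := A.submatrix s id with hAs
  have hdet : As.det ≠ 0 := fun h => by
    have h1 := hmax s1 (Finset.mem_univ _)
    rw [h, map_zero, le_zero_iff, map_eq_zero] at h1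
    exact hs1 h1
  have hsinj : Function.Injective s := fun i j hij => by
    by_contra hne
    exact hdet (Matrix.det_zero_of_row_eq hne (by funext c; simp [As, hij]))
  have hu : IsUnit As.det := isUnit_iff_ne_zero.2 hdet
  set A' := A * As⁻¹ with hA'
  have hmem : ∀ i j, A' i j ∈ B := by
    intro i j
    have h1 : A' i j = As.det⁻¹ * (As.updateRow j (A i)).det := by
      rw [← Matrix.cramer_transpose_apply, Matrix.cramer_eq_adjugate_mulVec, ← Matrix.adjugate_transpose,
        Matrix.mulVec_transpose, hA', Matrix.inv_def, Matrix.mul_smul, Matrix.smul_apply, smul_eq_mul,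
        Ring.inverse_eq_inv']
      rfl
    have h2 : As.updateRow j (A i) = A.submatrix (Function.update s j i) id := by
      ext a c
      by_cases h : a = j
      · subst h; simp
      · simp [As, h]
    rw [h1, h2, ← B.valuation_le_one_iff, map_mul, map_inv₀,
      inv_mul_le_iff₀ (zero_lt_iff.2 ((map_ne_zero _).2 hdet)), mul_one]
    exact hmax _ (Finset.mem_univ _)
  set r := Fintype.card {i : Fin N // i ∉ Set.range s} with hr
  let e : Fin d ⊕ Fin r ≃ Fin N :=
    (Equiv.sumCongr (Equiv.ofInjective s hsinj) (Fintype.equivFin _).symm).trans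
      (Equiv.Set.sumCompl (Set.range s))
  have hel : ∀ i, e (Sum.inl i) = s i := fun i => rfl
  have hN : d + r = N := by
    have := Fintype.card_congr e
    simpa using this
  let C : Matrix (Fin r) (Fin d) B := Matrix.of fun i j => ⟨A' (e (Sum.inr i)) j, hmem _ _⟩
  let P : Matrix (Fin d ⊕ Fin r) (Fin d ⊕ Fin r) B := fromBlocks 1 0 C 1
  let P' : Matrix (Fin d ⊕ Fin r) (Fin d ⊕ Fin r) B := fromBlocks 1 0 (-C) 1
  have hPP' : P * P' = 1 := by simp [P, P', fromBlocks_multiply, fromBlocks_one]
  have hP'P : P' * P = 1 := by simp [P, P', fromBlocks_multiply, fromBlocks_one]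
  let σ0 : G →* Matrix (Fin d ⊕ Fin r) (Fin d ⊕ Fin r) B :=
    { toFun := fun g => (σ g).submatrix e e
      map_one' := by rw [map_one, Matrix.submatrix_one_equiv]
      map_mul' := fun g h => by rw [map_mul, Matrix.submatrix_mul_equiv] }
  let σ' : G →* Matrix (Fin d ⊕ Fin r) (Fin d ⊕ Fin r) B :=
    { toFun := fun g => P' * σ0 g * P
      map_one' := by rw [map_one, mul_one, hP'P]
      map_mul' := fun g h => by
        rw [map_mul, show P' * σ0 g * P * (P' * σ0 h * P) = P' * σ0 g * (P * P') * (σ0 h * P) by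
          simp only [mul_assoc], hPP', mul_one]
        simp only [mul_assoc] }
  -- the columns of `A'` span `U`
  have hAe : A'.submatrix e id = fromRows 1 (C.map B.subtype) := by
    ext i j
    rcases i with i | i
    · simp only [Matrix.submatrix_apply, id_eq, fromRows_apply_inl, hel, hA']
      rw [show (A * As⁻¹) (s i) j = (As * As⁻¹) i j from rfl, Matrix.mul_nonsing_inv _ hu]
    · rfl
  have hblock : ∀ g, (σ' g).toBlocks₂₁ = 0 := by
    intro g
    have hinv : ∀ j, ∃ m : Fin d → ℂ, (σ g).map B.subtype *ᵥ (fun i => A' i j) = A' *ᵥ m := by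
      intro j
      have hmemU : (fun i => A' i j) ∈ U := by
        have : (fun i => A' i j) = A *ᵥ (fun c => As⁻¹ c j) := by
          funext i; simp [A', Matrix.mulVec, dotProduct, Matrix.mul_apply]
        rw [this, hcol]
        exact Submodule.coe_mem _
      have h1 := hU g _ hmemU
      rw [cxRep_apply] at h1
      refine ⟨As *ᵥ (b.repr ⟨_, h1⟩ : Fin d → ℂ), ?_⟩
      rw [Matrix.mulVec_mulVec, show A' * As = A from Matrix.nonsing_inv_mul_cancel_right _ _ hu, hcol,
        b.sum_repr]
    choose m hm using hinv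
    have hM : (σ0 g).map B.subtype * fromRows (1 : Matrix (Fin d) (Fin d) ℂ) (C.map B.subtype) =
        fromRows 1 (C.map B.subtype) * Matrix.of fun c j => m j c := by
      rw [← hAe]
      ext i j
      have h1 := congrFun (hm j) (e i)
      simp only [Matrix.mulVec, dotProduct] at h1
      simp only [Matrix.mul_apply, Matrix.submatrix_apply, id_eq, Matrix.of_apply, Matrix.map_apply,
        σ0, MonoidHom.coe_mk, OneHom.coe_mk]
      rw [← h1]
      exact Equiv.sum_comp e fun x => B.subtype (σ g (e i) x) * A' x j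
    apply Matrix.map_injective (f := B.subtype) Subtype.val_injective
    simp only [Matrix.map_zero _ (map_zero B.subtype)]
    have h21 : σ' g = fromBlocks 1 0 (-C) 1 * σ0 g * fromBlocks 1 0 C 1 := rfl
    rw [← fromBlocks_toBlocks (σ0 g), fromBlocks_multiply, fromBlocks_multiply] at h21
    rw [h21, toBlocks_fromBlocks₂₁]
    rw [← fromBlocks_toBlocks (σ0 g), fromBlocks_map, fromBlocks_mul_fromRows, fromRows_mul] at hM
    have hT := congrArg Matrix.toRows₁ hM
    have hB := congrArg Matrix.toRows₂ hM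
    simp only [toRows₁_fromRows, toRows₂_fromRows, Matrix.mul_one, Matrix.one_mul] at hT hB
    simp only [Matrix.mul_one, Matrix.one_mul, Matrix.zero_mul, Matrix.neg_mul,
      Matrix.map_add B.subtype (map_add _), Matrix.map_mul, Matrix.map_neg B.subtype (map_neg _),
      Matrix.add_mul]
    rw [← hT, Matrix.mul_add] at hB
    rw [← sub_eq_zero.2 hB, Matrix.mul_assoc]
    abel
  let P_Ω : (Fin d ⊕ Fin r → Ω) ≃ₗ[Ω] (Fin d ⊕ Fin r → Ω) :=
    LinearEquiv.ofLinear (Matrix.toLin' (P.map (red B η))) (Matrix.toLin' (P'.map (red B η)))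
      (by rw [← Matrix.toLin'_mul, ← Matrix.map_mul, hPP', Matrix.map_one _ (map_zero _) (map_one _),
        Matrix.toLin'_one])
      (by rw [← Matrix.toLin'_mul, ← Matrix.map_mul, hP'P, Matrix.map_one _ (map_zero _) (map_one _),
        Matrix.toLin'_one])
  refine ⟨r, σ', P_Ω.trans (LinearEquiv.funCongrLeft Ω Ω e.symm), hN, hblock, fun g x => ?_⟩
  simp only [LinearEquiv.trans_apply, redRep_apply]
  have h0 : ∀ y, LinearEquiv.funCongrLeft Ω Ω e.symm ((σ0 g).map (red B η) *ᵥ y) =
      (σ g).map (red B η) *ᵥ LinearEquiv.funCongrLeft Ω Ω e.symm y := by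
    intro y
    funext i
    simp only [LinearEquiv.funCongrLeft_apply, LinearMap.funLeft_apply, Matrix.mulVec, dotProduct]
    rw [← Equiv.sum_comp e fun c => (σ g).map (red B η) i c * y (e.symm c)]
    simp [σ0]
  rw [← h0]
  congr 1
  show P.map (red B η) *ᵥ ((P' * σ0 g * P).map (red B η) *ᵥ x) =
    (σ0 g).map (red B η) *ᵥ (P.map (red B η) *ᵥ x)
  rw [Matrix.mulVec_mulVec, Matrix.mulVec_mulVec, ← Matrix.map_mul, ← Matrix.map_mul,
    ← mul_assoc P, ← mul_assoc P, hPP', one_mul]

/-- The diagonal blocks of an upper block triangular representation. -/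
theorem exists_blocks {d r : ℕ} (σ : G →* Matrix (Fin d ⊕ Fin r) (Fin d ⊕ Fin r) B)
    (h : ∀ g, (σ g).toBlocks₂₁ = 0) :
    ∃ (a : G →* Matrix (Fin d) (Fin d) B) (b : G →* Matrix (Fin r) (Fin r) B),
      ∀ g, ∃ c, σ g = fromBlocks (a g) c 0 (b g) := by
  have hσ : ∀ g, σ g = fromBlocks (σ g).toBlocks₁₁ (σ g).toBlocks₁₂ 0 (σ g).toBlocks₂₂ := fun g => by
    rw [← h g, fromBlocks_toBlocks]
  refine ⟨
    { toFun := fun g => (σ g).toBlocks₁₁
      map_one' := by rw [map_one, ← fromBlocks_one, toBlocks_fromBlocks₁₁]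
      map_mul' := fun g g' => by
        show (σ (g * g')).toBlocks₁₁ = _
        rw [map_mul]
        conv_lhs => rw [hσ g, hσ g', fromBlocks_multiply, toBlocks_fromBlocks₁₁, Matrix.mul_zero,
          add_zero] },
    { toFun := fun g => (σ g).toBlocks₂₂
      map_one' := by rw [map_one, ← fromBlocks_one, toBlocks_fromBlocks₂₂]
      map_mul' := fun g g' => by
        show (σ (g * g')).toBlocks₂₂ = _
        rw [map_mul]
        conv_lhs => rw [hσ g, hσ g', fromBlocks_multiply, toBlocks_fromBlocks₂₂, Matrix.zero_mul,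
          zero_add] },
    fun g => ⟨_, hσ g⟩⟩

/-- A simple constituent of a reduction is one of the reduction of an irreducible representation. -/
theorem exists_simple_of_const {W : Type*} [AddCommGroup W] [Module Ω W] {π : Representation Ω G W}
    (hW : IsSimple π) : ∀ (N : ℕ) (σ : G →* Matrix (Fin N) (Fin N) B), IsConst (redRep B η σ) π →
      ∃ (D : ℕ) (τ : G →* Matrix (Fin D) (Fin D) B), IsSimple (cxRep B τ) ∧
        IsConst (redRep B η τ) π := by
  intro N
  induction N using Nat.strong_induction_on with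
  | _ N ih =>
  intro σ hc
  haveI := hW.1
  by_cases hsim : IsSimple (cxRep B σ)
  · exact ⟨N, σ, hsim, hc⟩
  rcases Nat.eq_zero_or_pos N with rfl | hN
  · obtain ⟨S, hS, f, hf, -⟩ := hc
    haveI := hf.subsingleton
    exact absurd (inferInstance : Subsingleton W) (not_subsingleton W)
  haveI : Nonempty (Fin N) := ⟨⟨0, hN⟩⟩
  simp only [IsSimple, not_and, not_forall, not_or] at hsim
  obtain ⟨U, hU, hbot, htop⟩ := hsim inferInstance
  have h1 : finrank ℂ U < N := (Submodule.finrank_lt htop).trans_eq (finrank_fin_fun ℂ)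
  have h2 : finrank ℂ U ≠ 0 := fun h => hbot (Submodule.finrank_eq_zero.1 h)
  obtain ⟨r, σ', T, hNr, hblk, hT⟩ := exists_split B η σ U hU
  obtain ⟨a, b, hab⟩ := exists_blocks B σ' hblk
  obtain ⟨S, hS, f, hf, hfe⟩ := hc
  -- transport to the new coordinates
  set S' := S.comap T.toLinearMap with hS'def
  have hS' : ∀ g, ∀ x ∈ S', redRep B η σ' g x ∈ S' := fun g x hx => by
    rw [hS'def, Submodule.mem_comap, LinearEquiv.coe_coe, hT]
    exact hS g _ hx
  let f' : S' →ₗ[Ω] W := f ∘ₗ (T.toLinearMap.restrict (fun x (hx : x ∈ S') => hx))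
  have hf' : Function.Surjective f' := fun w => by
    obtain ⟨⟨s, hs⟩, rfl⟩ := hf w
    refine ⟨⟨T.symm s, by simp [hS'def, hs]⟩, congrArg f (Subtype.ext ?_)⟩
    simp
  have hfe' : ∀ g x, f' (subRep _ S' hS' g x) = π g (f' x) := fun g x => by
    rw [show π g (f' x) = f (subRep _ S hS g ⟨T x, x.2⟩) from (hfe g ⟨T x, x.2⟩).symm]
    exact congrArg f (Subtype.ext (hT g x))
  -- the two blocks
  let ι : (Fin (finrank ℂ U) → Ω) →ₗ[Ω] (Fin (finrank ℂ U) ⊕ Fin r → Ω) :=
    { toFun := fun x => Sum.elim x 0
      map_add' := fun x y => by funext i; rcases i with i | i <;> simp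
      map_smul' := fun c x => by funext i; rcases i with i | i <;> simp }
  let pr : (Fin (finrank ℂ U) ⊕ Fin r → Ω) →ₗ[Ω] (Fin r → Ω) := LinearMap.funLeft Ω Ω Sum.inr
  have hι : ∀ g x, redRep B η σ' g (ι x) = ι (redRep B η a g x) := fun g x => by
    obtain ⟨c, hc⟩ := hab g
    rw [redRep_apply, redRep_apply, hc, fromBlocks_map, show ι x = Sum.elim x 0 from rfl,
      fromBlocks_mulVec]
    funext i
    rcases i with i | i <;> simp [ι]
  have hpr : ∀ g x, pr (redRep B η σ' g x) = redRep B η b g (pr x) := fun g x => by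
    obtain ⟨c, hc⟩ := hab g
    rw [redRep_apply, redRep_apply, hc, fromBlocks_map, fromBlocks_mulVec]
    funext i
    simp [pr, Function.comp_def]
    rfl
  set S1 := S'.comap ι with hS1def
  let f1 : S1 →ₗ[Ω] W := f' ∘ₗ (ι.restrict (fun x (hx : x ∈ S1) => hx))
  by_cases h0 : f1 = 0
  · -- the constituent lies in the quotient block
    let ψ : S' →ₗ[Ω] Submodule.map pr S' := pr.restrict fun x hx => Submodule.mem_map_of_mem hx
    have hψ : Function.Surjective ψ := fun ⟨y, x, hx, e⟩ => ⟨⟨x, hx⟩, Subtype.ext e⟩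
    have hker : LinearMap.ker ψ ≤ LinearMap.ker f' := fun x hx => by
      have hx0 : pr (x : Fin (finrank ℂ U) ⊕ Fin r → Ω) = 0 :=
        congrArg Subtype.val (LinearMap.mem_ker.1 hx)
      have hxι : ι (fun i => (x : Fin (finrank ℂ U) ⊕ Fin r → Ω) (Sum.inl i)) = x := by
        funext i
        rcases i with i | i
        · rfl
        · exact (congrFun hx0 i).symm
      have hm : (fun i => (x : Fin (finrank ℂ U) ⊕ Fin r → Ω) (Sum.inl i)) ∈ S1 := by
        rw [hS1def, Submodule.mem_comap, hxι]; exact x.2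
      rw [LinearMap.mem_ker, show x = ι.restrict (fun y (hy : y ∈ S1) => hy) ⟨_, hm⟩ from
        Subtype.ext hxι.symm]
      exact LinearMap.congr_fun h0 ⟨_, hm⟩
    let f2 : Submodule.map pr S' →ₗ[Ω] W :=
      (LinearMap.ker ψ).liftQ f' hker ∘ₗ (LinearMap.quotKerEquivOfSurjective ψ hψ).symm.toLinearMap
    have hf2 : ∀ x, f2 (ψ x) = f' x := fun x => by
      show (LinearMap.ker ψ).liftQ f' hker
        ((LinearMap.quotKerEquivOfSurjective ψ hψ).symm (ψ x)) = _
      rw [show (LinearMap.quotKerEquivOfSurjective ψ hψ).symm (ψ x) = Submodule.Quotient.mk x from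
        (LinearEquiv.symm_apply_eq _).2 rfl, Submodule.liftQ_apply]
    have hS2 : ∀ g, ∀ y ∈ Submodule.map pr S', redRep B η b g y ∈ Submodule.map pr S' := by
      rintro g _ ⟨x, hx, rfl⟩
      exact ⟨_, hS' g x hx, hpr g x⟩
    refine ih r (by omega) b ⟨_, hS2, f2, fun w => ?_, fun g y => ?_⟩
    · obtain ⟨x, rfl⟩ := hf' w
      exact ⟨ψ x, hf2 x⟩
    · obtain ⟨x, rfl⟩ := hψ y
      rw [hf2, show subRep _ _ hS2 g (ψ x) = ψ (subRep _ S' hS' g x) from Subtype.ext (hpr g x).symm,
        hf2, hfe']
  · -- the constituent lies in the first block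
    have hS1 : ∀ g, ∀ x ∈ S1, redRep B η a g x ∈ S1 := fun g x hx => by
      rw [hS1def, Submodule.mem_comap, ← hι]
      exact hS' g _ hx
    have hfe1 : ∀ g x, f1 (subRep _ S1 hS1 g x) = π g (f1 x) := fun g x => by
      rw [show π g (f1 x) = f' (subRep _ S' hS' g ⟨ι x, x.2⟩) from (hfe' g ⟨ι x, x.2⟩).symm]
      exact congrArg f' (Subtype.ext (hι g x).symm)
    refine ih _ h1 a ⟨S1, hS1, f1, ?_, hfe1⟩
    rw [← LinearMap.range_eq_top]
    refine (hW.2 _ ?_).resolve_left fun h => h0 (LinearMap.range_eq_bot.1 h)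
    rintro g _ ⟨x, rfl⟩
    exact ⟨_, hfe1 g x⟩

/-- Every simple representation is a constituent of the reduction of an irreducible one. -/
theorem exists_simple [Finite G] {W : Type*} [AddCommGroup W] [Module Ω W] (π : Representation Ω G W)
    (hW : IsSimple π) : ∃ (D : ℕ) (τ : G →* Matrix (Fin D) (Fin D) B), IsSimple (cxRep B τ) ∧
      IsConst (redRep B η τ) π := by
  classical
  haveI := Fintype.ofFinite G
  let e : G ≃ Fin (Fintype.card G) := Fintype.equivFin G
  let σ : G →* Matrix (Fin (Fintype.card G)) (Fin (Fintype.card G)) B :=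
    { toFun := fun g => Matrix.of fun i j => if i = e (g * e.symm j) then 1 else 0
      map_one' := by
        ext i j
        simp [Matrix.one_apply]
      map_mul' := fun g h => by
        ext i j
        simp [Matrix.mul_apply, mul_assoc] }
  obtain ⟨v, hv⟩ := (hW.1).exists_pair_ne |> fun ⟨x, y, hxy⟩ => (⟨x - y, sub_ne_zero.2 hxy⟩ : ∃ v : W, v ≠ 0)
  let F : (Fin (Fintype.card G) → Ω) →ₗ[Ω] W :=
    Fintype.linearCombination Ω (fun i => π (e.symm i) v)
  have hF : ∀ g x, F (redRep B η σ g x) = π g (F x) := fun g x => by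
    simp only [F, Fintype.linearCombination_apply, map_sum, map_smul, ← Module.End.mul_apply,
      ← map_mul, redRep_apply, Matrix.mulVec, dotProduct, Finset.sum_smul]
    rw [Finset.sum_comm]
    refine Finset.sum_congr rfl fun j _ => ?_
    rw [Finset.sum_eq_single (e (g * e.symm j))]
    · simp [σ]
    · intro i _ hi
      simp [σ, hi]
    · simp
  refine exists_simple_of_const B η hW _ σ
    ⟨⊤, fun _ _ _ => trivial, F ∘ₗ Submodule.topEquiv.toLinearMap, fun w => ?_, fun g x => hF g x⟩
  have hr : LinearMap.range F = ⊤ := by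
    refine (hW.2 _ ?_).resolve_left fun h => hv ?_
    · rintro g _ ⟨x, rfl⟩
      exact ⟨_, hF g x⟩
    · have h1 : F (Pi.single (e 1) 1) = 0 := LinearMap.congr_fun (LinearMap.range_eq_bot.1 h) _
      simpa [F, Fintype.linearCombination_apply_single] using h1
  obtain ⟨x, hx⟩ := LinearMap.range_eq_top.1 hr w
  exact ⟨⟨x, trivial⟩, hx⟩

/-- Reduction does not increase the rank. -/
theorem rank_red_le {N : ℕ} (E : Matrix (Fin N) (Fin N) B) :
    (E.map (red B η)).rank ≤ (E.map B.subtype).rank := by
  classical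
  obtain ⟨c, hc, hspan, hli⟩ := exists_linearIndependent Ω (Set.range (E.map (red B η)).col)
  haveI : Finite c := Set.Finite.to_subtype ((Set.finite_range _).subset hc)
  haveI := Fintype.ofFinite c
  have hrk : (E.map (red B η)).rank = Fintype.card c := by
    rw [Matrix.rank_eq_finrank_span_cols, ← hspan,
      ← Set.toFinset_card, finrank_span_set_eq_card hli]
  choose sel hsel using fun i : c => hc i.2
  let s : Fin (Fintype.card c) → Fin N := fun i => sel ((Fintype.equivFin c).symm i)
  let M : Matrix (Fin N) (Fin (Fintype.card c)) B := E.submatrix id s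
  have hMi : Function.Injective (M.map (red B η)).mulVec := by
    rw [Matrix.mulVec_injective_iff]
    have : (M.map (red B η)).col = (fun x : c => (x : Fin N → Ω)) ∘ (Fintype.equivFin c).symm :=
      funext fun i => hsel _
    rw [this]
    exact hli.comp _ (Equiv.injective _)
  obtain ⟨t, ht⟩ := exists_minor _ hMi
  have hdet : ((M.submatrix t id).map B.subtype).det ≠ 0 := by
    intro h
    apply ht
    rw [← RingHom.mapMatrix_apply, ← RingHom.map_det] at h
    rw [Matrix.submatrix_map, ← RingHom.mapMatrix_apply, ← RingHom.map_det,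
      (Subtype.ext h : (M.submatrix t id).det = 0), map_zero]
  rw [hrk]
  calc Fintype.card c = Fintype.card (Fin (Fintype.card c)) := (Fintype.card_fin _).symm
    _ = ((M.submatrix t id).map B.subtype).rank :=
        (Matrix.rank_of_isUnit _ ((Matrix.isUnit_iff_isUnit_det _).2 (isUnit_iff_ne_zero.2 hdet))).symm
    _ ≤ (E.map B.subtype).rank := by
        rw [show (M.submatrix t id).map B.subtype = (E.map B.subtype).submatrix t s by
          simp only [M, Matrix.submatrix_submatrix, Matrix.submatrix_map]; rfl]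
        exact Matrix.rank_submatrix_le (E.map B.subtype) t s

/-- The fixed space of an element of order prime to the characteristic as the rank of its average. -/
theorem fx_eq_rank {K : Type*} [Field K] (φ : B →+* K) {N : ℕ} (σ : G →* Matrix (Fin N) (Fin N) B)
    {g : G} {m : ℕ} (hg : g ^ m = 1) (u : Bˣ) (hu : (u : B) = (m : B)) :
    let E : Matrix (Fin N) (Fin N) B := (↑u⁻¹ : B) • ∑ i ∈ Finset.range m, σ g ^ i
    fx (matRep (φ.mapMatrix.toMonoidHom.comp σ) g) = (E.map φ).rank ∧
      (E.map φ).rank + ((1 - E).map φ).rank = N := by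
  intro E
  set f : Module.End K (Fin N → K) := matRep (φ.mapMatrix.toMonoidHom.comp σ) g with hfdef
  have hfm : f ^ m = 1 := by rw [hfdef, ← map_pow, hg, map_one]
  have hmK : (m : K) ≠ 0 := by
    rw [← map_natCast φ, ← hu]
    exact (u.isUnit.map φ).ne_zero
  have hsm : ∀ (c : B) (M : Matrix (Fin N) (Fin N) B), φ.mapMatrix (c • M) = φ c • φ.mapMatrix M :=
    fun c M => by ext i j; simp
  have hE : Matrix.toLinAlgEquiv' (E.map φ) = avg f m := by
    show Matrix.toLinAlgEquiv' (φ.mapMatrix E) = _
    simp only [E, hsm, map_smul, map_sum, map_pow, avg, hfdef]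
    congr 1
    have h1 : φ ↑u⁻¹ * φ ↑u = 1 := by rw [← map_mul, Units.inv_mul, map_one]
    rw [hu, map_natCast] at h1
    exact eq_inv_of_mul_eq_one_left h1
  have hrange : LinearMap.range (avg f m) = LinearMap.ker (f - 1) := by
    ext v
    rw [mem_fix]
    exact ⟨fun ⟨w, hw⟩ => hw ▸ apply_avg hfm w, fun hv => ⟨v, avg_apply_of_fixed hmK hv⟩⟩
  have hker : LinearMap.range (1 - avg f m) = LinearMap.ker (avg f m) := by
    ext v
    refine ⟨?_, fun hv => ⟨v, by simp [LinearMap.mem_ker.1 hv]⟩⟩
    rintro ⟨w, rfl⟩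
    simp only [LinearMap.mem_ker, LinearMap.sub_apply, Module.End.one_apply, map_sub]
    rw [avg_apply_of_fixed hmK (apply_avg hfm w), sub_self]
  have hr : ∀ M : Matrix (Fin N) (Fin N) K,
      M.rank = finrank K (LinearMap.range (Matrix.toLinAlgEquiv' M)) := fun M => rfl
  rw [hr, hr, show ((1 - E).map φ) = 1 - E.map φ by
    rw [Matrix.map_sub _ (map_sub φ), Matrix.map_one _ (map_zero φ) (map_one φ)], map_sub, map_one,
    hE, hrange, hker]
  refine ⟨rfl, ?_⟩
  have h := LinearMap.finrank_range_add_finrank_ker (avg f m)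
  rwa [hrange, finrank_fin_fun] at h

/-- An element of order prime to the characteristic keeps the dimension of its fixed space. -/
theorem fx_red {N : ℕ} (σ : G →* Matrix (Fin N) (Fin N) B) {g : G} {m : ℕ} (hg : g ^ m = 1)
    (hm : (m : Ω) ≠ 0) : fx (redRep B η σ g) = fx (cxRep B σ g) := by
  have hu : IsUnit ((m : ℕ) : B) := (red_ne_zero_iff B η).1 (by rw [map_natCast]; exact hm)
  obtain ⟨u, hu⟩ := hu
  obtain ⟨k1, k2⟩ := fx_eq_rank B (red B η) σ hg u hu
  obtain ⟨k3, k4⟩ := fx_eq_rank B B.subtype σ hg u hu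
  have h1 := rank_red_le B η ((↑u⁻¹ : B) • ∑ i ∈ Finset.range m, σ g ^ i)
  have h2 := rank_red_le B η (1 - (↑u⁻¹ : B) • ∑ i ∈ Finset.range m, σ g ^ i)
  show fx (matRep ((red B η).mapMatrix.toMonoidHom.comp σ) g) =
    fx (matRep (B.subtype.mapMatrix.toMonoidHom.comp σ) g)
  omega

end CfsgLib.FixSixth
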