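import Cfsg.Agent.FixSixth.Chain

/-!
# Weights and fixed spaces on the simple modules in characteristic `p`

A simple module of dimension `m` has the weights of the forms of degree `m - 1`, the ranks of powers of
the weight two operator are at least those of a chain, and an element of order three fixes at least
`loBound p m` dimensions.
-/

set_option autoImplicit false
set_option linter.unusedSectionVars false
set_option linter.style.haveILetI false

namespace CfsgLib.FixSixth

open Module Matrix
open scoped MatrixGroups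

/-- The number of chain weights congruent to `a`. -/
def cnt (p m a : ℕ) : ℕ := ((Finset.range m).filter fun i => 2 * i % (p - 1) = (a + m - 1) % (p - 1)).card

/-- The number of chain weights congruent to `a` with at least `j` steps above. -/
def cntR (p m a j : ℕ) : ℕ :=
  ((Finset.range m).filter fun i => 2 * i % (p - 1) = (a + m - 1) % (p - 1) ∧ i + j < m).card

/-- A lower bound for the fixed space of an element of order three. -/
def loBound (p m : ℕ) : ℕ :=
  if m < p then ((Finset.range m).filter fun i => i % 3 = 2 * (m - 1) % 3).card else p / 3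

variable {p : ℕ} [Fact p.Prime] {k : Type*} [Field k] [CharP k p]

section Model

/-- The action on pairs. -/
def actPair (g : SL(2, ZMod p)) (q : k × k) : k × k :=
  (q.1 * emb p k (g 0 0) + q.2 * emb p k (g 1 0), q.1 * emb p k (g 0 1) + q.2 * emb p k (g 1 1))

/-- The representation on functions of pairs. -/
noncomputable def funRep (p : ℕ) [Fact p.Prime] (k : Type*) [Field k] [CharP k p] :
    Representation k SL(2, ZMod p) (k × k → k) where
  toFun g := LinearMap.funLeft k k (actPair g)
  map_one' := by
    refine LinearMap.ext fun F => funext fun q => ?_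
    simp [LinearMap.funLeft_apply, actPair]
  map_mul' a b := by
    refine LinearMap.ext fun F => funext fun q => ?_
    simp only [Module.End.mul_apply, LinearMap.funLeft_apply]
    congr 1
    have h : ∀ i j, (a * b) i j = a i 0 * b 0 j + a i 1 * b 1 j := fun i j => by
      simp [Matrix.mul_apply, Fin.sum_univ_two]
    simp only [actPair, h, map_add, map_mul]
    ext <;> ring

theorem funRep_apply (g : SL(2, ZMod p)) (F : k × k → k) (q : k × k) :
    funRep p k g F q = F (actPair g q) := rfl

/-- The monomial functions. -/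
def mono (a b : ℕ) : k × k → k := fun q => q.1 ^ a * q.2 ^ b

/-- Forms of degree `n` with low degree in the second variable. -/
noncomputable def forms (k : Type*) [Field k] (n d : ℕ) : Submodule k (k × k → k) :=
  Submodule.span k ((fun b => mono (n - b) b) '' ((Finset.range d : Finset ℕ) : Set ℕ))

theorem mono_mem_forms {n d b : ℕ} (hb : b < d) : (mono (n - b) b : k × k → k) ∈ forms k n d :=
  Submodule.subset_span ⟨b, Finset.mem_coe.2 (Finset.mem_range.2 hb), rfl⟩

theorem finrank_forms_le (n d : ℕ) : finrank k (forms k n d) ≤ d := by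
  classical
  rw [forms, ← Finset.coe_image]
  exact (finrank_span_finset_le_card _).trans (Finset.card_image_le.trans (Finset.card_range d).le)

theorem forms_finite (n d : ℕ) : FiniteDimensional k (forms k n d) :=
  FiniteDimensional.span_of_finite k ((Finset.finite_toSet _).image _)

theorem linear_mul_mem {n : ℕ} {F : k × k → k} (hF : F ∈ forms k n (n + 1)) (α β : k) :
    (fun q => (α * q.1 + β * q.2) * F q) ∈ forms k (n + 1) (n + 2) := by
  induction hF using Submodule.span_induction with
  | mem F hF =>
    obtain ⟨b, hb, rfl⟩ := hF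
    rw [Finset.mem_coe, Finset.mem_range] at hb
    have e : (fun q : k × k => (α * q.1 + β * q.2) * mono (n - b) b q) =
        α • mono (n + 1 - b) b + β • mono (n + 1 - (b + 1)) (b + 1) := by
      funext q
      simp only [mono, Pi.add_apply, Pi.smul_apply, smul_eq_mul]
      rw [show n + 1 - b = n - b + 1 by omega, show n + 1 - (b + 1) = n - b by omega]
      ring
    rw [e]
    exact add_mem (Submodule.smul_mem _ _ (mono_mem_forms (by omega)))
      (Submodule.smul_mem _ _ (mono_mem_forms (by omega)))
  | zero => convert zero_mem (forms k (n + 1) (n + 2)) using 1; funext q; simp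
  | add F G _ _ hF hG =>
    convert add_mem hF hG using 1; funext q; simp only [Pi.add_apply]; ring
  | smul c F _ hF =>
    convert Submodule.smul_mem _ c hF using 1; funext q; simp only [Pi.smul_apply, smul_eq_mul]; ring

theorem xop_mem_forms {n d : ℕ} (hd : d ≤ n) {F : k × k → k} (hF : F ∈ forms k n (d + 1)) :
    xop (funRep p k) F ∈ forms k n d := by
  induction hF using Submodule.span_induction with
  | mem F hF =>
    obtain ⟨b, hb, rfl⟩ := hF
    rw [Finset.mem_coe, Finset.mem_range] at hb
    have e : xop (funRep p k) (mono (n - b) b) =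
        ∑ l ∈ Finset.range b, ((b.choose l : ℕ) : k) • mono (n - l) l := by
      funext q
      simp only [xop, LinearMap.sub_apply, Module.End.one_apply, Pi.sub_apply, funRep_apply,
        Finset.sum_apply, Pi.smul_apply, smul_eq_mul, mono]
      have hq : actPair (up 1 : SL(2, ZMod p)) q = (q.1, q.1 + q.2) := by simp [actPair, coe_up]
      rw [hq]
      dsimp only
      rw [add_comm q.1 q.2, add_pow, Finset.sum_range_succ, Nat.choose_self, Nat.cast_one, mul_one,
        Nat.sub_self, pow_zero, mul_one, mul_add, add_sub_cancel_right, Finset.mul_sum]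
      refine Finset.sum_congr rfl fun l hl => ?_
      rw [Finset.mem_range] at hl
      rw [show n - l = (n - b) + (b - l) by omega, pow_add]
      ring
    rw [e]
    exact Submodule.sum_mem _ fun l hl => Submodule.smul_mem _ _
      (mono_mem_forms (by rw [Finset.mem_range] at hl; omega))
  | zero => rw [map_zero]; exact zero_mem _
  | add F G _ _ hF hG => rw [map_add]; exact add_mem hF hG
  | smul c F _ hF => rw [map_smul]; exact Submodule.smul_mem _ _ hF

theorem xop_pow_forms {n : ℕ} : ∀ (j d : ℕ), d ≤ n + 1 → ∀ F ∈ forms k n d,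
    (xop (funRep p k) ^ j) F ∈ forms k n (d - j) := by
  intro j
  induction j with
  | zero => intro d _ F hF; simpa using hF
  | succ j ih =>
    intro d hd F hF
    have h := ih d hd F hF
    rw [pow_succ', Module.End.mul_apply]
    rcases Nat.eq_zero_or_pos (d - j) with h0 | hpos
    · have hbot : forms k n 0 = ⊥ := by simp [forms]
      rw [h0, hbot, Submodule.mem_bot] at h
      rw [h, map_zero]; exact zero_mem _
    · rw [show d - j = (d - (j + 1)) + 1 by omega] at h
      exact xop_mem_forms (by omega) h

end Model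

variable {V : Type*} [AddCommGroup V] [Module k V] [FiniteDimensional k V] [IsAlgClosed k]
  {π : Representation k SL(2, ZMod p) V} {v : V} {m : ℕ}

theorem ev_translate (c : ZMod p) : π (up 1) (ev π v c) = ev π v (1 + c) := by
  rw [ev, ev, up_add, map_mul, Module.End.mul_apply]

theorem chain_mem_span_ev (i : ℕ) : (xop π ^ i) (π J v) ∈ Submodule.span k (Set.range (ev π v)) := by
  induction i with
  | zero => exact Submodule.subset_span ⟨0, by simp [ev, up_zero]⟩
  | succ n ih =>
    rw [pow_succ', Module.End.mul_apply, xop, LinearMap.sub_apply, Module.End.one_apply]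
    refine Submodule.sub_mem _ ?_ ih
    have hle : Submodule.span k (Set.range (ev π v)) ≤
        (Submodule.span k (Set.range (ev π v))).comap (π (up 1)) := Submodule.span_le.2 (by
      rintro _ ⟨c, rfl⟩
      exact Submodule.subset_span ⟨1 + c, (ev_translate c).symm⟩)
    exact hle ih

omit [FiniteDimensional k V] [IsAlgClosed k] in
theorem pow_pred_eq_zero {W : Type*} [AddCommGroup W] [Module k W] {x : Module.End k W} {u : W}
    (hmp : m < p) (h : (x ^ m) u = 0) : (x ^ (p - 1)) u = 0 := by
  rw [show p - 1 = (p - 1 - m) + m by omega, pow_add, Module.End.mul_apply, h, map_zero]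

/-- Short chains: comparison with forms. -/
theorem fx_short (hp7 : 7 ≤ p) (hπ : IsSimple π) (hm1 : 1 ≤ m) (hmp : m < p) (hn : finrank k V = m)
    (hhigh : IsHigh π v ((m : ℤ) - 1))
    (hLI : LinearIndependent k fun i : Fin m => (xop π ^ (i : ℕ)) (π J v))
    (hm0 : (xop π ^ m) (π J v) = 0) :
    ((Finset.range m).filter fun i => i % 3 = 2 * (m - 1) % 3).card ≤ fx (π (w3 : SL(2, ZMod p))) := by
  classical
  haveI : Nonempty (Fin m) := ⟨⟨0, hm1⟩⟩
  let b := basisOfLinearIndependentOfCardEqFinrank hLI (by rw [Fintype.card_fin, hn])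
  set ρ := funRep p k with hρ
  set K := m - 1 with hK
  set v' : k × k → k := fun q => q.1 ^ K with hv'
  have hhigh' : IsHigh ρ v' ((m : ℤ) - 1) := by
    refine ⟨?_, fun a => ?_⟩
    · funext q; simp [hρ, hv', funRep_apply, actPair, coe_up]
    · funext q
      rw [hρ, funRep_apply, Pi.smul_apply, smul_eq_mul, show ((m : ℤ) - 1) = ((K : ℕ) : ℤ) by omega,
        ch_natCast, hv']
      show (q.1 * emb p k (((tor a : SL(2, ZMod p)) : Matrix (Fin 2) (Fin 2) (ZMod p)) 0 0) +
        q.2 * emb p k (((tor a : SL(2, ZMod p)) : Matrix (Fin 2) (Fin 2) (ZMod p)) 1 0)) ^ K = _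
      rw [coe_tor]
      simp only [of_apply, cons_val_zero, cons_val', empty_val', cons_val_fin_one, cons_val_one, map_zero,
        mul_zero, add_zero, mul_pow, map_pow]
      ring
  have he0 : ρ J v' = mono 0 K := by
    funext q; simp [hρ, hv', funRep_apply, actPair, coe_J, mono]
  have he0mem : ρ J v' ∈ forms k K m := by
    rw [he0, show (0 : ℕ) = K - K by omega]; exact mono_mem_forms (by omega)
  have hm0' : (xop ρ ^ m) (ρ J v') = 0 := by
    have := xop_pow_forms (p := p) m m (by omega) _ he0mem
    rwa [Nat.sub_self, forms, Finset.range_zero, Finset.coe_empty, Set.image_empty, Submodule.span_empty,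
      Submodule.mem_bot] at this
  let ψ : V →ₗ[k] (k × k → k) := b.constr k fun i : Fin m => (xop ρ ^ (i : ℕ)) (ρ J v')
  have hb : ∀ i : Fin m, b i = (xop π ^ (i : ℕ)) (π J v) := fun i => by
    simp [b]
  have hψb : ∀ i : ℕ, ψ ((xop π ^ i) (π J v)) = (xop ρ ^ i) (ρ J v') := fun i => by
    rcases Nat.lt_or_ge i m with hi | hi
    · rw [← hb ⟨i, hi⟩, Basis.constr_basis]
    · rw [show i = (i - m) + m by omega, pow_add, pow_add, Module.End.mul_apply, Module.End.mul_apply,
        hm0, hm0', map_zero, map_zero, map_zero]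
  have hψev : ∀ c, ψ (ev π v c) = ev ρ v' c := fun c => by
    simp only [ev_eq, map_sum, map_smul, hψb]
  have hψff : ∀ i, ψ (ff π v i) = ff ρ v' i := fun i => by
    simp only [ff, map_sum, map_smul, hψev]
  have hψv : ψ v = v' := by
    rw [hhigh.eq_neg_ff (pow_pred_eq_zero hmp hm0), map_neg, hψff,
      ← hhigh'.eq_neg_ff (pow_pred_eq_zero hmp hm0')]
  have hspan : ∀ w, w ∈ Submodule.span k (Set.range (ev π v)) := fun w => by
    have : ⊤ ≤ Submodule.span k (Set.range (ev π v)) := by
      rw [← b.span_eq, Submodule.span_le]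
      rintro _ ⟨i, rfl⟩
      rw [hb]
      exact chain_mem_span_ev _
    exact this Submodule.mem_top
  have hequiv : ∀ g w, ψ (π g w) = ρ g (ψ w) := by
    let S : Submonoid SL(2, ZMod p) :=
      { carrier := {g | ∀ w, ψ (π g w) = ρ g (ψ w)}
        one_mem' := fun w => by rw [map_one, map_one]; rfl
        mul_mem' := fun {x y} hx hy w => by
          rw [map_mul, map_mul, Module.End.mul_apply, Module.End.mul_apply, hx, hy] }
    have hgen : ∀ g, (∀ c, ψ (π g (ev π v c)) = ρ g (ev ρ v' c)) → g ∈ S := fun g h w => by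
      induction hspan w using Submodule.span_induction with
      | mem x hx => obtain ⟨c, rfl⟩ := hx; rw [h, hψev]
      | zero => simp
      | add x y _ _ hx hy => simp only [map_add, hx, hy]
      | smul c x _ hx => simp only [map_smul, hx]
    have hu : up 1 ∈ S := hgen _ fun c => by rw [ev_translate, hψev, ev, ev, up_add, map_mul, Module.End.mul_apply]
    have hJ : J ∈ S := hgen _ fun c => by
      by_cases hc : c = 0
      · rw [hc, hhigh.J_ev_zero, hhigh'.J_ev_zero, map_smul, hψv]
      · rw [show c = ((Units.mk0 c hc : (ZMod p)ˣ) : ZMod p) from rfl, hhigh.J_ev, hhigh'.J_ev, map_smul, hψev]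
    let H : Subgroup SL(2, ZMod p) :=
      { S with
        inv_mem' := fun {g} hg => by
          rw [show g⁻¹ = g ^ (orderOf g - 1) from inv_eq_of_mul_eq_one_right (by
            rw [← pow_succ', Nat.sub_add_cancel (orderOf_pos g), pow_orderOf_eq_one])]
          exact pow_mem (S := S) hg _ }
    exact fun g w => mem_of_up_J (S := H) hu hJ g w
  have hψinj : LinearMap.ker ψ = ⊥ := by
    refine (hπ.2 _ fun g w hw => ?_).resolve_right fun h => ?_
    · rw [LinearMap.mem_ker] at hw ⊢; rw [hequiv, hw, map_zero]
    · have h1 := congrFun (hψv.symm.trans (LinearMap.congr_fun (LinearMap.ker_eq_top.1 h) v)) (1, 0)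
      simp [hv'] at h1
  have hrange : LinearMap.range ψ = forms k K m := by
    haveI := forms_finite (k := k) K m
    refine Submodule.eq_of_le_of_finrank_le ?_ ?_
    · rintro _ ⟨w, rfl⟩
      induction (b.span_eq ▸ Submodule.mem_top : w ∈ Submodule.span k (Set.range b))
        using Submodule.span_induction with
      | mem x hx =>
        obtain ⟨i, rfl⟩ := hx
        rw [hb, hψb]
        have h := xop_pow_forms (p := p) (i : ℕ) m (by omega) _ he0mem
        have hle : forms k K (m - (i : ℕ)) ≤ forms k K m := Submodule.span_mono (Set.image_mono (by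
          intro a ha; simp only [Finset.coe_range, Set.mem_Iio] at ha ⊢; omega))
        exact hle h
      | zero => rw [map_zero]; exact zero_mem _
      | add x y _ _ hx hy => rw [map_add]; exact add_mem hx hy
      | smul c x _ hx => rw [map_smul]; exact Submodule.smul_mem _ _ hx
    · rw [LinearMap.finrank_range_of_inj (LinearMap.ker_eq_bot.1 hψinj), hn]
      exact finrank_forms_le K m
  -- the fixed forms
  obtain ⟨ω, hω⟩ := IsAlgClosed.exists_root (Polynomial.X ^ 2 + Polynomial.X + 1 : Polynomial k) (by
    rw [Polynomial.degree_eq_natDegree, show (Polynomial.X ^ 2 + Polynomial.X + 1 : Polynomial k).natDegree = 2 by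
      compute_degree!]
    · decide
    · intro h
      have := congrArg (fun P : Polynomial k => P.coeff 2) h
      simp [Polynomial.coeff_one, Polynomial.coeff_X] at this)
  have hω2 : ω ^ 2 + ω + 1 = 0 := by simpa [Polynomial.IsRoot.def] using hω
  have hω3 : ω ^ 3 = 1 := by linear_combination (ω - 1) * hω2
  have h3 : (3 : k) ≠ 0 := fun e => by
    have h : ((3 : ℕ) : k) = 0 := by exact_mod_cast e
    rw [CharP.cast_eq_zero_iff k p] at h
    have := Nat.le_of_dvd (by norm_num) h
    omega
  have hωne : ω ^ 2 - ω ≠ 0 := fun e => h3 (by linear_combination (3 - 2 * ω) * hω2 + (2 * ω + 1) * e)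
  let lA : k × k → k := fun q => q.1 + ω ^ 2 * q.2
  let lB : k × k → k := fun q => q.1 + ω * q.2
  let s := (Finset.range m).filter fun i => i % 3 = 2 * (m - 1) % 3
  let L : s → (k × k → k) := fun i q => lA q ^ (i : ℕ) * lB q ^ (K - i)
  have hprod : ∀ a c : ℕ, (fun q => lA q ^ a * lB q ^ c) ∈ forms k (a + c) (a + c + 1) := by
    intro a
    induction a with
    | zero =>
      intro c
      induction c with
      | zero =>
        convert mono_mem_forms (k := k) (n := 0) (b := 0) (d := 1) (by omega) using 1
        funext q; simp [mono]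
      | succ c ih =>
        rw [show 0 + (c + 1) = 0 + c + 1 by omega]
        convert linear_mul_mem ih 1 ω using 1
        funext q; simp only [pow_zero, one_mul, lB, pow_succ']
    | succ a ih =>
      intro c
      rw [show a + 1 + c = a + c + 1 by omega]
      convert linear_mul_mem (ih c) 1 (ω ^ 2) using 1
      funext q; simp only [lA, pow_succ', one_mul]; ring
  have hLfix : ∀ i, ρ w3 (L i) = L i := fun i => by
    funext q
    have hw : actPair (w3 : SL(2, ZMod p)) q = (-q.1 + q.2, -q.1) := by
      simp [actPair, w3, coe_up, coe_J]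
    have hA : lA (-q.1 + q.2, -q.1) = ω * lA q := by
      simp only [lA]; linear_combination (-q.1) * hω2 - q.2 * hω3
    have hB : lB (-q.1 + q.2, -q.1) = ω ^ 2 * lB q := by
      simp only [lB]; linear_combination (-q.1) * hω2 - q.2 * hω3
    rw [hρ, funRep_apply, hw]
    simp only [L, hA, hB, mul_pow]
    have hi := (Finset.mem_filter.1 i.2)
    rw [Finset.mem_range] at hi
    obtain ⟨t, ht⟩ : 3 ∣ (i : ℕ) + 2 * (K - i) := Nat.dvd_of_mod_eq_zero (by omega)
    rw [show ω ^ (i : ℕ) * lA q ^ (i : ℕ) * ((ω ^ 2) ^ (K - i) * lB q ^ (K - i)) =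
      ω ^ ((i : ℕ) + 2 * (K - i)) * (lA q ^ (i : ℕ) * lB q ^ (K - i)) by rw [← pow_mul, pow_add]; ring,
      ht, pow_mul, hω3, one_pow, one_mul]
  have hLmem : ∀ i, ∃ w ∈ LinearMap.ker (π w3 - 1), ψ w = L i := fun i => by
    have hi := (Finset.mem_filter.1 i.2).1
    rw [Finset.mem_range] at hi
    have : L i ∈ LinearMap.range ψ := by
      rw [hrange]
      have h := hprod (i : ℕ) (K - i)
      rwa [show (i : ℕ) + (K - i) = K by omega, show K + 1 = m by omega] at h
    obtain ⟨w, hw⟩ := this
    refine ⟨w, mem_fix.2 (LinearMap.ker_eq_bot.1 hψinj ?_), hw⟩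
    rw [hequiv, hw, hLfix]
  choose u hu hψu using hLmem
  have hLli : LinearIndependent k L := by
    rw [Fintype.linearIndependent_iff]
    intro c hc
    let P : Polynomial k := ∑ i, Polynomial.C (c i) * Polynomial.X ^ (i : ℕ)
    have hP : P = 0 := Polynomial.funext fun t => by
      set q2 := (t - 1) / (ω ^ 2 - ω) with hq2
      have h1 := congrFun hc (1 - ω * q2, q2)
      have hA : lA (1 - ω * q2, q2) = t := by
        simp only [lA]
        have : (ω ^ 2 - ω) * q2 = t - 1 := mul_div_cancel₀ _ hωne
        linear_combination this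
      have hB : lB (1 - ω * q2, q2) = 1 := by simp only [lB]; ring
      simp only [Finset.sum_apply, Pi.smul_apply, smul_eq_mul, L, hA, hB, one_pow, mul_one, Pi.zero_apply] at h1
      simp only [P, Polynomial.eval_finsetSum, Polynomial.eval_mul, Polynomial.eval_C, Polynomial.eval_pow,
        Polynomial.eval_X, Polynomial.eval_zero, h1]
    intro i
    have := congrArg (fun Q : Polynomial k => Q.coeff (i : ℕ)) hP
    simp only [P, Polynomial.finsetSum_coeff, Polynomial.coeff_C_mul_X_pow, Polynomial.coeff_zero] at this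
    rwa [Finset.sum_eq_single i (fun j _ hj => if_neg fun e => hj (Subtype.ext e.symm))
      (fun h => absurd (Finset.mem_univ _) h), if_pos rfl] at this
  have huli : LinearIndependent k fun i => (⟨u i, hu i⟩ : LinearMap.ker (π w3 - 1)) := by
    refine LinearIndependent.of_comp (ψ ∘ₗ Submodule.subtype _) ?_
    have e : (⇑(ψ ∘ₗ Submodule.subtype _) ∘ fun i => (⟨u i, hu i⟩ : LinearMap.ker (π w3 - 1))) = L :=
      funext hψu
    rw [e]; exact hLli
  have := huli.fintype_card_le_finrank
  rwa [Fintype.card_coe] at this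

/-- Full chains: a permutation module. -/
theorem fx_full (hp7 : 7 ≤ p) (hn : finrank k V = p) (hhigh : IsHigh π v ((p : ℤ) - 1))
    (hLI : LinearIndependent k fun i : Fin p => (xop π ^ (i : ℕ)) (π J v)) :
    p / 3 ≤ fx (π (w3 : SL(2, ZMod p))) := by
  classical
  have hspan : ⊤ ≤ Submodule.span k (Set.range (ev π v)) := by
    rw [← (hLI.span_eq_top_of_card_eq_finrank (by rw [Fintype.card_fin, hn])), Submodule.span_le]
    rintro _ ⟨i, rfl⟩
    exact chain_mem_span_ev _
  let B : Basis (ZMod p) k V := basisOfTopLeSpanOfCardEqFinrank (ev π v) hspan (by rw [ZMod.card, hn])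
  have hB : ∀ c, B c = ev π v c := fun c => by simp [B]
  let τ : ZMod p → ZMod p := fun c => -c⁻¹ - 1
  have hw : ∀ c : ZMod p, c ≠ 0 → π w3 (B c) = B (τ c) := fun c hc => by
    rw [hB, hB, w3, map_mul, Module.End.mul_apply, show c = ((Units.mk0 c hc : (ZMod p)ˣ) : ZMod p) from rfl,
      hhigh.J_ev, map_smul, ch_congr _ (show (p : ℤ) - 1 ≡ 0 [ZMOD ((p - 1 : ℕ) : ℤ)] from
        Int.modEq_iff_dvd.2 ⟨-1, by omega⟩), ch_zero, one_smul, ev, ev]
    rw [← Module.End.mul_apply (π (up (-1))), ← map_mul, ← up_add]
    congr 3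
    simp [τ]; ring
  let Y : Finset (ZMod p) := Finset.univ \ {0, -1}
  have hY : ∀ c ∈ Y, τ c ∈ Y ∧ τ (τ (τ c)) = c ∧ c ≠ 0 := fun c hc => by
    simp only [Y, Finset.mem_sdiff, Finset.mem_univ, true_and, Finset.mem_insert, Finset.mem_singleton,
      not_or] at hc ⊢
    obtain ⟨h0, h1⟩ := hc
    have hc1 : c + 1 ≠ 0 := fun e => h1 (eq_neg_of_add_eq_zero_left e)
    refine ⟨⟨fun e => hc1 ?_, fun e => ?_⟩, ?_, h0⟩
    · simp only [τ] at e; field_simp at e; linear_combination -e
    · simp only [τ] at e; field_simp at e; exact one_ne_zero (α := ZMod p) (by linear_combination -e)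
    · have e1 : τ c = -(c + 1) / c := by simp only [τ]; field_simp; ring
      have e2 : τ (τ c) = -1 / (c + 1) := by rw [e1]; simp only [τ]; field_simp; ring
      rw [e2]; simp only [τ]; field_simp; ring
  have hYcard : p ≤ Y.card + 2 := by
    have h := Finset.card_le_card_sdiff_add_card (s := (Finset.univ : Finset (ZMod p))) (t := {0, -1})
    rw [Finset.card_univ, ZMod.card] at h
    exact h.trans (Nat.add_le_add_left Finset.card_le_two _)
  let R := Y.filter fun c => c.val ≤ (τ c).val ∧ c.val ≤ (τ (τ c)).val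
  have hcover : Y ⊆ R ∪ R.image τ ∪ R.image (τ ∘ τ) := fun c hc => by
    obtain ⟨hc1, hc3, -⟩ := hY c hc
    obtain ⟨hc2, hc4, -⟩ := hY _ hc1
    obtain ⟨-, hc5, -⟩ := hY _ hc2
    simp only [Finset.mem_union, Finset.mem_image, Function.comp_apply, R, Finset.mem_filter]
    rcases le_total c.val (τ c).val with a | a <;> rcases le_total c.val (τ (τ c)).val with b | b <;>
      rcases le_total (τ c).val (τ (τ c)).val with d | d
    all_goals first
      | exact Or.inl (Or.inl ⟨hc, by omega, by omega⟩)
      | exact Or.inr ⟨τ c, ⟨hc1, by omega, by rw [hc3]; omega⟩, hc3⟩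
      | exact Or.inl (Or.inr ⟨τ (τ c), ⟨hc2, by rw [hc3]; omega, by rw [hc4]; omega⟩, hc3⟩)
  have hRcard : p / 3 ≤ R.card := by
    have h1 := (Finset.card_le_card hcover).trans ((Finset.card_union_le _ _).trans
      (Nat.add_le_add ((Finset.card_union_le _ _).trans (Nat.add_le_add le_rfl Finset.card_image_le))
        Finset.card_image_le))
    omega
  have hfix : ∀ c : R, B c + B (τ c) + B (τ (τ c)) ∈ LinearMap.ker (π w3 - 1) := fun c => by
    obtain ⟨hc1, hc3, h0⟩ := hY _ (Finset.mem_filter.1 c.2).1
    obtain ⟨hc2, -, h0'⟩ := hY _ hc1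
    obtain ⟨-, -, h0''⟩ := hY _ hc2
    rw [mem_fix, map_add, map_add, hw _ h0, hw _ h0', hw _ h0'', hc3]
    abel
  have hli : LinearIndependent k fun c : R =>
      (⟨B c + B (τ c) + B (τ (τ c)), hfix c⟩ : LinearMap.ker (π w3 - 1)) := by
    refine LinearIndependent.of_comp (Submodule.subtype _) ?_
    rw [Fintype.linearIndependent_iff]
    intro a ha c
    have h1 := congrArg (fun x => B.repr x (c : ZMod p)) ha
    simp only [Function.comp_apply, Submodule.subtype_apply, map_sum, map_smul, map_add, Finsupp.finsetSum_apply,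
      Finsupp.smul_apply, Finsupp.add_apply, Basis.repr_self, smul_eq_mul, map_zero, Finsupp.zero_apply] at h1
    obtain ⟨hc1, hc3, -⟩ := hY _ (Finset.mem_filter.1 c.2).1
    rw [Finset.sum_eq_single c] at h1
    · rw [Finsupp.single_eq_same] at h1
      refine (mul_eq_zero.1 h1).resolve_right ?_
      have h2 : (2 : k) ≠ 0 := fun e => by
        have h : ((2 : ℕ) : k) = 0 := by exact_mod_cast e
        rw [CharP.cast_eq_zero_iff k p] at h
        have := Nat.le_of_dvd (by norm_num) h
        omega
      have h3 : (3 : k) ≠ 0 := fun e => by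
        have h : ((3 : ℕ) : k) = 0 := by exact_mod_cast e
        rw [CharP.cast_eq_zero_iff k p] at h
        have := Nat.le_of_dvd (by norm_num) h
        omega
      rw [Finsupp.single_apply, Finsupp.single_apply]
      split_ifs <;> norm_num [h2, h3]
    · intro d _ hd
      obtain ⟨hd1, hd3, -⟩ := hY _ (Finset.mem_filter.1 d.2).1
      have hdR := (Finset.mem_filter.1 d.2).2
      have hcR := (Finset.mem_filter.1 c.2).2
      have hne : ∀ {x y : ZMod p}, x.val = y.val → x = y := fun h => ZMod.val_injective p h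
      have n0 : (d : ZMod p) ≠ c := fun e => hd (Subtype.ext e)
      have n1 : τ (d : ZMod p) ≠ c := fun e => n0 (hne (by
        rw [← e, hd3] at hcR
        rw [← e]
        omega))
      have n2 : τ (τ (d : ZMod p)) ≠ c := fun e => n0 (hne (by
        rw [← e, hd3] at hcR
        rw [← e]
        omega))
      rw [Finsupp.single_eq_of_ne n0.symm, Finsupp.single_eq_of_ne n1.symm, Finsupp.single_eq_of_ne n2.symm]
      simp
    · exact fun h => absurd (Finset.mem_univ _) h
  have := hli.fintype_card_le_finrank
  rw [Fintype.card_coe] at this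
  exact hRcard.trans this

omit [IsAlgClosed k] in
/-- The weight data of a chain basis. -/
theorem chain_weights {γ : (ZMod p)ˣ} (hγ : orderOf γ = p - 1) (hp7 : 7 ≤ p) (hm1 : 1 ≤ m)
    (hn : finrank k V = m) (hhigh : IsHigh π v ((m : ℤ) - 1))
    (hLI : LinearIndependent k fun i : Fin m =>
      (wN (embU p k γ) (p - 1) (π (tor γ)) (π (up 1)) ^ (i : ℕ)) (π J v)) (a : ℕ) :
    wd (embU p k γ) (π (tor γ)) a = cnt p m a ∧
      ∀ j, cntR p m a j ≤ wR (embU p k γ) (p - 1) (π (tor γ)) (π (up 1)) a j := by
  classical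
  haveI : Nonempty (Fin m) := ⟨⟨0, hm1⟩⟩
  set g := embU p k γ with hg
  set N := wN g (p - 1) (π (tor γ)) (π (up 1))
  have hW := isWeightTwo π (γ := γ)
  let b := basisOfLinearIndependentOfCardEqFinrank hLI (by rw [Fintype.card_fin, hn])
  have hb : ∀ i : Fin m, b i = (N ^ (i : ℕ)) (π J v) := fun i => by simp [b, N]
  have he0 : π J v ∈ wsp g (π (tor γ)) (-((m : ℤ) - 1)) := mem_wsp.2 (hhigh.tor_J γ)
  have hbw : ∀ i : Fin m, b i ∈ wsp g (π (tor γ)) (-((m : ℤ) - 1) + 2 * (i : ℕ)) := fun i => by
    rw [hb]; exact wN_pow_mem hW _ (Int.ModEq.refl _) he0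
  have hord : orderOf g = p - 1 := by
    rw [hg, orderOf_injective (embU p k) (Units.map_injective (emb p k).injective), hγ]
  have hiff : ∀ i : ℕ, g ^ (-((m : ℤ) - 1) + 2 * (i : ℕ)) = g ^ ((a : ℕ) : ℤ) ↔
      2 * i % (p - 1) = (a + m - 1) % (p - 1) := fun i => by
    rw [zpow_eq_zpow_iff_modEq, hord, ← Nat.ModEq, ← Int.natCast_modEq_iff]
    rw [show (((2 * i : ℕ) : ℤ)) = (-((m : ℤ) - 1) + 2 * (i : ℕ)) + ((m : ℤ) - 1) by push_cast; ring,
      show ((a + m - 1 : ℕ) : ℤ) = ((a : ℕ) : ℤ) + ((m : ℤ) - 1) by omega]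
    exact ⟨fun h => h.add_right _, fun h => Int.ModEq.add_right_cancel' _ h⟩
  let P : Fin m → Prop := fun i => 2 * (i : ℕ) % (p - 1) = (a + m - 1) % (p - 1)
  have hcount : ∀ Q : ℕ → Prop, ∀ [DecidablePred Q],
      ((Finset.univ : Finset (Fin m)).filter fun i : Fin m => Q (i : ℕ)).card = ((Finset.range m).filter Q).card := by
    intro Q _
    rw [← Finset.card_map Fin.valEmbedding]
    congr 1
    ext i
    simp only [Finset.mem_map, Finset.mem_filter, Finset.mem_univ, true_and, Fin.valEmbedding_apply,
      Finset.mem_range]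
    exact ⟨fun ⟨x, hx, e⟩ => e ▸ ⟨x.2, hx⟩, fun ⟨h1, h2⟩ => ⟨⟨i, h1⟩, h2, rfl⟩⟩
  refine ⟨?_, fun j => ?_⟩
  · have hsp : wsp g (π (tor γ)) a = Submodule.span k (b '' {i | P i}) := by
      ext x
      rw [b.mem_span_image, mem_wsp]
      have hfb : ∀ i, π (tor γ) (b i) = ((g ^ (-((m : ℤ) - 1) + 2 * (i : ℕ)) : kˣ) : k) • b i :=
        fun i => mem_wsp.1 (hbw i)
      have hrepr : ∀ i, b.repr (π (tor γ) x) i =
          ((g ^ (-((m : ℤ) - 1) + 2 * (i : ℕ)) : kˣ) : k) * b.repr x i := fun i => by
        conv_lhs => rw [← b.sum_repr x]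
        rw [map_sum, map_sum, Finsupp.finsetSum_apply, Finset.sum_eq_single i]
        · rw [map_smul, hfb, smul_smul, map_smul, Finsupp.smul_apply, b.repr_self, Finsupp.single_eq_same,
            smul_eq_mul, mul_one, mul_comm]
        · intro j _ hj
          rw [map_smul, hfb, smul_smul, map_smul, Finsupp.smul_apply, b.repr_self,
            Finsupp.single_eq_of_ne hj.symm, smul_zero]
        · exact fun h => absurd (Finset.mem_univ _) h
      constructor
      · intro hx i hi
        rw [Finset.mem_coe, Finsupp.mem_support_iff] at hi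
        have h := hrepr i
        rw [hx, map_smul, Finsupp.smul_apply, smul_eq_mul] at h
        exact (hiff i).1 (Units.ext (mul_right_cancel₀ hi h.symm))
      · intro hs
        apply b.repr.injective
        ext i
        rw [hrepr, map_smul, Finsupp.smul_apply, smul_eq_mul]
        by_cases hi : b.repr x i = 0
        · rw [hi, mul_zero, mul_zero]
        · rw [(hiff i).2 (hs (Finset.mem_coe.2 (Finsupp.mem_support_iff.2 hi)))]
    have hli' : LinearIndependent k fun i : {i // P i} => b i := b.linearIndependent.comp _ Subtype.val_injective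
    have hcard := finrank_span_eq_card hli'
    rw [wd, hsp, cnt, ← hcount]
    rw [show Submodule.span k (b '' {i | P i}) = Submodule.span k (Set.range fun i : {i // P i} => b i) by
      congr 1; ext x; simp, hcard, Fintype.card_subtype]
  · rw [cntR, ← hcount, wR]
    set s := (Finset.univ : Finset (Fin m)).filter fun i : Fin m =>
      2 * (i : ℕ) % (p - 1) = (a + m - 1) % (p - 1) ∧ (i : ℕ) + j < m
    have hs : ∀ i : s, (i : Fin m).val + j < m := fun i => (Finset.mem_filter.1 i.2).2.2
    have hmem : ∀ i : s, b ⟨(i : Fin m).val + j, hs i⟩ ∈ (wsp g (π (tor γ)) a).map (N ^ j) := fun i => by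
      refine ⟨b i, ?_, ?_⟩
      · have h := hbw i
        rw [mem_wsp] at h
        rw [SetLike.mem_coe, mem_wsp, h, (hiff _).2 (Finset.mem_filter.1 i.2).2.1]
      · rw [hb, hb, ← Module.End.mul_apply, ← pow_add, add_comm]
    have hli : LinearIndependent k fun i : s => (⟨_, hmem i⟩ : (wsp g (π (tor γ)) a).map (N ^ j)) := by
      refine LinearIndependent.of_comp (Submodule.subtype _) ?_
      exact b.linearIndependent.comp (fun i : s => (⟨(i : Fin m).val + j, hs i⟩ : Fin m)) fun x y h => by
        apply Subtype.ext; apply Fin.ext; simpa using h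
    have := hli.fintype_card_le_finrank
    rwa [Fintype.card_coe] at this

/-- **Data of a simple module.** -/
theorem simple_data (hp7 : 7 ≤ p) (hπ : IsSimple π) {γ : (ZMod p)ˣ}
    (hγ : ∀ a, a ∈ Subgroup.zpowers γ) :
    ∃ m, 1 ≤ m ∧ m ≤ p ∧ finrank k V = m ∧ loBound p m ≤ fx (π (w3 : SL(2, ZMod p))) ∧
      ∀ a : ℕ, wd (embU p k γ) (π (tor γ)) a = cnt p m a ∧
        ∀ j, cntR p m a j ≤ wR (embU p k γ) (p - 1) (π (tor γ)) (π (up 1)) a j := by
  obtain ⟨m, v, hm1, hmp, hn, hhigh, hLIN, -, hLI, hm0, -⟩ := exists_chain π hπ hγ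
  have hord : orderOf γ = p - 1 := by
    rw [orderOf_eq_card_of_forall_mem_zpowers hγ, Nat.card_eq_fintype_card, ZMod.card_units]
  refine ⟨m, hm1, hmp, hn, ?_, chain_weights hord hp7 hm1 hn hhigh hLIN⟩
  rw [loBound]
  split_ifs with h
  · exact fx_short hp7 hπ hm1 h hn hhigh hLI hm0
  · obtain rfl : m = p := by omega
    exact fx_full hp7 hn hhigh hLI

end CfsgLib.FixSixth
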