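import Cfsg.Agent.FixSixth.Fix

/-!
# Weight spaces and the weight two operator of a torus normalized unipotent element

`wsp g f a` is the eigenspace of `f` for `g ^ a`, `wd` its dimension.  For a unipotent `U` normalized
by `f` with `f U = U ^ e f`, `e = g ^ 2`, the operator `wN g f U` maps weight `a` to weight `a + 2`
and has the same kernels of powers as `U - 1`.
-/

set_option autoImplicit false
set_option linter.unusedSectionVars false

namespace CfsgLib.FixSixth

open Module

variable {k : Type*} [Field k] {V : Type*} [AddCommGroup V] [Module k V]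

/-- The weight space of weight `a`. -/
def wsp (g : kˣ) (f : Module.End k V) (a : ℤ) : Submodule k V :=
  LinearMap.ker (((g ^ (-a) : kˣ) : k) • f - 1)

/-- The dimension of the weight space. -/
noncomputable def wd (g : kˣ) (f : Module.End k V) (a : ℤ) : ℕ := finrank k (wsp g f a)

theorem wd_eq_fx (g : kˣ) (f : Module.End k V) (a : ℤ) : wd g f a = fx (((g ^ (-a) : kˣ) : k) • f) := rfl

theorem mem_wsp {g : kˣ} {f : Module.End k V} {a : ℤ} {v : V} :
    v ∈ wsp g f a ↔ f v = ((g ^ a : kˣ) : k) • v := by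
  rw [wsp, mem_fix, LinearMap.smul_apply]
  constructor
  · intro h
    conv_rhs => rw [← h, smul_smul, ← Units.val_mul, ← zpow_add, add_neg_cancel, zpow_zero,
      Units.val_one, one_smul]
  · intro h
    rw [h, smul_smul, ← Units.val_mul, ← zpow_add, neg_add_cancel, zpow_zero, Units.val_one, one_smul]

theorem zpow_eq_of_modEq {g : kˣ} {m : ℕ} (hg : g ^ m = 1) {a b : ℤ} (h : a ≡ b [ZMOD m]) :
    g ^ a = g ^ b := by
  obtain ⟨c, hc⟩ := Int.modEq_iff_dvd.1 h
  rw [show b = a + m * c by omega, zpow_add, zpow_mul, zpow_natCast, hg, one_zpow, mul_one]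

theorem wsp_congr {g : kˣ} {m : ℕ} (hg : g ^ m = 1) (f : Module.End k V) {a b : ℤ}
    (h : a ≡ b [ZMOD m]) : wsp g f a = wsp g f b := by
  rw [wsp, wsp, zpow_eq_of_modEq hg (Int.ModEq.neg h)]

theorem smul_pow_eq_one {g : kˣ} {m : ℕ} (hg : g ^ m = 1) {f : Module.End k V} (hf : f ^ m = 1)
    (a : ℤ) : (((g ^ (-a) : kˣ) : k) • f) ^ m = 1 := by
  rw [smul_pow, hf, ← Units.val_pow_eq_pow_val, ← zpow_natCast (g ^ (-a)) m, ← zpow_mul, mul_comm,
    zpow_mul, zpow_natCast, hg, one_zpow, Units.val_one, one_smul]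

/-- Dimensions of weight spaces are additive. -/
theorem wd_add [FiniteDimensional k V] {g : kˣ} {m : ℕ} (hg : g ^ m = 1) (hm : (m : k) ≠ 0)
    {f : Module.End k V} (hf : f ^ m = 1) {S : Submodule k V} (hS : ∀ v ∈ S, f v ∈ S) (a : ℤ) :
    wd g f a = wd g (f.restrict hS) a + wd g (S.mapQ S f hS) a := by
  rw [wd_eq_fx, wd_eq_fx, wd_eq_fx,
    fx_add (smul_pow_eq_one hg hf a) hm (S := S) fun v hv => S.smul_mem _ (hS v hv)]
  congr 1
  congr 1
  refine LinearMap.ext fun q => ?_
  obtain ⟨v, rfl⟩ := S.mkQ_surjective q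
  rfl

/-- The weight two operator. -/
noncomputable def wN (g : kˣ) (m : ℕ) (f U : Module.End k V) : Module.End k V :=
  (m : k)⁻¹ • ∑ i ∈ Finset.range m,
    ((g ^ (-(2 * (i : ℤ))) : kˣ) : k) • (f ^ i * (U - 1) * f ^ (m - i))

/-- The rank of the `j`-th power of the weight two operator on weight `a`. -/
noncomputable def wR (g : kˣ) (m : ℕ) (f U : Module.End k V) (a : ℤ) (j : ℕ) : ℕ :=
  finrank k ((wsp g f a).map (wN g m f U ^ j))

/-- A unipotent element normalized by the torus element with weight two. -/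
structure IsWeightTwo (g : kˣ) (m : ℕ) (f U : Module.End k V) : Prop where
  g_pow : g ^ m = 1
  m_ne : (m : k) ≠ 0
  f_pow : f ^ m = 1
  nil : IsNilpotent (U - 1)
  normal : ∃ e : ℕ, (e : k) = ((g ^ 2 : kˣ) : k) ∧ f * U = U ^ e * f

variable {g : kˣ} {m : ℕ} {f U : Module.End k V}

theorem conj_pow_eq {e : ℕ} (h : f * U = U ^ e * f) : ∀ i : ℕ, f ^ i * U = U ^ (e ^ i) * f ^ i := by
  have h1 : ∀ n : ℕ, f * U ^ n = U ^ (e * n) * f := fun n => by
    induction n with
    | zero => simp
    | succ n ih => rw [pow_succ, ← mul_assoc, ih, mul_assoc, h, ← mul_assoc, ← pow_add, mul_add_one]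
  intro i
  induction i with
  | zero => simp
  | succ i ih =>
    rw [pow_succ', mul_assoc, ih, ← mul_assoc, h1, mul_assoc, ← pow_succ', ← pow_succ']

/-- `wN` is `U - 1` times a unit commuting with it. -/
theorem exists_unit (h : IsWeightTwo g m f U) :
    ∃ Q : Module.End k V, IsUnit Q ∧ Commute (U - 1) Q ∧ wN g m f U = (U - 1) * Q := by
  obtain ⟨e, he, hfU⟩ := h.normal
  set X := U - 1 with hX
  have hcX : ∀ l : ℕ, Commute X (U ^ l) := fun l =>
    ((Commute.refl U).sub_left (Commute.one_left U)).pow_right l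
  have hsub : ∀ n : ℕ, U ^ n - 1 = X * ∑ l ∈ Finset.range n, U ^ l := fun n => (mul_geom_sum U n).symm
  have hterm : ∀ i ∈ Finset.range m, f ^ i * X * f ^ (m - i) = X * ∑ l ∈ Finset.range (e ^ i), U ^ l := by
    intro i hi
    have hf : f ^ i * f ^ (m - i) = 1 := by
      rw [← pow_add, Nat.add_sub_cancel' (Finset.mem_range.1 hi).le, h.f_pow]
    rw [hX, mul_sub, mul_one, conj_pow_eq hfU, sub_mul, mul_assoc, hf, mul_one, hsub]
  set Q := (m : k)⁻¹ • ∑ i ∈ Finset.range m,
    ((g ^ (-(2 * (i : ℤ))) : kˣ) : k) • ∑ l ∈ Finset.range (e ^ i), U ^ l with hQ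
  set Q' := (m : k)⁻¹ • ∑ i ∈ Finset.range m,
    ((g ^ (-(2 * (i : ℤ))) : kˣ) : k) • ∑ l ∈ Finset.range (e ^ i), ∑ r ∈ Finset.range l, U ^ r with hQ'
  have hcQ' : Commute X Q' :=
    Commute.smul_right (Commute.sum_right _ _ _ fun i _ => Commute.smul_right
      (Commute.sum_right _ _ _ fun l _ => Commute.sum_right _ _ _ fun r _ => hcX r) _) _
  have hQone : Q = 1 + X * Q' := by
    have h1 : ∀ i : ℕ, ∑ l ∈ Finset.range (e ^ i), U ^ l =
        ((e ^ i : ℕ) : k) • (1 : Module.End k V) +
          X * ∑ l ∈ Finset.range (e ^ i), ∑ r ∈ Finset.range l, U ^ r := fun i => by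
      rw [Finset.mul_sum, Nat.cast_smul_eq_nsmul]
      simp only [← hsub]
      rw [Finset.sum_sub_distrib, Finset.sum_const, Finset.card_range, add_sub_cancel]
    have h2 : ∀ i : ℕ, ((g ^ (-(2 * (i : ℤ))) : kˣ) : k) * ((e ^ i : ℕ) : k) = 1 := fun i => by
      rw [Nat.cast_pow, he, ← Units.val_pow_eq_pow_val, ← Units.val_mul, ← pow_mul, ← zpow_natCast,
        ← zpow_add, Nat.cast_mul, Nat.cast_two, neg_add_cancel, zpow_zero, Units.val_one]
    simp only [hQ, h1, smul_add, Finset.sum_add_distrib, smul_smul, h2, one_smul]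
    congr 1
    · rw [Finset.sum_const, Finset.card_range, ← Nat.cast_smul_eq_nsmul k, smul_smul,
        inv_mul_cancel₀ h.m_ne, one_smul]
    · simp only [hQ', mul_smul_comm, Finset.mul_sum, Finset.smul_sum]
  refine ⟨Q, ?_, ?_, ?_⟩
  · rw [hQone]
    exact (hcQ'.isNilpotent_mul_right h.nil).isUnit_one_add
  · rw [hQone]
    exact (Commute.one_right X).add_right ((Commute.refl X).mul_right hcQ')
  · rw [wN, hQ, mul_smul_comm, Finset.mul_sum]
    congr 1
    refine Finset.sum_congr rfl fun i hi => ?_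
    rw [mul_smul_comm, hterm i hi]

theorem ker_wN_pow (h : IsWeightTwo g m f U) (j : ℕ) :
    LinearMap.ker (wN g m f U ^ j) = LinearMap.ker ((U - 1) ^ j) := by
  obtain ⟨Q, hQ, hc, e⟩ := exists_unit h
  obtain ⟨q, hq⟩ := hQ.pow j
  rw [e, hc.mul_pow, ← hq]
  ext v
  have hcc : (U - 1) ^ j * (q : Module.End k V) = (q : Module.End k V) * (U - 1) ^ j := by
    rw [hq]; exact (hc.pow_pow j j).eq
  rw [LinearMap.mem_ker, LinearMap.mem_ker, hcc, Module.End.mul_apply]
  refine ⟨fun h0 => ?_, fun h0 => by rw [h0, map_zero]⟩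
  have := congrArg (↑q⁻¹ : Module.End k V) h0
  rwa [map_zero, ← Module.End.mul_apply, Units.inv_mul, Module.End.one_apply] at this

theorem wN_pow_eq_zero_iff (h : IsWeightTwo g m f U) {j : ℕ} :
    wN g m f U ^ j = 0 ↔ (U - 1) ^ j = 0 := by
  rw [← LinearMap.ker_eq_top, ker_wN_pow h, LinearMap.ker_eq_top]

/-- The operator raises weights by two. -/
theorem f_mul_wN (h : IsWeightTwo g m f U) :
    f * wN g m f U = ((g ^ (2 : ℤ) : kˣ) : k) • (wN g m f U * f) := by
  rcases Nat.eq_zero_or_pos m with rfl | hm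
  · exact absurd Nat.cast_zero h.m_ne
  set A : ℕ → Module.End k V := fun i =>
    ((g ^ (-(2 * (i : ℤ))) : kˣ) : k) • (f ^ i * (U - 1) * f ^ (m - i)) with hA
  set c : k := ((g ^ (2 : ℤ) : kˣ) : k) with hc
  have hstep : ∀ i ∈ Finset.range m, f * A i = c • (A (i + 1) * f) := by
    intro i hi
    simp only [hA, hc, mul_smul_comm, smul_mul_assoc, smul_smul, ← Units.val_mul, ← zpow_add]
    congr 1
    · congr 2; push_cast; ring
    · rw [← mul_assoc, ← mul_assoc, ← pow_succ', mul_assoc _ (f ^ (m - (i + 1))), ← pow_succ,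
        show m - (i + 1) + 1 = m - i from by have := Finset.mem_range.1 hi; omega]
  have hper : A m = A 0 := by
    simp only [hA, Nat.sub_self, Nat.sub_zero, pow_zero, mul_one, one_mul, h.f_pow, Nat.cast_zero,
      mul_zero, neg_zero, zpow_zero]
    congr 1
    rw [Int.neg_mul_eq_mul_neg, mul_comm, zpow_mul, zpow_neg, zpow_natCast, h.g_pow]
    simp
  have hshift : ∑ i ∈ Finset.range m, A (i + 1) = ∑ i ∈ Finset.range m, A i := by
    have h1 := Finset.sum_range_succ' A m
    rw [Finset.sum_range_succ, hper] at h1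
    exact (add_right_cancel h1).symm
  show f * ((m : k)⁻¹ • ∑ i ∈ Finset.range m, A i) = c • (((m : k)⁻¹ • ∑ i ∈ Finset.range m, A i) * f)
  rw [mul_smul_comm, Finset.mul_sum, Finset.sum_congr rfl hstep, ← Finset.smul_sum, ← Finset.sum_mul,
    hshift, smul_mul_assoc, smul_comm]

theorem wN_pow_mem (h : IsWeightTwo g m f U) {a b : ℤ} (j : ℕ) (hab : a + 2 * j ≡ b [ZMOD m]) {v : V}
    (hv : v ∈ wsp g f a) : (wN g m f U ^ j) v ∈ wsp g f b := by
  rw [← wsp_congr h.g_pow f hab]
  clear hab
  induction j with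
  | zero => simpa using hv
  | succ j ih =>
    rw [mem_wsp] at ih ⊢
    rw [pow_succ', Module.End.mul_apply, ← Module.End.mul_apply, f_mul_wN h, LinearMap.smul_apply,
      Module.End.mul_apply, ih, map_smul, smul_smul, ← Units.val_mul, ← zpow_add]
    congr 3
    push_cast; ring

theorem wN_map_le (h : IsWeightTwo g m f U) {a b : ℤ} (j : ℕ) (hab : a + 2 * j ≡ b [ZMOD m])
    {S : Submodule k V} (hS : S ≤ wsp g f a) : S.map (wN g m f U ^ j) ≤ wsp g f b := by
  rintro _ ⟨v, hv, rfl⟩
  exact wN_pow_mem h j hab (hS hv)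

theorem wR_le [FiniteDimensional k V] (h : IsWeightTwo g m f U) {a b : ℤ} (j : ℕ)
    (hab : a + 2 * j ≡ b [ZMOD m]) : wR g m f U a j ≤ wd g f b :=
  Submodule.finrank_mono (wN_map_le h j hab le_rfl)

/-- The image of part of a weight space. -/
theorem map_finrank_ge [FiniteDimensional k V] (g : kˣ) (m : ℕ) (f U : Module.End k V) {a : ℤ} (j : ℕ)
    {S : Submodule k V} (hS : S ≤ wsp g f a) :
    finrank k S + wR g m f U a j ≤ finrank k (S.map (wN g m f U ^ j)) + wd g f a := by
  set φ := wN g m f U ^ j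
  have h1 : ∀ T : Submodule k V, finrank k (T.map φ) + finrank k (T ⊓ LinearMap.ker φ : Submodule k V) =
      finrank k T := fun T => by
    have h := LinearMap.finrank_range_add_finrank_ker (φ ∘ₗ T.subtype)
    rw [LinearMap.range_comp, Submodule.range_subtype, LinearMap.ker_comp] at h
    rw [show T ⊓ LinearMap.ker φ = ((LinearMap.ker φ).comap T.subtype).map T.subtype by
      rw [Submodule.map_comap_subtype], Submodule.finrank_map_subtype_eq]
    exact h
  have h2 := h1 S
  have h3 := h1 (wsp g f a)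
  have h4 : finrank k (S ⊓ LinearMap.ker φ : Submodule k V) ≤
      finrank k (wsp g f a ⊓ LinearMap.ker φ : Submodule k V) :=
    Submodule.finrank_mono (inf_le_inf_right _ hS)
  show _ + finrank k ((wsp g f a).map φ) ≤ finrank k (S.map φ) + finrank k (wsp g f a)
  omega

/-- Kernels in distinct weights add up. -/
theorem sum_ker_le [FiniteDimensional k V] (g : kˣ) (m : ℕ) (f U : Module.End k V) (s : Finset ℤ)
    (hs : ∀ a ∈ s, ∀ b ∈ s, g ^ a = g ^ b → a = b) (j : ℕ) :
    ∑ a ∈ s, wd g f a ≤ finrank k (LinearMap.ker (wN g m f U ^ j)) + ∑ a ∈ s, wR g m f U a j := by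
  set φ := wN g m f U ^ j
  let K : s → Submodule k V := fun a => wsp g f a ⊓ LinearMap.ker φ
  have hind : iSupIndep K := by
    have h1 : iSupIndep fun a : s => Module.End.eigenspace f ((g ^ (a : ℤ) : kˣ) : k) :=
      (Module.End.eigenspaces_iSupIndep f).comp fun a b e =>
        Subtype.ext (hs _ a.2 _ b.2 (Units.ext e))
    refine h1.mono fun a v hv => ?_
    rw [Module.End.mem_eigenspace_iff]
    exact mem_wsp.1 hv.1
  have hle : ∀ t : Finset s, ∑ a ∈ t, finrank k (K a) ≤
      finrank k ((t.sup K : Submodule k V)) := by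
    classical
    intro t
    induction t using Finset.induction with
    | empty => simp
    | insert a t ha ih =>
      rw [Finset.sum_insert ha, Finset.sup_insert]
      have hd : Disjoint (K a) (t.sup K) := by
        rw [Finset.sup_eq_iSup]
        exact (hind a).mono_right (iSup₂_le fun b hb => le_iSup₂_of_le b (by rintro rfl; exact ha hb) le_rfl)
      have h2 := Submodule.finrank_sup_add_finrank_inf_eq (K a) (t.sup K)
      rw [hd.eq_bot, finrank_bot, add_zero] at h2
      omega
  have hker : finrank k ((Finset.univ : Finset s).sup K : Submodule k V) ≤ finrank k (LinearMap.ker φ) :=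
    Submodule.finrank_mono (Finset.sup_le fun a _ => inf_le_right)
  have hK : ∀ a : s, wd g f a = finrank k (K a) + wR g m f U a j := fun a => by
    have h := LinearMap.finrank_range_add_finrank_ker (φ ∘ₗ (wsp g f a).subtype)
    rw [LinearMap.range_comp, Submodule.range_subtype, LinearMap.ker_comp] at h
    have e : finrank k (wsp g f a ⊓ LinearMap.ker φ : Submodule k V) =
        finrank k ((LinearMap.ker φ).comap (wsp g f a).subtype) := by
      rw [← Submodule.finrank_map_subtype_eq (wsp g f a) ((LinearMap.ker φ).comap (wsp g f a).subtype),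
        Submodule.map_comap_subtype]
    show finrank k (wsp g f a) = finrank k (wsp g f a ⊓ LinearMap.ker φ : Submodule k V) +
      finrank k ((wsp g f a).map φ)
    omega
  rw [← Finset.sum_coe_sort s (fun a => wd g f a), ← Finset.sum_coe_sort s (fun a => wR g m f U a j),
    Finset.sum_congr rfl fun a _ => hK a, Finset.sum_add_distrib]
  have := (hle Finset.univ).trans hker
  omega

/-- The data pass to an invariant subspace and its quotient. -/
theorem isWeightTwo_restrict (h : IsWeightTwo g m f U) {S : Submodule k V} (hf : ∀ v ∈ S, f v ∈ S)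
    (hU : ∀ v ∈ S, U v ∈ S) : IsWeightTwo g m (f.restrict hf) (U.restrict hU) := by
  obtain ⟨e, he, hfU⟩ := h.normal
  refine ⟨h.g_pow, h.m_ne, restrict_pow_eq_one h.f_pow hf, ?_, e, he, ?_⟩
  · obtain ⟨n, hn⟩ := h.nil
    refine ⟨n, ?_⟩
    have hsub : ∀ v ∈ S, (U - 1) v ∈ S := fun v hv => S.sub_mem (hU v hv) hv
    rw [show U.restrict hU - 1 = (U - 1).restrict hsub from by ext v; simp, Module.End.pow_restrict n hsub]
    ext v; simp [hn]
  · rw [Module.End.pow_restrict e hU]
    ext v
    exact LinearMap.congr_fun hfU v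

theorem wN_mem {S : Submodule k V} (hf : ∀ v ∈ S, f v ∈ S) (hU : ∀ v ∈ S, U v ∈ S) :
    ∀ v ∈ S, wN g m f U v ∈ S := fun v hv => by
  have hp : ∀ (i : ℕ), ∀ w ∈ S, (f ^ i) w ∈ S := fun i => by
    induction i with
    | zero => exact fun w hw => hw
    | succ i ih => intro w hw; rw [pow_succ', Module.End.mul_apply]; exact hf _ (ih w hw)
  simp only [wN, LinearMap.smul_apply, LinearMap.sum_apply, Module.End.mul_apply]
  exact S.smul_mem _ (S.sum_mem fun i _ => S.smul_mem _
    (hp _ _ (S.sub_mem (hU _ (hp _ _ hv)) (hp _ _ hv))))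

theorem wN_restrict {S : Submodule k V} (hf : ∀ v ∈ S, f v ∈ S) (hU : ∀ v ∈ S, U v ∈ S) (v : S) :
    ((wN g m (f.restrict hf) (U.restrict hU) v : S) : V) = wN g m f U v := by
  have hp : ∀ (i : ℕ) (w : S), (((f.restrict hf) ^ i) w : V) = (f ^ i) w := fun i => by
    induction i with
    | zero => exact fun w => rfl
    | succ i ih => intro w; rw [pow_succ', pow_succ', Module.End.mul_apply, Module.End.mul_apply, ← ih]; rfl
  simp only [wN, LinearMap.smul_apply, LinearMap.sum_apply, Module.End.mul_apply, Submodule.coe_smul,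
    Submodule.coe_sum, hp, LinearMap.sub_apply, Submodule.coe_sub, LinearMap.restrict_apply,
    Module.End.one_apply]

theorem wN_mapQ {S : Submodule k V} (hf : ∀ v ∈ S, f v ∈ S) (hU : ∀ v ∈ S, U v ∈ S) (v : V) :
    wN g m (S.mapQ S f hf) (S.mapQ S U hU) (Submodule.Quotient.mk v) =
      Submodule.Quotient.mk (wN g m f U v) := by
  have hp : ∀ (i : ℕ) (w : V), ((S.mapQ S f hf) ^ i) (Submodule.Quotient.mk w) =
      Submodule.Quotient.mk ((f ^ i) w) := fun i => by
    induction i with
    | zero => exact fun w => rfl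
    | succ i ih => intro w; rw [pow_succ', pow_succ', Module.End.mul_apply, Module.End.mul_apply, ih]; rfl
  simp only [wN, LinearMap.smul_apply, LinearMap.sum_apply, Module.End.mul_apply, hp,
    LinearMap.sub_apply, Submodule.mapQ_apply, Module.End.one_apply, ← Submodule.Quotient.mk_sub,
    ← Submodule.Quotient.mk_smul]
  rw [← S.mkQ_apply, map_smul, map_sum]
  rfl

/-- Ranks are superadditive. -/
theorem wR_add [FiniteDimensional k V] (h : IsWeightTwo g m f U) {S : Submodule k V}
    (hf : ∀ v ∈ S, f v ∈ S) (hU : ∀ v ∈ S, U v ∈ S) (a : ℤ) (j : ℕ) :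
    wR g m (f.restrict hf) (U.restrict hU) a j + wR g m (S.mapQ S f hf) (S.mapQ S U hU) a j ≤
      wR g m f U a j := by
  set N := wN g m f U
  set T := (wsp g f a).map (N ^ j) with hT
  set ψ : T →ₗ[k] V ⧸ S := S.mkQ ∘ₗ T.subtype with hψ
  have h1 := LinearMap.finrank_range_add_finrank_ker ψ
  have hqj : ∀ (i : ℕ) (w : V), (wN g m (S.mapQ S f hf) (S.mapQ S U hU) ^ i) (Submodule.Quotient.mk w) =
      Submodule.Quotient.mk ((N ^ i) w) := fun i => by
    induction i with
    | zero => exact fun w => rfl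
    | succ i ih =>
      intro w; rw [pow_succ', pow_succ', Module.End.mul_apply, Module.End.mul_apply, ih, wN_mapQ]
  have hsj : ∀ (i : ℕ) (w : S), ((((wN g m (f.restrict hf) (U.restrict hU)) ^ i) w : S) : V) =
      (N ^ i) w := fun i => by
    induction i with
    | zero => exact fun w => rfl
    | succ i ih => intro w; rw [pow_succ', pow_succ', Module.End.mul_apply, Module.End.mul_apply, wN_restrict, ih]
  have hQ : (wsp g (S.mapQ S f hf) a).map (wN g m (S.mapQ S f hf) (S.mapQ S U hU) ^ j) ≤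
      LinearMap.range ψ := by
    rintro _ ⟨q, hq, rfl⟩
    obtain ⟨v, rfl⟩ := S.mkQ_surjective q
    set F := ((g ^ (-a) : kˣ) : k) • f with hF
    have hFm : F ^ m = 1 := smul_pow_eq_one h.g_pow h.f_pow a
    have hq' : (Submodule.Quotient.mk (F v) : V ⧸ S) = Submodule.Quotient.mk v := by
      have := mem_fix.1 hq
      simpa [hF] using this
    have h2 : ∀ w ∈ S, F w ∈ S := fun w hw => S.smul_mem _ (hf w hw)
    have hi : ∀ i : ℕ, (Submodule.Quotient.mk ((F ^ i) v) : V ⧸ S) = Submodule.Quotient.mk v := fun i => by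
      induction i with
      | zero => rfl
      | succ i ih =>
        rw [← hq', pow_succ', Module.End.mul_apply, Submodule.Quotient.eq, ← map_sub]
        exact h2 _ ((Submodule.Quotient.eq S).1 ih)
    have hav : avg F m v ∈ wsp g f a := mem_fix.2 (apply_avg hFm v)
    refine ⟨⟨(N ^ j) (avg F m v), Submodule.mem_map_of_mem hav⟩, ?_⟩
    show S.mkQ ((N ^ j) (avg F m v)) = _
    rw [Submodule.mkQ_apply, Submodule.mkQ_apply, ← hqj]
    congr 1
    rw [← S.mkQ_apply]
    simp [avg, map_sum, hi, ← Nat.cast_smul_eq_nsmul k, smul_smul, inv_mul_cancel₀ h.m_ne]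
  have hS : finrank k ((wsp g (f.restrict hf) a).map (wN g m (f.restrict hf) (U.restrict hU) ^ j)) ≤
      finrank k (LinearMap.ker ψ) := by
    rw [← Submodule.finrank_map_subtype_eq S, ← Submodule.finrank_map_subtype_eq T (LinearMap.ker ψ)]
    refine Submodule.finrank_mono ?_
    rintro _ ⟨_, ⟨w, hw, rfl⟩, rfl⟩
    have hw' : (w : V) ∈ wsp g f a := mem_wsp.2 (congrArg Subtype.val (mem_wsp.1 hw))
    refine ⟨⟨(N ^ j) w, Submodule.mem_map_of_mem hw'⟩, ?_, (hsj j w).symm⟩
    show S.mkQ ((N ^ j) w) = 0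
    rw [Submodule.mkQ_apply, Submodule.Quotient.mk_eq_zero, ← hsj]
    exact Submodule.coe_mem _
  have h2 := Submodule.finrank_mono hQ
  show _ + _ ≤ finrank k T
  unfold wR
  omega

theorem isWeightTwo_mapQ (h : IsWeightTwo g m f U) {S : Submodule k V} (hf : ∀ v ∈ S, f v ∈ S)
    (hU : ∀ v ∈ S, U v ∈ S) : IsWeightTwo g m (S.mapQ S f hf) (S.mapQ S U hU) := by
  obtain ⟨e, he, hfU⟩ := h.normal
  have hp : ∀ (F : Module.End k V) (hF : ∀ v ∈ S, F v ∈ S) (i : ℕ) (w : V),
      ((S.mapQ S F hF) ^ i) (Submodule.Quotient.mk w) = Submodule.Quotient.mk ((F ^ i) w) :=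
    fun F hF i => by
      induction i with
      | zero => exact fun w => rfl
      | succ i ih => intro w; rw [pow_succ', pow_succ', Module.End.mul_apply, Module.End.mul_apply, ih]; rfl
  refine ⟨h.g_pow, h.m_ne, ?_, ?_, e, he, ?_⟩
  · refine LinearMap.ext fun q => ?_
    obtain ⟨v, rfl⟩ := S.mkQ_surjective q
    rw [Submodule.mkQ_apply, hp, h.f_pow]; rfl
  · obtain ⟨n, hn⟩ := h.nil
    have hsub : ∀ v ∈ S, (U - 1) v ∈ S := fun v hv => S.sub_mem (hU v hv) hv
    refine ⟨n, ?_⟩
    rw [show S.mapQ S U hU - 1 = S.mapQ S (U - 1) hsub from LinearMap.ext fun q => by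
      obtain ⟨v, rfl⟩ := S.mkQ_surjective q; rfl]
    refine LinearMap.ext fun q => ?_
    obtain ⟨v, rfl⟩ := S.mkQ_surjective q
    rw [Submodule.mkQ_apply, hp, hn]; rfl
  · refine LinearMap.ext fun q => ?_
    obtain ⟨v, rfl⟩ := S.mkQ_surjective q
    rw [Module.End.mul_apply, Module.End.mul_apply]
    show Submodule.Quotient.mk (f (U v)) = ((S.mapQ S U hU) ^ e) (Submodule.Quotient.mk (f v))
    rw [hp, ← Module.End.mul_apply, hfU]; rfl

end CfsgLib.FixSixth
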